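import Cfsg.Agent.Lib.A7S.Defs

/-! BA1: normal forms and symmetries of the frame `Ab` (plans/A7S.md) -/

set_option autoImplicit false
set_option linter.unusedSectionVars false

namespace CfsgLib.A7S

open Subgroup Cfsg CfsgLib.Tech CfsgLib.Dih8 CfsgLib.D8S

variable {G : Type*} [Group G] [Finite G] {A W T E S : Subgroup G} {t z e b s w ρ τ η g q c y : G}

theorem InY.symm (hy : InY T e b y) : InY T b e y := ⟨hy.1, hy.2.2, hy.2.1⟩

theorem InY.mul (hy : InY T e b y) (hc : InY T e b c) : InY T e b (y * c) :=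
  ⟨mul_mem hy.1 hc.1, hy.2.1.mul_left hc.2.1, hy.2.2.mul_left hc.2.2⟩

theorem ba1_memE : y ∈ EA T e ↔ y ∈ T ∧ Commute y e :=
  mem_inf.trans (and_congr Iff.rfl mem_centralizer_singleton_iff)

theorem ba1_cj {X : Set G} {K : Subgroup G} (h : ∀ x ∈ X, g * x * g⁻¹ ∈ K) :
    ∀ y ∈ closure X, g * y * g⁻¹ ∈ K :=
  (closure_le (K.comap (MulAut.conj g).toMonoidHom)).2 h

theorem ba1_cm {X : Set G} (h : ∀ x ∈ X, Commute x g) : ∀ y ∈ closure X, Commute y g := fun _ hy =>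
  mem_centralizer_singleton_iff.1 ((closure_le (centralizer {g})).2
    (fun x hx => mem_centralizer_singleton_iff.2 (h x hx)) hy)

theorem ba1_fix (h : Commute g y) : g * y * g⁻¹ = y := mul_inv_eq_iff_eq_mul.2 h

theorem ba1_ins {X : Set G} {x : G} (x2 : x * x = 1) (h : ∀ a ∈ X, Commute a x) (g : G) :
    g ∈ closure (insert x X) ↔ g ∈ closure X ∨ ∃ c ∈ closure X, g = c * x := by
  rw [Set.insert_eq, Subgroup.closure_union, sup_comm, ← zpowers_eq_closure]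
  exact TwoGrp.mem_sup_zpowers_iff (mem_normalizer_fintype fun n hn => by
    rw [ba1_fix (ba1_cm h n hn).symm]; exact hn) (x2 ▸ one_mem _)

theorem ba1_dbl {X : Set G} {x : G} (x2 : x * x = 1) (h : ∀ a ∈ X, Commute a x) (hx : x ∉ closure X) :
    Nat.card (closure (insert x X)) = 2 * Nat.card (closure X) :=
  TwoGrp.card_eq_two_mul_of_mem_iff hx (ba1_ins x2 h)

theorem ba1_cU (d : DG t z e b) : Nat.card (closure ({z, e} : Set G)) = 4 := by
  have h1 := ba1_ins (X := ∅) d.e2 (by simp)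
  have h2 := ba1_dbl (X := ∅) d.e2 (by simp) (by simpa using d.fq_e1)
  rw [insert_empty_eq] at h1 h2
  rw [ba1_dbl d.z2 (by simpa using (Commute.symm d.fq_ze : Commute e z)), h2, Subgroup.closure_empty, card_bot]
  rw [h1]
  simpa using ⟨d.z1, d.fq_ez.symm⟩

theorem ba1_UD (d : DG t z e b) : closure ({z, e} : Set G) ≤ closure {e, b} :=
  (closure_le _).2 (by rintro _ (rfl | rfl); exacts [d.fq_z_mem, subset_closure (by simp)])

namespace Ab

variable (h : Ab A W T t z e b s w ρ τ)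
include h

theorem tT : t ∈ T := by rw [h.Teq]; exact subset_closure (by simp)
theorem sT : s ∈ T := by rw [h.Teq]; exact subset_closure (by simp)
theorem eT : e ∈ T := by rw [h.Teq]; exact subset_closure (by simp)
theorem bT : b ∈ T := by rw [h.Teq]; exact subset_closure (by simp)
theorem zT : z ∈ T := (h.TA.ge h.dg.fq_z_mem).1
theorem wT : w ∈ T := by
  rcases h.sw with H | H
  · rw [H.2]; exact one_mem _
  · rw [H.1]; exact mul_mem h.sT h.zT
theorem eA : e ∈ A := (h.TA.ge (subset_closure (by simp))).2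
theorem bA : b ∈ A := (h.TA.ge (subset_closure (by simp))).2
theorem zA : z ∈ A := (h.TA.ge h.dg.fq_z_mem).2
theorem sz : Commute s z := h.dg.fq_cz h.se h.sb
theorem t1 : t ≠ 1 := fun H => h.dg.tD (H ▸ one_mem _)

/-- `t`, `s`, `z` are central in `T` -/
theorem cT (hy : y ∈ T) : Commute y t ∧ Commute y s ∧ Commute y z := by
  rw [h.Teq] at hy
  refine ⟨ba1_cm ?_ y hy, ba1_cm ?_ y hy, ba1_cm ?_ y hy⟩ <;> rintro _ (rfl | rfl | rfl | rfl)
  exacts [Commute.refl _, h.st, h.dg.te.symm, h.dg.tb.symm, h.st.symm, Commute.refl _, h.se.symm, h.sb.symm,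
    h.dg.fq_tz, h.sz, Commute.symm h.dg.fq_ze, Commute.symm h.dg.fq_zb]

theorem ba1_dec (hy : y ∈ T) : ∃ c, (c = 1 ∨ c = t ∨ c = s ∨ c = t * s) ∧
    ∃ d ∈ closure ({e, b} : Set G), y = c * d := by
  have hs := ba1_cm (X := {e, b}) (g := s) (by rintro _ (rfl | rfl); exacts [h.se.symm, h.sb.symm])
  have ht := ba1_cm (X := {e, b}) (g := t) (by rintro _ (rfl | rfl); exacts [h.dg.te.symm, h.dg.tb.symm])
  have h1 := ba1_ins (X := {e, b}) h.s2 (by rintro _ (rfl | rfl); exacts [h.se.symm, h.sb.symm])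
  rw [h.Teq, ba1_ins h.dg.t2 (by rintro _ (rfl | rfl | rfl); exacts [h.st, h.dg.te.symm, h.dg.tb.symm])] at hy
  rcases hy with hy | ⟨x, hx, rfl⟩
  · rcases (h1 _).1 hy with hy | ⟨d, hd, rfl⟩
    · exact ⟨1, by simp, y, hy, (one_mul _).symm⟩
    · exact ⟨s, by simp, d, hd, hs d hd⟩
  · rcases (h1 _).1 hx with hx | ⟨d, hd, rfl⟩
    · exact ⟨t, by simp, x, hx, ht x hx⟩
    · exact ⟨t * s, by simp, d, hd, by rw [mul_assoc, h.st.eq]; exact (ht d hd).mul_right (hs d hd)⟩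

theorem ba1_c (hc : c = 1 ∨ c = t ∨ c = s ∨ c = t * s) : InY T e b c ∧ c * c = 1 ∧ Commute c ρ := by
  have ht := (h.AC _ h.ρA).symm
  rcases hc with H | H | H | H <;> rw [H]
  · exact ⟨⟨one_mem _, Commute.one_left _, Commute.one_left _⟩, one_mul _, Commute.one_left _⟩
  · exact ⟨⟨h.tT, h.dg.te, h.dg.tb⟩, h.dg.t2, ht⟩
  · exact ⟨⟨h.sT, h.se, h.sb⟩, h.s2, h.ρs.symm⟩
  · exact ⟨⟨mul_mem h.tT h.sT, h.dg.te.mul_left h.se, h.dg.tb.mul_left h.sb⟩,
      by rw [h.st.mul_mul_mul_comm, h.dg.t2, h.s2, one_mul], ht.mul_left h.ρs.symm⟩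

theorem ba1_decY (hy : InY T e b y) : ∃ c, (c = 1 ∨ c = t ∨ c = s ∨ c = t * s) ∧ (y = c ∨ y = c * z) := by
  obtain ⟨c, hc, d, hd, rfl⟩ := h.ba1_dec hy.1
  obtain ⟨⟨-, ce, cb⟩, -⟩ := h.ba1_c hc
  have de : Commute d e := by simpa using ce.inv_left.mul_left hy.2.1
  have db : Commute d b := by simpa using cb.inv_left.mul_left hy.2.2
  refine ⟨c, hc, ?_⟩
  rcases h.dg.fq_cen hd de with H | H | H | H <;> rw [H] at db ⊢
  · exact .inl (mul_one _)
  · exact .inr rfl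
  · exact (h.dg.fq_ncomm db).elim
  · exact (h.dg.fq_ncomm (by simpa using db.mul_left (Commute.inv_left h.dg.fq_zb) : Commute e b)).elim

theorem memY (hy : InY T e b y) : y = 1 ∨ y = z ∨ y = t ∨ y = t * z ∨ y = s ∨ y = s * z ∨ y = t * s ∨
    y = t * s * z := by
  obtain ⟨c, hc, H⟩ := h.ba1_decY hy
  rcases hc with hc | hc | hc | hc <;> rcases H with H | H <;> rw [H, hc] <;> simp

theorem Yt : InY T e b t := ⟨h.tT, h.dg.te, h.dg.tb⟩
theorem Ys : InY T e b s := ⟨h.sT, h.se, h.sb⟩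
theorem Yz : InY T e b z := ⟨h.zT, h.dg.fq_ze, h.dg.fq_zb⟩

theorem Y2 (hy : InY T e b y) : y * y = 1 := by
  obtain ⟨c, hc, H⟩ := h.ba1_decY hy
  obtain ⟨cY, c2, -⟩ := h.ba1_c hc
  rcases H with H | H <;> rw [H]
  · exact c2
  · rw [(h.cT cY.1).2.2.symm.mul_mul_mul_comm, c2, h.dg.z2, one_mul]

theorem Yc (hy : InY T e b y) {x : G} (hx : x ∈ T) : Commute y x := by
  have := h.cT hy.1
  rw [h.Teq] at hx
  refine (ba1_cm ?_ x hx).symm
  rintro _ (rfl | rfl | rfl | rfl)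
  exacts [this.1.symm, this.2.1.symm, hy.2.1.symm, hy.2.2.symm]

theorem memT (hy : y ∈ T) : ∃ y₀, InY T e b y₀ ∧ (y = y₀ ∨ y = y₀ * e ∨ y = y₀ * b ∨ y = y₀ * (e * b)) := by
  obtain ⟨c, hc, d, hd, rfl⟩ := h.ba1_dec hy
  have cY := (h.ba1_c hc).1
  have cz := cY.mul h.Yz
  rcases h.dg.fq_mem hd with H | H | H | H | H | H | H | H <;> rw [H]
  · exact ⟨c, cY, .inl (mul_one _)⟩
  · exact ⟨_, cz, .inl rfl⟩
  · exact ⟨c, cY, .inr (.inl rfl)⟩
  · exact ⟨_, cz, .inr (.inl (by rw [mul_assoc, h.dg.fq_ze]))⟩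
  · exact ⟨c, cY, .inr (.inr (.inl rfl))⟩
  · exact ⟨_, cz, .inr (.inr (.inl (by rw [mul_assoc, h.dg.fq_zb])))⟩
  · exact ⟨c, cY, .inr (.inr (.inr rfl))⟩
  · exact ⟨_, cz, .inr (.inr (.inr (by rw [mul_assoc, mul_assoc, h.dg.fq_ze', h.dg.fq_zb])))⟩

theorem memE (hy : y ∈ EA T e) : ∃ y₀, InY T e b y₀ ∧ (y = y₀ ∨ y = y₀ * e) := by
  obtain ⟨h1, h2⟩ := ba1_memE.1 hy
  obtain ⟨y₀, hy₀, H | H | H | H⟩ := h.memT h1
  · exact ⟨y₀, hy₀, .inl H⟩
  · exact ⟨y₀, hy₀, .inr H⟩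
  · rw [H] at h2
    exact (h.dg.fq_ncomm (Commute.symm (by simpa using hy₀.2.1.inv_left.mul_left h2 : Commute b e))).elim
  · rw [H] at h2
    exact (h.dg.fq_ncomm (Commute.symm (by
      simpa using (Commute.refl e).inv_left.mul_left (by simpa using hy₀.2.1.inv_left.mul_left h2 :
        Commute (e * b) e) : Commute b e))).elim

theorem ba1_YE (hy : InY T e b y) : y ∈ EA T e := ba1_memE.2 ⟨hy.1, hy.2.1⟩

theorem ba1_eE : e ∈ EA T e := ba1_memE.2 ⟨h.eT, Commute.refl _⟩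

theorem Eeq : EA T e = closure {t, s, z, e} := by
  refine le_antisymm (fun y hy => ?_) ((closure_le _).2 ?_)
  · have m : ∀ x ∈ ({t, s, z, e} : Set G), x ∈ closure ({t, s, z, e} : Set G) := fun _ => mem_closure_of_mem
    have mt := m t (by simp)
    have ms := m s (by simp)
    have mz := m z (by simp)
    obtain ⟨y₀, hy₀, H⟩ := h.memE hy
    have : y₀ ∈ closure ({t, s, z, e} : Set G) := by
      rcases h.memY hy₀ with H | H | H | H | H | H | H | H <;> rw [H]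
      exacts [one_mem _, mz, mt, mul_mem mt mz, ms, mul_mem ms mz, mul_mem mt ms, mul_mem (mul_mem mt ms) mz]
    rcases H with H | H <;> rw [H]
    exacts [this, mul_mem this (m e (by simp))]
  · rintro _ (rfl | rfl | rfl | rfl)
    exacts [h.ba1_YE h.Yt, h.ba1_YE h.Ys, h.ba1_YE h.Yz, h.ba1_eE]

theorem E2 (hy : y ∈ EA T e) : y * y = 1 := by
  obtain ⟨y₀, hy₀, H | H⟩ := h.memE hy <;> rw [H]
  · exact h.Y2 hy₀
  · rw [hy₀.2.1.symm.mul_mul_mul_comm, h.Y2 hy₀, h.dg.e2, one_mul]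

theorem Ec (hy : y ∈ EA T e) {x : G} (hx : x ∈ EA T e) : Commute y x := by
  obtain ⟨y₀, hy₀, H | H⟩ := h.memE hy <;> rw [H]
  · exact h.Yc hy₀ hx.1
  · exact (h.Yc hy₀ hx.1).mul_left (ba1_memE.1 hx).2.symm

theorem ba1_sq (hy : y ∈ T) : (y * y = 1 ∧ (y ∈ EA T e ∨ y ∈ EA T b)) ∨ y * y = z := by
  obtain ⟨y₀, hy₀, H | H | H | H⟩ := h.memT hy <;> rw [H]
  · exact .inl ⟨h.Y2 hy₀, .inl (h.ba1_YE hy₀)⟩
  · have := mul_mem (h.ba1_YE hy₀) h.ba1_eE
    exact .inl ⟨h.E2 this, .inl this⟩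
  · exact .inl ⟨by rw [hy₀.2.2.symm.mul_mul_mul_comm, h.Y2 hy₀, h.dg.b2, one_mul],
      .inr (ba1_memE.2 ⟨mul_mem hy₀.1 h.bT, hy₀.2.2.mul_left (Commute.refl _)⟩)⟩
  · exact .inr (by rw [(hy₀.2.1.mul_right hy₀.2.2).symm.mul_mul_mul_comm, h.Y2 hy₀, h.dg.eb, one_mul])

theorem four (hy : y ∈ T) : y ^ 4 = 1 := by
  rw [show 4 = 2 * 2 from rfl, pow_mul, sq, sq]
  rcases h.ba1_sq hy with H | H
  · rw [H.1, one_mul]
  · rw [H, h.dg.z2]

/-- the involutions of `T` lie in `E_A` or in `E_B` -/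
theorem invT (hy : y ∈ T) (y2 : y * y = 1) : y ∈ EA T e ∨ y ∈ EA T b :=
  (h.ba1_sq hy).elim (·.2) fun H => (h.dg.z1 (H.symm.trans y2)).elim

theorem ba1_s (hs : s ≠ 1) : w = s * z ∧ s ∉ closure {t, e, b} := h.sw.resolve_left fun H => hs H.1

/-- independence of `t`, `s`, `D` -/
theorem indep {d : G} (hd : d ∈ closure ({e, b} : Set G)) :
    t * d ≠ 1 ∧ (s ≠ 1 → s * d ≠ 1 ∧ t * s * d ≠ 1) := by
  have hd' : d⁻¹ ∈ closure ({t, e, b} : Set G) := inv_mem (closure_mono (Set.subset_insert _ _) hd)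
  refine ⟨fun H => h.dg.tD (eq_inv_of_mul_eq_one_left H ▸ inv_mem hd), fun hs => ⟨fun H => (h.ba1_s hs).2
    (eq_inv_of_mul_eq_one_left H ▸ hd'), fun H => (h.ba1_s hs).2 ?_⟩⟩
  rw [show s = t⁻¹ * d⁻¹ by rw [← eq_inv_of_mul_eq_one_left H, inv_mul_cancel_left]]
  exact mul_mem (inv_mem (subset_closure (by simp))) hd'

theorem EAA (hy : y ∈ EA T e) (ha : y ∈ A) : y = 1 ∨ y = z ∨ y = e ∨ y = e * z :=
  h.dg.fq_cen (h.TA.le ⟨hy.1, ha⟩) (ba1_memE.1 hy).2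

theorem cardE : (s = 1 → Nat.card (EA T e) = 8) ∧ (s ≠ 1 → Nat.card (EA T e) = 16) := by
  have hs : ∀ a ∈ ({z, e} : Set G), Commute a s := by rintro _ (rfl | rfl); exacts [h.sz.symm, h.se.symm]
  have h1 := ba1_ins h.s2 hs
  rw [h.Eeq, ba1_dbl h.dg.t2 (by rintro _ (rfl | rfl | rfl); exacts [h.st, h.dg.fq_tz.symm, h.dg.te.symm])]
  · refine ⟨fun H => ?_, fun H => ?_⟩
    · rw [H, closure_insert_one, ba1_cU h.dg]
    · rw [ba1_dbl h.s2 hs fun H' => (h.ba1_s H).2 (closure_mono (Set.subset_insert _ _) (ba1_UD h.dg H')),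
        ba1_cU h.dg]
  · rw [h1]
    rintro (H | ⟨d, hd, H⟩)
    · exact h.dg.tD (ba1_UD h.dg H)
    · by_cases h2 : s = 1
      · rw [h2, mul_one] at H; exact h.dg.tD (H ▸ ba1_UD h.dg hd)
      · refine ((h.indep (inv_mem (ba1_UD h.dg hd))).2 h2).2 ?_
        rw [H, mul_assoc d, h.s2, mul_one, mul_inv_cancel]

theorem cardT : (s = 1 → Nat.card T = 16) ∧ (s ≠ 1 → Nat.card T = 32) := by
  have : Nat.card T = 2 * Nat.card (EA T e) := by
    refine TwoGrp.card_eq_two_mul_of_mem_iff (y := b) (fun H => h.dg.fq_ncomm (ba1_memE.1 H).2.symm)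
      fun g => ⟨fun hg => ?_, ?_⟩
    · obtain ⟨y₀, hy₀, H | H | H | H⟩ := h.memT hg <;> rw [H]
      exacts [.inl (h.ba1_YE hy₀), .inl (mul_mem (h.ba1_YE hy₀) h.ba1_eE), .inr ⟨_, h.ba1_YE hy₀, rfl⟩,
        .inr ⟨_, mul_mem (h.ba1_YE hy₀) h.ba1_eE, (mul_assoc _ _ _).symm⟩]
    · rintro (H | ⟨c, hc, rfl⟩)
      exacts [H.1, mul_mem hc.1 h.bT]
  rw [this]
  exact ⟨fun H => by rw [h.cardE.1 H], fun H => by rw [h.cardE.2 H]⟩

theorem ba1_w : w = 1 ∨ w = s * z := h.sw.imp (·.2) (·.1)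

theorem ba1_Yw : InY T e b w := by
  rcases h.ba1_w with H | H <;> rw [H]
  exacts [(h.ba1_c (.inl rfl)).1, h.Ys.mul h.Yz]

/-- the mirror -/
theorem symm : Ab A W T t z b e w s τ ρ := by
  have sw : w = 1 ∧ s = 1 ∨ s = w * z ∧ w ∉ closure {t, b, e} := by
    refine h.sw.imp And.symm fun H => ⟨by rw [H.1, mul_assoc, h.dg.z2, mul_one], fun H' => H.2 ?_⟩
    rw [Set.pair_comm] at H'
    rw [show s = w * z by rw [H.1, mul_assoc, h.dg.z2, mul_one]]
    exact mul_mem H' (closure_mono (Set.subset_insert _ _) h.dg.fq_z_mem)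
  refine { h with
    dg := h.dg.fq_symm, s2 := h.Y2 h.ba1_Yw, st := (h.cT h.wT).1, se := h.ba1_Yw.2.2, sb := h.ba1_Yw.2.1,
    sw := sw, Teq := ?_, TA := by rw [Set.pair_comm]; exact h.TA, ρA := h.τA, ρz := h.τz, ρe := h.τb,
    ρs := h.τw, ρ3 := h.τ3, bρ := h.eτ, τA := h.ρA, τz := h.ρz, τb := h.ρe, τw := h.ρs, τ3 := h.ρ3,
    eτ := h.bρ, nof := fun c y hc h1 h2 => h.nof c y hc h1.symm h2.symm, nUV := fun c hc h1 h2 => ?_,
    cD := fun o ho h1 h2 h3 => h.cD o ho h1 h3 h2 }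
  · refine le_antisymm (h.Teq.le.trans ((closure_le _).2 ?_)) ((closure_le _).2 ?_)
    · have m : ∀ x ∈ ({t, w, b, e} : Set G), x ∈ closure ({t, w, b, e} : Set G) := fun _ => mem_closure_of_mem
      rintro _ (rfl | rfl | rfl | rfl)
      · exact m _ (by simp)
      · rcases sw with H | H
        · rw [H.2]; exact one_mem _
        · rw [H.1, ← h.dg.eb]
          have := mul_mem (m e (by simp)) (m b (by simp))
          exact mul_mem (m w (by simp)) (mul_mem this this)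
      · exact m _ (by simp)
      · exact m _ (by simp)
    · rintro _ (rfl | rfl | rfl | rfl)
      exacts [h.tT, h.wT, h.bT, h.eT]
  · have H : (closure ({z, b} : Set G)).map (MulAut.conj c).toMonoidHom = closure {z, e} := by
      refine eq_of_le_of_card_ge (map_le_iff_le_comap.2 fun y hy => ba1_cj (g := c) (K := closure {z, e}) ?_ y hy) ?_
      · rintro _ (rfl | rfl); exacts [h1, h2]
      · rw [card_map_of_injective (MulAut.conj c).injective, ba1_cU h.dg, ba1_cU h.dg.fq_symm]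
    have k : ∀ x ∈ ({z, e} : Set G), c⁻¹ * x * c⁻¹⁻¹ ∈ closure ({z, b} : Set G) := fun x hx => by
      obtain ⟨v, hv, rfl⟩ := H.ge (subset_closure hx)
      simpa [mul_assoc] using hv
    exact h.nUV c⁻¹ hc.inv_left (k _ (by simp)) (k _ (by simp))

/-- the twist -/
theorem twist (hs : s ≠ 1) : Ab A W T t z e b (t * s) (t * w) ρ τ := by
  have c := h.ba1_c (c := t * s) (by simp)
  have mt : ∀ X : Set G, t⁻¹ ∈ closure (insert t X) := fun X => inv_mem (subset_closure (by simp))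
  refine { h with
    s2 := c.2.1, st := (h.cT c.1.1).1, se := c.1.2.1, sb := c.1.2.2,
    sw := .inr ⟨by rw [(h.ba1_s hs).1, mul_assoc], fun H => (h.ba1_s hs).2 (by simpa using mul_mem (mt _) H)⟩,
    Teq := ?_, ρs := c.2.2.symm, τw := (h.AC _ h.τA).mul_right h.τw }
  refine le_antisymm (h.Teq.le.trans ((closure_le _).2 ?_)) ((closure_le _).2 ?_)
  · have m : ∀ x ∈ ({t, t * s, e, b} : Set G), x ∈ closure ({t, t * s, e, b} : Set G) :=
      fun _ => mem_closure_of_mem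
    rintro x (H | H | H | H) <;> rw [H]
    · exact m _ (by simp)
    · simpa using mul_mem (mt _) (m (t * s) (by simp))
    · exact m _ (by simp)
    · exact m _ (by simp)
  · rintro x (H | H | H | H) <;> rw [H]
    exacts [h.tT, c.1.1, h.eT, h.bT]

theorem nT_of (h1 : g * t * g⁻¹ ∈ T) (h2 : g * s * g⁻¹ ∈ T) (h3 : g * e * g⁻¹ ∈ T) (h4 : g * b * g⁻¹ ∈ T) :
    g ∈ normalizer (T : Set G) :=
  mem_normalizer_fintype fun y hy => ba1_cj (by rintro _ (rfl | rfl | rfl | rfl) <;> assumption) y (h.Teq.le hy)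

theorem nE_of (h1 : g * t * g⁻¹ ∈ EA T e) (h2 : g * s * g⁻¹ ∈ EA T e) (h3 : g * z * g⁻¹ ∈ EA T e)
    (h4 : g * e * g⁻¹ ∈ EA T e) : g ∈ normalizer (EA T e : Set G) :=
  mem_normalizer_fintype fun y hy => ba1_cj (by rintro _ (rfl | rfl | rfl | rfl) <;> assumption) y (h.Eeq.le hy)

theorem ρE : ρ ∈ normalizer (EA T e : Set G) := by
  refine h.nE_of ?_ ?_ ?_ ?_
  · rw [ba1_fix (h.AC _ h.ρA)]; exact h.ba1_YE h.Yt
  · rw [ba1_fix h.ρs]; exact h.ba1_YE h.Ys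
  · rw [h.ρz]; exact h.ba1_eE
  · rw [h.ρe]; exact mul_mem h.ba1_eE (h.ba1_YE h.Yz)

theorem TE (hy : y ∈ T) : y ∈ normalizer (EA T e : Set G) := by
  have hb : b ∈ normalizer (EA T e : Set G) := by
    refine h.nE_of ?_ ?_ ?_ ?_
    · rw [ba1_fix h.dg.tb.symm]; exact h.ba1_YE h.Yt
    · rw [ba1_fix h.sb.symm]; exact h.ba1_YE h.Ys
    · rw [ba1_fix h.Yz.2.2.symm]; exact h.ba1_YE h.Yz
    · rw [h.dg.fq_be, ← h.dg.fq_zb, ← mul_assoc, mul_inv_cancel_right]; exact mul_mem h.ba1_eE (h.ba1_YE h.Yz)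
  refine (closure_le _).2 ?_ (h.Teq.le hy)
  rintro _ (rfl | rfl | rfl | rfl)
  exacts [le_normalizer (h.ba1_YE h.Yt), le_normalizer (h.ba1_YE h.Ys), le_normalizer h.ba1_eE, hb]

theorem nT_z (hg : g ∈ normalizer (T : Set G)) : g * z * g⁻¹ = z := by
  have H : g * (e * b) * g⁻¹ * (g * (e * b) * g⁻¹) = g * z * g⁻¹ := by rw [← h.dg.eb]; group
  rcases h.ba1_sq (conj_mem_of_mem_normalizer hg (mul_mem h.eT h.bT)) with H' | H'
  · exact (h.dg.z1 (by simpa [mul_inv_eq_one] using H.symm.trans H'.1)).elim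
  · exact H.symm.trans H'

theorem nT_Y (hg : g ∈ normalizer (T : Set G)) (hy : InY T e b y) : InY T e b (g * y * g⁻¹) := by
  have k : ∀ x ∈ T, Commute (g * y * g⁻¹) x := fun x hx => by
    simpa [mul_assoc] using (h.Yc hy (conj_mem_of_mem_normalizer (inv_mem hg) hx)).conj g
  exact ⟨conj_mem_of_mem_normalizer hg hy.1, k _ h.eT, k _ h.bT⟩

theorem ba1_cen {x : G} (hx : x ∈ EA T e) (hY : ¬ InY T e b x) (hy : y ∈ T) (hc : Commute y x) : y ∈ EA T e := by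
  obtain ⟨y₀, hy₀, H | H⟩ := h.memE hx
  · exact (hY (H ▸ hy₀)).elim
  · rw [H] at hc
    exact ba1_memE.2 ⟨hy, by simpa using (h.Yc hy₀ hy).symm.inv_right.mul_right hc⟩

theorem ba1_nE (hg : g ∈ normalizer (T : Set G)) :
    (∀ y ∈ EA T e, g * y * g⁻¹ ∈ EA T e) ∨ ∀ y ∈ EA T e, g * y * g⁻¹ ∈ EA T b := by
  have hY : ¬ InY T e b (g * e * g⁻¹) := fun H => h.dg.fq_ncomm (by
    simpa [mul_assoc] using (h.nT_Y (inv_mem hg) H).2.2 : Commute e b)
  refine (h.invT (conj_mem_of_mem_normalizer hg h.eT) ?_).imp (fun H y hy => ?_) fun H y hy => ?_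
  · rw [conj_mul, h.dg.e2, mul_one, mul_inv_cancel]
  · exact h.ba1_cen H hY (conj_mem_of_mem_normalizer hg hy.1) ((ba1_memE.1 hy).2.conj g)
  · exact h.symm.ba1_cen H (fun H' => hY H'.symm) (conj_mem_of_mem_normalizer hg hy.1) ((ba1_memE.1 hy).2.conj g)

theorem nT_E (hg : g ∈ normalizer (T : Set G)) :
    (g ∈ normalizer (EA T e : Set G) ∧ g ∈ normalizer (EA T b : Set G)) ∨
      ((∀ y ∈ EA T e, g * y * g⁻¹ ∈ EA T b) ∧ ∀ y ∈ EA T b, g * y * g⁻¹ ∈ EA T e) := by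
  have k : ¬ Commute (g * e * g⁻¹) (g * b * g⁻¹) := fun H => h.dg.fq_ncomm (by
    simpa [mul_assoc] using H.conj g⁻¹ : Commute e b)
  rcases h.ba1_nE hg with h1 | h1 <;> rcases h.symm.ba1_nE hg with h2 | h2
  · exact .inl ⟨mem_normalizer_fintype h1, mem_normalizer_fintype h2⟩
  · exact (k (h.Ec (h1 _ h.ba1_eE) (h2 _ h.symm.ba1_eE))).elim
  · exact (k (h.symm.Ec (h1 _ h.ba1_eE) (h2 _ h.symm.ba1_eE))).elim
  · exact .inr ⟨h1, h2⟩

theorem nT_sq (hg : g ∈ normalizer (T : Set G)) :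
    g * g ∈ normalizer (EA T e : Set G) ∧ g * g ∈ normalizer (EA T b : Set G) := by
  have k : ∀ y, g * g * y * (g * g)⁻¹ = g * (g * y * g⁻¹) * g⁻¹ := fun y => by group
  rcases h.nT_E hg with H | H
  · exact ⟨mul_mem H.1 H.1, mul_mem H.2 H.2⟩
  · exact ⟨mem_normalizer_fintype fun y hy => by rw [k]; exact H.2 _ (H.1 y hy),
      mem_normalizer_fintype fun y hy => by rw [k]; exact H.1 _ (H.2 y hy)⟩

/-- no element of `C(t)` maps `E_A` to `E_B` -/
theorem nosw (hc : Commute c t) (h1 : ∀ y ∈ EA T e, c * y * c⁻¹ ∈ EA T b) : False := by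
  have k : ∀ y ∈ EA T e, y ∈ A → c * y * c⁻¹ ∈ closure ({z, b} : Set G) := fun y hy ha => by
    have mz : z ∈ closure ({z, b} : Set G) := subset_closure (by simp)
    have mb : b ∈ closure ({z, b} : Set G) := subset_closure (by simp)
    rcases h.symm.EAA (h1 y hy) (h.An c hc y ha) with H | H | H | H <;> rw [H]
    exacts [one_mem _, mz, mb, mul_mem mb mz]
  exact h.nUV c hc (k _ (h.ba1_YE h.Yz) h.zA) (k _ h.ba1_eE h.eA)

/-- every element of `E_A` is conjugate under `⟨ρ⟩` to an element of `Y` -/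
theorem ρY (hy : y ∈ EA T e) : InY T e b y ∨ InY T e b (ρ * y * ρ⁻¹) ∨ InY T e b (ρ⁻¹ * y * ρ) := by
  obtain ⟨y₀, hy₀, H | H⟩ := h.memE hy <;> rw [H]
  · exact .inl hy₀
  obtain ⟨c, hc, H⟩ := h.ba1_decY hy₀
  obtain ⟨cY, -, cρ⟩ := h.ba1_c hc
  have cz := cY.mul h.Yz
  rcases H with H | H <;> rw [H]
  · refine .inr (.inr ?_)
    rwa [← h.ρz, show ρ⁻¹ * (c * (ρ * z * ρ⁻¹)) * ρ = ρ⁻¹ * (c * ρ) * z by group, cρ.eq, inv_mul_cancel_left,
      h.ρz]
  · refine .inr (.inl ?_)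
    rwa [show ρ * (c * z * e) * ρ⁻¹ = ρ * c * ρ⁻¹ * (ρ * z * ρ⁻¹ * (ρ * e * ρ⁻¹)) by group, ba1_fix cρ.symm,
      h.ρz, h.ρe, h.dg.fq_ee]

end Ab

theorem Cn.twist (h : Cn A W T t z e b s w ρ τ η) (hs : s ≠ 1) : Cn A W T t z e b (t * s) (t * w) ρ τ η := by
  refine { h with toAb := h.toAb.twist hs, sη := .inr ?_, L2 := ?_, x7 := ?_ }
  · rw [show t * s * η * (t * s)⁻¹ = t * (s * η * s⁻¹) * t⁻¹ by group, h.sη.resolve_left hs,
      ba1_fix (h.AC _ (inv_mem h.ηA)).symm]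
  · obtain ⟨c₁, h1, c₂, h2, h3, h4, h5⟩ := h.L2
    exact ⟨c₁, h1, c₂, h2, (h.AC _ h1).mul_right h3, (h.AC _ h2).mul_right h4, h5⟩
  · obtain ⟨x, h1, h2, h3⟩ := h.x7
    exact ⟨x, h1, h2, fun _ => h3 hs⟩

theorem ba1_o4 {Q : Type*} [Group Q] {a a1 a2 o : Q} (h0 : a * a = 1) (h1 : a1 * a1 = 1) (h2 : a2 * a2 = 1)
    (c0 : Commute o a) (c2 : Commute o a2) (hm : a * a1 * a2 = o) : o ^ 4 = 1 := by
  have c := c0.mul_right c2
  have e1 : a1 = o * (a * a2) := by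
    rw [← mul_assoc, c0.eq, ← hm]
    calc a1 = a * a * a1 * (a2 * a2) := by rw [h0, h2, one_mul, mul_one]
      _ = _ := by group
  have e2 : a * a1 * a⁻¹ = o * (a * a2)⁻¹ := by
    rw [e1, ← mul_assoc, ← mul_assoc, ← c0.eq, mul_assoc o, h0, mul_one, mul_inv_rev, inv_eq_of_mul_eq_one_left h2,
      mul_assoc]
  have e3 : o * (a * a2)⁻¹ * (o * (a * a2)⁻¹) = 1 := by rw [← e2, conj_mul, h1, mul_one, mul_inv_cancel]
  rw [e1, c.symm.mul_mul_mul_comm] at h1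
  rw [c.inv_right.symm.mul_mul_mul_comm, ← mul_inv_rev, mul_inv_eq_one] at e3
  rw [← e3] at h1
  rw [← h1, show 4 = 2 + 2 from rfl, pow_add, sq]

/-- the odd part of `q q₁ q₂` is trivial -/
theorem m0_gen {F : Subgroup G} {r o : G} (hF : ∀ x ∈ F, x * x = 1) (hq : q ∈ normalizer (F : Set G))
    (hr : r ∈ normalizer (F : Set G)) (q2 : q * q ∈ F) (hy : y ∈ F) (ho : Odd (orderOf o))
    (oF : ∀ x ∈ F, Commute o x) (oq : Commute o q) (oq2 : Commute o (r⁻¹ * q * r))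
    (hm : q * (r * q * r⁻¹) * (r⁻¹ * q * r) = y * o) : o = 1 := by
  have hoN : o ∈ normalizer (F : Set G) := mem_normalizer_fintype fun x hx => by rw [ba1_fix (oF x hx)]; exact hx
  let f := QuotientGroup.mk' (F.subgroupOf (normalizer (F : Set G)))
  have k : ∀ x : normalizer (F : Set G), f x = 1 ↔ (x : G) ∈ F := fun x => QuotientGroup.eq_one_iff x
  have a2 : f ⟨q, hq⟩ * f ⟨q, hq⟩ = 1 := by rw [← map_mul, k]; exact q2
  have H := ba1_o4 (a1 := f ⟨r, hr⟩ * f ⟨q, hq⟩ * (f ⟨r, hr⟩)⁻¹) (a2 := (f ⟨r, hr⟩)⁻¹ * f ⟨q, hq⟩ * f ⟨r, hr⟩)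
    (o := f ⟨o, hoN⟩) a2 (by rw [conj_mul, a2, mul_one, mul_inv_cancel])
    (by rw [← inv_inv (f ⟨r, hr⟩), inv_inv (f ⟨r, hr⟩)⁻¹, conj_mul, a2, mul_one, mul_inv_cancel])
    (Commute.map (Subtype.ext oq : Commute (⟨o, hoN⟩ : normalizer (F : Set G)) ⟨q, hq⟩) f)
    (by
      rw [← map_inv, ← map_mul, ← map_mul]
      exact Commute.map (by exact Subtype.ext oq2) f)
    (by
      rw [← map_inv, ← map_mul, ← map_mul, ← map_mul, ← map_mul, ← map_mul, ← map_mul,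
        ← one_mul (f ⟨o, hoN⟩), ← (k ⟨y, le_normalizer hy⟩).2 hy, ← map_mul]
      exact congrArg f (Subtype.ext hm))
  rw [← map_pow, k] at H
  refine DihSyl.eq_one_of_odd_of_two_pow ho (pow_orderOf_eq_one o) (k := 3) ?_
  rw [show 2 ^ 3 = 4 + 4 from rfl, pow_add]
  exact hF _ H

/-- the same if `r` centralises `o` -/
theorem m0_gen' {F : Subgroup G} {r o : G} (hF : ∀ x ∈ F, x * x = 1) (hq : q ∈ normalizer (F : Set G))
    (hr : r ∈ normalizer (F : Set G)) (r3 : r ^ 3 = 1) (q2 : q * q ∈ F) (hy : y ∈ F) (ho : Odd (orderOf o))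
    (oF : ∀ x ∈ F, Commute o x) (or : Commute o r)
    (hm : q * (r * q * r⁻¹) * (r⁻¹ * q * r) = y * o) : o = 1 := by
  have e1 : r * r = r⁻¹ := eq_inv_of_mul_eq_one_left (by rw [← r3, pow_three'])
  have e2 : r * (y * o) * r⁻¹ = q⁻¹ * (y * o) * q := by
    rw [← hm]
    calc _ = r * q * r⁻¹ * (r * r * q * (r * r)⁻¹) * q := by group
      _ = _ := by rw [e1]; group
  have e3 : y * o * (y * o) = o * o := by rw [(oF y hy).mul_mul_mul_comm, hF y hy, one_mul]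
  have e4 : Commute (o * o) q := by
    have := congrArg₂ (· * ·) e2 e2
    simp only [conj_mul] at this
    rw [e3, ba1_fix (or.mul_left or).symm, show q⁻¹ * (y * o) * q * (q⁻¹ * (y * o) * q) =
      q⁻¹ * (y * o * (y * o)) * q by group, e3, mul_assoc, eq_inv_mul_iff_mul_eq] at this
    exact this.symm
  have oq : Commute o q := by
    obtain ⟨k, hk⟩ := ho
    have := e4.pow_left (k + 1)
    rwa [← sq, ← pow_mul, show 2 * (k + 1) = orderOf o + 1 by omega, pow_succ, pow_orderOf_eq_one, one_mul] at this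
  exact m0_gen hF hq hr q2 hy ho oF oq ((or.inv_right.mul_right oq).mul_right or) hm

end CfsgLib.A7S
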