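import Cfsg.Agent.Lib.A7S.Ba1

/-! BA2: Sylow arguments in the frame `Ab` (plans/A7S.md) -/

set_option autoImplicit false
set_option linter.unusedSectionVars false

namespace CfsgLib.A7S

open Subgroup Cfsg CfsgLib.Tech CfsgLib.Dih8 CfsgLib.D8S

variable {G : Type*} [Group G] [Finite G] {A W T E S : Subgroup G} {t z e b s w ρ τ η g q c y : G}

theorem ba2_odd {o x : G} (ho : Odd (orderOf o)) (h : Commute (o * o) x) : Commute o x := by
  obtain ⟨j, hj⟩ := ho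
  have : o = (o * o) ^ (j + 1) := by
    rw [← pow_two, ← pow_mul, show 2 * (j + 1) = 2 * j + 1 + 1 by ring, pow_succ, ← hj, pow_orderOf_eq_one,
      one_mul]
  rw [this]
  exact h.pow_left _

theorem ba2_zp {u x : G} (hu : u ∈ zpowers c) (h : Commute c x) : Commute u x := by
  obtain ⟨k, rfl⟩ := hu
  exact h.zpow_left k

theorem ba2_comm {F : Subgroup G} (hF : ∀ x ∈ F, x * x = 1) {x y : G} (hx : x ∈ F) (hy : y ∈ F) :
    x * y = y * x := by
  rw [← inv_eq_of_mul_eq_one_right (hF _ (mul_mem hx hy)), mul_inv_rev, inv_eq_of_mul_eq_one_right (hF _ hx),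
    inv_eq_of_mul_eq_one_right (hF _ hy)]

namespace Ab

variable (h : Ab A W T t z e b s w ρ τ)
include h

theorem mem_T {P : Subgroup G} (hP : IsPGroup 2 P) (hT : T ≤ P) (hy : y ∈ P) (hc : Commute y t) : y ∈ T := by
  rw [← h.syl.eq_of_le (Q := P ⊓ centralizer {t}) hP.to_inf_left (le_inf hT h.syl.le) inf_le_right]
  exact ⟨hy, mem_centralizer_singleton_iff.2 hc⟩

/-- `N(T)` controls the fusion of `t` in `Y` -/
theorem ctl (hy : InY T e b y) (hc : IsConj t y) : ∃ g ∈ normalizer (T : Set G), g * t * g⁻¹ = y := by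
  obtain ⟨g, rfl⟩ := isConj_iff.1 hc
  have h1 := h.syl.cj g
  rw [cj_centralizer_singleton] at h1
  obtain ⟨k, hk, e1⟩ := h1.exists_cj_eq (h1.of_card_le h.syl.pgroup
    (fun x hx => mem_centralizer_singleton_iff.2 (h.Yc hy hx).symm) (card_cj g T).le)
  refine ⟨k * g, by rw [mem_normalizer_iff_cj, cj_mul, e1], ?_⟩
  rw [show k * g * t * (k * g)⁻¹ = k * (g * t * g⁻¹) * k⁻¹ by group, mem_centralizer_singleton_iff.1 hk,
    mul_inv_cancel_right]

/-- an element of `N(T)` fixing a conjugate of `t` in `Y` centralises `Y` -/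
theorem reg (hg : g ∈ normalizer (T : Set G)) (hy : InY T e b y) (hc : IsConj t y) (h1 : g * y * g⁻¹ = y)
    {x : G} (hx : InY T e b x) : g * x * g⁻¹ = x := by
  obtain ⟨n, hn, rfl⟩ := h.ctl hy hc
  have h2 := h.nT_Y (inv_mem hn) hx
  have h3 := h.nof (n⁻¹ * g * n) _ (mul_inv_eq_iff_eq_mul.1 (by
    rw [show n⁻¹ * g * n * t * (n⁻¹ * g * n)⁻¹ = n⁻¹ * (g * (n * t * n⁻¹) * g⁻¹) * n by group, h1]
    group)) h2 (h.nT_Y (mul_mem (mul_mem (inv_mem hn) hg) hn) h2)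
  rw [show g * x * g⁻¹ = n * (n⁻¹ * g * n * (n⁻¹ * x * n⁻¹⁻¹) * (n⁻¹ * g * n)⁻¹) * n⁻¹ by group, h3]
  group

theorem toT {P : Subgroup G} (hP : IsPGroup 2 P) (hc : ∀ x ∈ P, Commute x t) :
    ∃ c, Commute c t ∧ ∀ x ∈ P, c * x * c⁻¹ ∈ T := by
  obtain ⟨c, hc', hle⟩ := h.syl.exists_cj_le hP fun x hx => mem_centralizer_singleton_iff.2 (hc x hx)
  exact ⟨c, mem_centralizer_singleton_iff.1 hc', cj_le_iff.1 hle⟩

theorem toY {i : G} (hi : Commute i t) (i2 : i * i = 1) : ∃ c, Commute c t ∧ InY T e b (c * i * c⁻¹) := by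
  obtain ⟨c, hc, h1⟩ := h.toT (isPGroup_zpowers_of_pow (x := i) (k := 1) (by rw [pow_one, pow_two, i2]))
    fun x hx => ba2_zp hx hi
  have key : ∀ r, r ∈ A → InY T e b (r * (c * i * c⁻¹) * r⁻¹) →
      ∃ c, Commute c t ∧ InY T e b (c * i * c⁻¹) := fun r hr h2 =>
    ⟨r * c, (h.AC r hr).mul_left hc, by simpa only [mul_inv_rev, mul_assoc] using h2⟩
  rcases h.invT (h1 i (mem_zpowers i)) (by rw [conj_mul, i2, mul_one, mul_inv_cancel]) with h2 | h2
  · rcases h.ρY h2 with h3 | h3 | h3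
    · exact ⟨c, hc, h3⟩
    · exact key ρ h.ρA h3
    · exact key ρ⁻¹ (inv_mem h.ρA) (by rwa [inv_inv])
  · rcases h.symm.ρY h2 with h3 | h3 | h3
    · exact ⟨c, hc, h3.symm⟩
    · exact key τ h.τA h3.symm
    · exact key τ⁻¹ (inv_mem h.τA) (by rw [inv_inv]; exact h3.symm)

theorem nz : ¬ IsConj t z := by
  intro hc
  obtain ⟨g, hg, e1⟩ := h.ctl h.Yz hc
  have : t = z := by simpa using e1.trans (h.nT_z hg).symm
  exact h.dg.tD (this ▸ h.dg.fq_z_mem)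

theorem nA {a : G} (ha : a ∈ A) : ¬ IsConj t a := by
  intro hc
  obtain ⟨g, e1⟩ := isConj_iff.1 hc
  obtain ⟨c, hc', hy⟩ := h.toY (h.AC a ha) (by rw [← e1, conj_mul, h.dg.t2, mul_one, mul_inv_cancel])
  have h1 : IsConj t (c * a * c⁻¹) := hc.trans (isConj_iff.2 ⟨c, rfl⟩)
  rcases h.EAA ⟨hy.1, mem_centralizer_singleton_iff.2 hy.2.1⟩ (h.An c hc' a ha) with e2 | e2 | e2 | e2 <;>
    rw [e2] at h1 hy
  · exact h.t1 (isConj_one_left.1 h1)
  · exact h.nz h1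
  · exact h.dg.fq_ncomm hy.2.2
  · refine h.dg.fq_ncomm ?_
    have := hy.2.2.eq
    rwa [mul_assoc, h.dg.fq_zb, ← mul_assoc, ← mul_assoc, mul_left_inj] at this

/-- abelian 2-subgroups of `C(t)` -/
theorem ba2_half {P : Subgroup G} (hP : IsPGroup 2 P) (hc : ∀ x ∈ P, Commute x t)
    (ab : ∀ x ∈ P, ∀ y ∈ P, x * y = y * x) : Nat.card P * 2 ≤ Nat.card T := by
  obtain ⟨c, -, h1⟩ := h.toT hP hc
  rw [← card_mul_relIndex' (cj_le_iff.2 h1), card_cj]
  refine Nat.mul_le_mul_left _ (Sect.two_le_relIndex fun hle => h.dg.fq_ncomm ?_)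
  have := ab _ (mem_cj.1 (hle h.eT)) _ (mem_cj.1 (hle h.bT))
  simpa [← mul_assoc] using (by simpa [mul_assoc] using this : e * (b * c) = b * (e * c))

/-- the 2-elements of `C(E_A)` lie in `E_A` -/
theorem twoE {x : G} (h1 : Commute x t) (h2 : Commute x z) (h3 : Commute x e) (h4 : Commute x s) {k : ℕ}
    (h5 : x ^ 2 ^ k = 1) : x ∈ EA T e := by
  have hx : ∀ y ∈ EA T e, Commute x y := fun y hy => by
    rw [h.Eeq] at hy
    refine ((closure_le (centralizer {x})).2 ?_ hy x rfl)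
    rintro _ (rfl | rfl | rfl | rfl) <;> rw [SetLike.mem_coe, mem_centralizer_singleton_iff]
    exacts [h1.symm, h4.symm, h2.symm, h3.symm]
  have hn : zpowers x ≤ normalizer (EA T e : Set G) := zpowers_le.2 (mem_normalizer_of_forall fun y hy => by
    rwa [(hx y hy).eq, mul_inv_cancel_right])
  have dec : ∀ y ∈ EA T e ⊔ zpowers x, ∃ u ∈ EA T e, ∃ v ∈ zpowers x, u * v = y := fun y hy => by
    rw [← SetLike.mem_coe, coe_mul_of_right_le_normalizer_left _ _ hn] at hy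
    exact hy
  have h6 := h.ba2_half (P := EA T e ⊔ zpowers x)
    (h.syl.pgroup.to_inf_left.to_sup_of_normal_left' (isPGroup_zpowers_of_pow h5) hn)
    (fun y hy => mem_centralizer_singleton_iff.1 (sup_le (inf_le_left.trans h.syl.le)
      (zpowers_le.2 (mem_centralizer_singleton_iff.2 h1)) hy)) fun y hy y' hy' => by
      obtain ⟨u, hu, v, hv, rfl⟩ := dec y hy
      obtain ⟨u', hu', v', hv', rfl⟩ := dec y' hy'
      exact ((h.Ec hu hu').mul_right (ba2_zp hv' (hx u hu)).symm).mul_left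
        ((ba2_zp hv (hx u' hu')).mul_right (ba2_zp hv (ba2_zp hv' (Commute.refl x)).symm))
  have h7 : Nat.card T = Nat.card (EA T e) * 2 := by
    by_cases hs : s = 1
    · rw [h.cardT.1 hs, h.cardE.1 hs]
    · rw [h.cardT.2 hs, h.cardE.2 hs]
  rw [eq_of_le_of_card_ge (le_sup_left : EA T e ≤ EA T e ⊔ zpowers x) (by omega)]
  exact mem_sup_right (mem_zpowers x)

theorem decE (h1 : Commute c t) (h2 : Commute c z) (h3 : Commute c e) (h4 : Commute c s) :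
    ∃ y ∈ EA T e, ∃ o ∈ zpowers c, Odd (orderOf o) ∧ c = y * o := by
  obtain ⟨u, hu, o, ho, h5, h6, e1⟩ := fq_split c
  obtain ⟨k, hk⟩ := isPGroup_iff_mem.1 h5 u (mem_zpowers u)
  exact ⟨u, h.twoE (ba2_zp hu h1) (ba2_zp hu h2) (ba2_zp hu h3) (ba2_zp hu h4) hk, o, ho, h6, e1⟩

theorem decT (h1 : Commute c t) (h2 : Commute c e) (h3 : Commute c b) (h4 : Commute c s) :
    ∃ y, InY T e b y ∧ ∃ k ∈ W, k ∈ zpowers c ∧ c = y * k := by
  obtain ⟨u, hu, o, ho, h5, h6, e1⟩ := fq_split c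
  obtain ⟨k, hk⟩ := isPGroup_iff_mem.1 h5 u (mem_zpowers u)
  have := h.twoE (ba2_zp hu h1) (ba2_zp hu (h.dg.fq_cz h2 h3)) (ba2_zp hu h2) (ba2_zp hu h4) hk
  exact ⟨u, ⟨this.1, ba2_zp hu h2, ba2_zp hu h3⟩, o,
    h.cD o h6 (ba2_zp ho h1) (ba2_zp ho h2) (ba2_zp ho h3), ho, e1⟩

/-- the 2-rank of `C(t)` -/
theorem rank {d : G} (hd : IsConj t d) {F : Subgroup G} (hF : ∀ x ∈ F, x * x = 1) (hc : ∀ x ∈ F, Commute x d) :
    Nat.card F ≤ 16 ∧ (s = 1 → Nat.card F ≤ 8) := by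
  obtain ⟨g, rfl⟩ := isConj_iff.1 hd.symm
  have h1 := h.ba2_half (P := cj g F)
    (isPGroup_cj g (isPGroup_iff_mem.2 fun x hx => ⟨1, by rw [pow_one, pow_two, hF x hx]⟩))
    (by rintro _ ⟨x, hx, rfl⟩; exact (hc x hx).map (MulAut.conj g))
    (by
      rintro _ ⟨x, hx, rfl⟩ _ ⟨y, hy, rfl⟩
      rw [← map_mul, ← map_mul, ba2_comm hF hx hy])
  rw [card_cj] at h1
  refine ⟨?_, fun hs => ?_⟩
  · by_cases hs : s = 1
    · have := h.cardT.1 hs
      omega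
    · have := h.cardT.2 hs
      omega
  · have := h.cardT.1 hs
    omega

theorem card_le {d : G} (hd : IsConj t d) {P : Subgroup G} (hP : IsPGroup 2 P) (hc : ∀ x ∈ P, Commute x d) :
    Nat.card P ≤ Nat.card T := by
  obtain ⟨g, rfl⟩ := isConj_iff.1 hd.symm
  rw [← card_cj g P]
  refine h.syl.card_le (isPGroup_cj g hP) ?_
  rintro _ ⟨x, hx, rfl⟩
  exact mem_centralizer_singleton_iff.2 ((hc x hx).map (MulAut.conj g))

/-- a 2-element in place of `g` -/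
theorem two_el (hg : g ∈ normalizer (T : Set G)) (h1 : g * t * g⁻¹ = y) (h2 : g * y * g⁻¹ = t) :
    ∃ g' ∈ zpowers g, g' * t * g'⁻¹ = y ∧ g' * y * g'⁻¹ = t ∧ g' * g' ∈ T := by
  obtain ⟨u, hu, o, ho, h5, h6, e1⟩ := fq_split g
  have k1 : Commute (g * g) t := mul_inv_eq_iff_eq_mul.1 (by
    rw [show g * g * t * (g * g)⁻¹ = g * (g * t * g⁻¹) * g⁻¹ by group, h1, h2])
  have k2 : Commute (g * g) y := mul_inv_eq_iff_eq_mul.1 (by
    rw [show g * g * y * (g * g)⁻¹ = g * (g * y * g⁻¹) * g⁻¹ by group, h2, h1])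
  have sq : ∀ v ∈ zpowers g, v * v ∈ zpowers (g * g) := by
    rintro _ ⟨k, rfl⟩
    exact ⟨k, (Commute.refl g).mul_zpow k⟩
  have key : ∀ x, Commute (g * g) x → u * x * u⁻¹ = g * x * g⁻¹ := fun x hx => by
    rw [e1, mul_assoc u o, (ba2_odd h6 (ba2_zp (sq o ho) hx)).eq]
    group
  refine ⟨u, hu, (key t k1).trans h1, (key y k2).trans h2, ?_⟩
  have hu' : u ∈ normalizer (T : Set G) := zpowers_le.2 hg hu
  exact h.syl.le_of_normalizes (Q := zpowers (u * u))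
    (h5.to_le (zpowers_le.2 (mul_mem (mem_zpowers u) (mem_zpowers u))))
    (zpowers_le.2 (mem_centralizer_singleton_iff.2 (ba2_zp (sq u hu) k1)))
    (zpowers_le.2 (mul_mem hu' hu')) (mem_zpowers _)

/-- a 2-group `S ≥ T` whose conjugates of `t` are conjugate in `S` is a Sylow subgroup -/
theorem syl_of (hS : IsPGroup 2 S) (hT : T ≤ S) (h1 : ∀ d ∈ S, IsConj t d → ∃ n ∈ S, n * t * n⁻¹ = d) :
    IsSylowIn 2 S ⊤ := by
  refine isSylowIn_of_maximal hS le_top fun R hR hle _ => ?_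
  by_contra hn
  obtain ⟨x, hx, hxS, hxN⟩ := exists_mem_normalizer_of_lt hR (lt_of_le_not_ge hle hn)
  obtain ⟨n, hn', e1⟩ := h1 _ (conj_mem_of_mem_normalizer hxN (hT h.tT)) (isConj_iff.2 ⟨x, rfl⟩)
  have h2 := h.mem_T hR (hT.trans hle) (mul_mem (inv_mem (hle hn')) hx) (mul_inv_eq_iff_eq_mul.1 (by
    rw [show n⁻¹ * x * t * (n⁻¹ * x)⁻¹ = n⁻¹ * (x * t * x⁻¹) * n by group, ← e1]
    group))
  exact hxS ((mul_mem_cancel_left (inv_mem hn')).1 (hT h2))

end Ab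

end CfsgLib.A7S
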