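import Cfsg.Agent.Lib.A7S.Defs
import Cfsg.Agent.Lib.Dih8.Fq1a

/-! Tools for BE0 and BE2 (plans/A7S.md) -/

set_option autoImplicit false
set_option linter.unusedSectionVars false

namespace CfsgLib.A7S

open Subgroup Cfsg CfsgLib.Tech

variable {G : Type*} [Group G] {H U F : Subgroup G} {g a c a' c' x y z e s n : G}

theorem bt_mul (h1 : g * a * g⁻¹ = a') (h2 : g * c * g⁻¹ = c') : g * (a * c) * g⁻¹ = a' * c' := by
  rw [← h1, ← h2]; group

theorem bt_comp {h : G} (h1 : h * a * h⁻¹ = c) (h2 : g * c * g⁻¹ = c') :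
    g * h * a * (g * h)⁻¹ = c' := by
  rw [← h2, ← h1]; group

theorem bt_cj {q : G} (h1 : g * a * g⁻¹ = a') (h2 : q * a * q⁻¹ = c) (h3 : g * c * g⁻¹ = c') :
    g * q * g⁻¹ * a' * (g * q * g⁻¹)⁻¹ = c' := by
  rw [← h1, ← h3, ← h2]; group

theorem bt_inv (h1 : g * a * g⁻¹ = c) : g⁻¹ * c * g⁻¹⁻¹ = a := by rw [← h1]; group

theorem bt_comm (h1 : g * a * g⁻¹ = a) : Commute g a := mul_inv_eq_iff_eq_mul.1 h1

theorem bt_pow (hx : x ∈ zpowers c) (h : Commute c a) : Commute x a := by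
  obtain ⟨k, rfl⟩ := hx
  exact h.zpow_left k

theorem bt_two (xx : x * x = 1) (hy : y ∈ zpowers x) : y = 1 ∨ y = x := by
  obtain ⟨k, rfl⟩ := hy
  have h2 : x ^ (2 : ℤ) = 1 := by rw [zpow_two, xx]
  obtain ⟨j, rfl | rfl⟩ := Int.even_or_odd' k
  · left; simp only [zpow_mul, h2, one_zpow]
  · right; simp only [zpow_add, zpow_mul, h2, one_zpow, one_mul, zpow_one]

theorem bt_sup (hx : x ∈ normalizer (H : Set G)) (xx : x * x = 1) (hy : y ∈ H ⊔ zpowers x) :
    ∃ h ∈ H, y = h ∨ y = h * x := by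
  rw [sup_comm] at hy
  obtain ⟨a, ha, b, hb, rfl⟩ := (Sect.mem_sup_of_norm fun a ha b hb =>
    conj_mem_of_mem_normalizer (zpowers_le.2 hx ha) hb).1 hy
  rcases bt_two xx ha with rfl | rfl
  · exact ⟨b, hb, .inl (one_mul b)⟩
  · exact ⟨_, conj_mem_of_mem_normalizer hx hb, .inr (by group)⟩

theorem bt_cn (h : H ≤ centralizer {x}) : x ∈ normalizer (H : Set G) :=
  centralizer_le_normalizer _ fun _ hh => mem_centralizer_singleton_iff.1 (h hh)

theorem bt_c (h : Commute a x) : zpowers a ≤ centralizer {x} :=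
  zpowers_le.2 (mem_centralizer_singleton_iff.2 h)

theorem bt_m (h : a ∈ centralizer ({x} : Set G)) : Commute a x := mem_centralizer_singleton_iff.1 h

theorem bt_sq {f u : G} (h1 : g * f * g⁻¹ = f * u) (h2 : g * g = u) (ff : f * f = 1)
    (uu : u * u = 1) : g * f * (g * f) = 1 := by
  calc g * f * (g * f) = g * f * g⁻¹ * (g * g) * f := by group
    _ = f * (u * u) * f := by rw [h1, h2]; group
    _ = 1 := by rw [uu, mul_one, ff]

theorem bt_dbl [Finite G] {K : Subgroup G} (le : H ≤ K) (hx : x ∈ K) (hn : x ∉ H) :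
    2 * Nat.card H ≤ Nat.card K := by
  rw [Sect.card_eq_relIndex' le, mul_comm]
  exact Nat.mul_le_mul_left _ (Sect.two_le_relIndex fun h => hn (h hx))

/-- the elements that centralise `U` and fix the coset `a U` -/
def btSt (U : Subgroup G) (a : G) : Subgroup G where
  carrier := {g | g ∈ centralizer (U : Set G) ∧ ∃ u ∈ U, g * a * g⁻¹ = a * u}
  one_mem' := ⟨one_mem _, 1, one_mem _, by group⟩
  mul_mem' := by
    rintro g h ⟨h1, u, hu, e1⟩ ⟨h2, v, hv, e2⟩
    refine ⟨mul_mem h1 h2, u * v, mul_mem hu hv, bt_comp e2 ?_⟩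
    rw [bt_mul e1 (show g * v * g⁻¹ = v by rw [← h1 v hv]; group), mul_assoc]
  inv_mem' := by
    rintro g ⟨h1, u, hu, e1⟩
    refine ⟨inv_mem h1, u⁻¹, inv_mem hu, bt_inv ?_⟩
    rw [bt_mul e1 (show g * u⁻¹ * g⁻¹ = u⁻¹ by rw [← h1 _ (inv_mem hu)]; group)]
    group

theorem btSt_sq (hU : ∀ u ∈ U, u * u = 1) (hg : g ∈ btSt U a) : Commute (g * g) a := by
  obtain ⟨h1, u, hu, e1⟩ := hg
  refine bt_comm (bt_comp e1 ?_)
  rw [bt_mul e1 (show g * u * g⁻¹ = u by rw [← h1 u hu]; group), mul_assoc, hU u hu, mul_one]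

/-- if all squares of `N` lie in the normal subgroup `C`, then a Sylow 2-subgroup covers `N / C` -/
theorem bt_cover [Finite G] {P N C : Subgroup G} (hP : IsSylowIn 2 P N)
    (hn : N ≤ normalizer (C : Set G)) (sq : ∀ g ∈ N, g * g ∈ C) (hx : x ∈ N) :
    ∃ k ∈ P, k⁻¹ * x ∈ C := by
  have : (C.subgroupOf N).Normal := normal_subgroupOf_of_le_normalizer hn
  have h2 : IsPGroup 2 (N ⧸ C.subgroupOf N) := fun q => by
    obtain ⟨g, rfl⟩ := QuotientGroup.mk_surjective q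
    exact ⟨1, by rw [pow_one, pow_two, ← QuotientGroup.mk_mul, QuotientGroup.eq_one_iff]; exact sq g g.2⟩
  let Q := hP.toSylow.mapSurjective (QuotientGroup.mk'_surjective (C.subgroupOf N))
  have h3 : (Q : Subgroup (N ⧸ C.subgroupOf N)) = ⊤ :=
    (Q.3 (h2.to_subgroup ⊤) le_top).symm
  obtain ⟨k, hk, e⟩ : QuotientGroup.mk' (C.subgroupOf N) ⟨x, hx⟩ ∈
    (Q : Subgroup (N ⧸ C.subgroupOf N)) := h3 ▸ mem_top _
  exact ⟨k, hk, (QuotientGroup.eq (s := C.subgroupOf N)).1 e⟩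

/-- squares in a group generated by elements that commute modulo a central involution -/
theorem bt_sqs {S : Set G} {w : G} (ww : w * w = 1) (hw : ∀ a ∈ S, Commute a w)
    (h1 : ∀ a ∈ S, a * a = 1 ∨ a * a = w)
    (h2 : ∀ a ∈ S, ∀ c ∈ S, a * c * a⁻¹ = c ∨ a * c * a⁻¹ = c * w) (hx : x ∈ closure S) :
    x * x = 1 ∨ x * x = w := by
  have c1 : ∀ a ∈ closure S, Commute a w := fun a ha =>
    bt_m ((closure_le _).2 (fun c hc => mem_centralizer_singleton_iff.2 (hw c hc)) ha)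
  have c2 : ∀ c ∈ S, ∀ a ∈ closure S, a ∈ btSt (zpowers w) c := fun c hc =>
    (closure_le _).2 fun a ha => ⟨fun u hu => (bt_pow hu (hw a ha).symm).eq, by
      rcases h2 a ha c hc with e | e
      exacts [⟨1, one_mem _, by rw [e, mul_one]⟩, ⟨w, mem_zpowers w, e⟩]⟩
  have c3 : ∀ a ∈ closure S, ∀ c ∈ closure S, c ∈ btSt (zpowers w) a := fun a ha =>
    (closure_le _).2 fun c hc => ⟨fun u hu => (bt_pow hu (hw c hc).symm).eq, by
      obtain ⟨-, u, hu, e⟩ := c2 c hc a ha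
      refine ⟨u⁻¹, inv_mem hu, ?_⟩
      have e1 := (bt_pow hu (c1 a ha).symm).eq
      have e2 := (bt_pow hu (hw c hc).symm).eq
      calc c * a * c⁻¹ = c * u * u⁻¹ * a * c⁻¹ := by group
        _ = a * c * (a⁻¹ * u⁻¹ * a) * c⁻¹ := by rw [← e]; group
        _ = a * (c * u⁻¹ * c⁻¹) := by
          rw [show a⁻¹ * u⁻¹ * a = (a⁻¹ * (u * a))⁻¹ by group, e1]; group
        _ = a * u⁻¹ := by
          rw [show c * u⁻¹ * c⁻¹ = (c * u * c⁻¹)⁻¹ by group, ← e2]; group⟩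
  refine bt_two ww ?_
  induction hx using closure_induction with
  | mem a ha => rcases h1 a ha with e | e <;> rw [e] <;> simp
  | one => simp
  | mul a c ha hc ia ic =>
    obtain ⟨-, u, hu, e⟩ := c3 a ha c hc
    rw [show a * c * (a * c) = a * (c * a * c⁻¹) * (c * c) by group, e,
      show a * (a * u) * (c * c) = a * a * u * (c * c) by group]
    exact mul_mem (mul_mem ia hu) ic
  | inv a _ ia => rw [← mul_inv_rev]; exact inv_mem ia

end CfsgLib.A7S
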