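import Cfsg.Agent.Lib.A7S.Ba2
import Cfsg.Agent.Lib.ZStar.Main
import Cfsg.Agent.Lib.Yos.Defs

/-! GLB: the global frame (plans/A7S.md) -/

set_option autoImplicit false
set_option linter.unusedSectionVars false

namespace CfsgLib.A7S

open Subgroup Cfsg CfsgLib.Tech CfsgLib.Dih8 CfsgLib.D8S

variable {G : Type*} [Group G] [Finite G] {A W T E S : Subgroup G} {t z e b s w ρ τ η g q c y : G}

namespace Gl

variable (l : Gl E A t)
include l

theorem sq (t2 : t * t = 1) (g : G) : g * g ∈ E := by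
  rcases l.idx g with h | h
  · exact mul_mem h h
  · have := mul_mem h (l.nE.conj_mem _ h t)
    rwa [show g * t * (t * (g * t) * t⁻¹) = g * (t * t) * g by group, t2, mul_one] at this

theorem mul_iff (t2 : t * t = 1) {x y : G} (hx : x ∉ E) : x * y ∈ E ↔ y ∉ E := by
  refine ⟨fun h hy => hx ((mul_mem_cancel_right hy).1 h), fun hy => ?_⟩
  have := mul_mem ((l.idx x).resolve_left hx) (l.nE.conj_mem _ ((l.idx y).resolve_left hy) t)
  rwa [show x * t * (t * (y * t) * t⁻¹) = x * (t * t) * y by group, t2, mul_one] at this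

theorem cube (t2 : t * t = 1) {x₁ x₂ : G} (h1 : IsConj g x₁) (h2 : IsConj g x₂) (h3 : g * x₁ * x₂ ∈ E) :
    g ∈ E := by
  by_contra hg
  have key : ∀ x, IsConj g x → x ∉ E := fun x hx h => by
    obtain ⟨c, rfl⟩ := isConj_iff.1 hx.symm
    exact hg (l.nE.conj_mem _ h c)
  exact key _ h2 ((mul_mem_cancel_left ((l.mul_iff t2 hg).2 (key _ h1))).1 h3)

theorem conj {x y : G} (h : IsConj x y) : x ∈ E ↔ y ∈ E := by
  obtain ⟨c, rfl⟩ := isConj_iff.1 h
  exact ⟨fun h => l.nE.conj_mem _ h c, fun h => by simpa [mul_assoc] using l.nE.conj_mem _ h c⁻¹⟩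

theorem comm (t2 : t * t = 1) (x y : G) : x * y * x⁻¹ * y⁻¹ ∈ E := by
  exact Sect.comm_mem (H := ⊤) (fun g _ => l.sq t2 g) (mem_top x) (mem_top y)

theorem top (ht : t ∈ E) : E = ⊤ := by
  exact eq_top_iff.2 fun g _ => (l.idx g).elim id fun h => (mul_mem_cancel_right ht).1 h

theorem odd (t2 : t * t = 1) (hA : Even (Nat.card A)) : oddCore G = ⊥ := by
  have := l.sE
  have := l.nE
  have hn : (oddCore G).Normal := haveI := Core.pPrimeCore_characteristic 2 G; inferInstance
  rcases (hn.subgroupOf E).eq_bot_or_eq_top with h | h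
  · rw [eq_bot_iff, ← l.cE]
    exact fun o ho x hx => (commute_of_normal_of_disjoint _ _ hn l.nE (subgroupOf_eq_bot.1 h) o x ho hx).symm
  · exact absurd ((Core.odd_card_oddCore G).of_dvd_nat
      (card_dvd_of_le (l.le.trans (subgroupOf_eq_top.1 h)))) (Nat.not_odd_iff_even.2 hA)

theorem ncen (t1 : t ≠ 1) : t ∉ center G := by
  exact fun h => t1 (l.cE.le (center_le_centralizer _ h))

/-- Thompson's transfer lemma in `E` -/
theorem thom {M : Subgroup G} (hS : IsSylowIn 2 S E) (hM : M.relIndex S = 2) {u : G} (hu : u ∈ E)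
    (u2 : u * u = 1) : ∃ g ∈ E, g * u * g⁻¹ ∈ M := by
  have := l.sE
  obtain ⟨g, h1, -⟩ := Transfer.thompson_transfer_extremal (G := E) (H := S.subgroupOf E)
    (Q := M.subgroupOf E) (R := ⊥) (u := ⟨u, hu⟩) (fun N hN => by
      rcases (normal_of_index_eq_two hN).eq_bot_or_eq_top with h | h <;> rw [h] at hN
      · rw [index_bot] at hN
        have := isCyclic_of_prime_card hN
        exact l.nab inferInstance
      · rw [index_top] at hN
        omega)
    hS.not_dvd (by rw [relIndex_subgroupOf hS.le, hM]) (Subtype.ext u2) IsPGroup.of_bot bot_le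
  exact ⟨(g : G)⁻¹, inv_mem g.2, by rw [inv_inv]; exact h1⟩

theorem sylE (hS : IsSylowIn 2 S ⊤) : IsSylowIn 2 (S ⊓ E) E := by
  have := l.nE
  simpa using hS.inf_of_le_normalizer (N := E) le_normalizer_of_normal

/-- no section `E₃₂` in `E` -/
theorem no32 {X : Subgroup G} (hX : X ≤ E) {u : G} (u2 : u * u = 1) (h1 : ∀ x ∈ X, x * x = 1 ∨ x * x = u)
    (h2 : 32 < Nat.card X) : False := by
  have h3 := l.rk X hX (zpowers u) fun x hx => (h1 x hx).elim (fun e => e ▸ one_mem _)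
    fun e => e ▸ mem_zpowers u
  have h4 : Nat.card (zpowers u ⊓ X : Subgroup G) ≤ 2 := (card_le_of_le inf_le_left).trans (by
    rw [Nat.card_zpowers]
    exact orderOf_le_of_pow_eq_one two_pos (by rw [pow_two, u2]))
  have h5 := Nat.mul_le_mul h4 h3
  rw [← Sect.card_eq_relIndex] at h5
  omega

theorem no32' {X : Subgroup G} (hX : X ≤ E) (h1 : ∀ x ∈ X, x * x = 1) (h2 : 16 < Nat.card X) : False := by
  exact absurd (l.rk.card_le hX h1) (not_le.2 h2)

end Gl

/-- the Z*-theorem -/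
theorem Ab.zst (h : Ab A W T t z e b s w ρ τ) (l : Gl E A t) : ∃ y, InY T e b y ∧ IsConj t y ∧ y ≠ t := by
  by_contra hn
  push Not at hn
  refine l.ncen h.t1 (ZStar.zstar_center (l.odd h.dg.t2 ?_)
    ⟨orderOf_eq_prime (by rw [pow_two, h.dg.t2]) h.t1, fun g hg => ?_⟩)
  · have := orderOf_dvd_natCard (⟨z, h.zA⟩ : A)
    rw [orderOf_mk, orderOf_eq_prime (p := 2) (by rw [pow_two, h.dg.z2]) h.dg.z1] at this
    exact even_iff_two_dvd.2 this
  · obtain ⟨c, hc, hy⟩ := h.toY hg.symm (by rw [conj_mul, h.dg.t2, mul_one, mul_inv_cancel])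
    have := hn _ hy ((isConj_iff.2 ⟨g, rfl⟩).trans (isConj_iff.2 ⟨c, rfl⟩))
    rw [mul_inv_eq_iff_eq_mul, ← hc.eq] at this
    exact mul_left_cancel this

end CfsgLib.A7S
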