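import Cfsg.Agent.Lib.A7S.Ul
import Cfsg.Agent.Lib.A7S.Glb
import Cfsg.Agent.Lib.A7S.BeT

/-! BE0: type Q, `μ = 0` (plans/A7S.md) -/

set_option autoImplicit false
set_option linter.unusedSectionVars false

namespace CfsgLib.A7S

open Subgroup Cfsg CfsgLib.Tech CfsgLib.Dih8 CfsgLib.D8S

variable {G : Type*} [Group G] [Finite G] {A W T E S : Subgroup G} {t z e b s w ρ τ η g q c y : G}

theorem be0_comm {a : G} (h1 : a * a = w) (h2 : c * c = w) (h3 : a * c⁻¹ * (a * c⁻¹) = 1) :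
    Commute a c := by
  have h4 : a * c⁻¹ = c * a⁻¹ := by
    rw [eq_inv_of_mul_eq_one_left h3]; group
  calc a * c = a * c⁻¹ * (c * c) := by group
    _ = c * a⁻¹ * (a * a) := by rw [h4, h1, h2]
    _ = c * a := by group

theorem be0_sym {a : G} (ww : w * w = 1) (h1 : Commute a w) (h2 : Commute c w)
    (h : a * c * a⁻¹ = c ∨ a * c * a⁻¹ = c * w) : c * a * c⁻¹ = a ∨ c * a * c⁻¹ = a * w := by
  rcases h with h | h
  · exact .inl (bt_comm h).symm.mul_inv_cancel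
  · right
    calc c * a * c⁻¹ = c * w * (w * a) * c⁻¹ := by rw [mul_assoc c w, ← mul_assoc w, ww, one_mul]
      _ = a * (c * (a⁻¹ * (w * a)) * c⁻¹) := by rw [← h]; group
      _ = a * w := by rw [← h1.eq, inv_mul_cancel_left, h2.mul_inv_cancel]

/-- the group `⟨w, z, b, f₁, f₂, f₃⟩` has a section `E₃₂` -/
theorem be0_abs (l : Gl E A t) {f₁ f₂ f₃ : G} (d : DG t z e b) (ww : w * w = 1)
    (wz : Commute z w) (wb : Commute b w) (wt : Commute w t) (wD : w ∉ closure {t, e, b})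
    (le : closure {w, z, b, f₁, f₂, f₃} ≤ E) (s1 : f₁ * f₁ = w) (s2 : f₂ * f₂ = w) (s3 : f₃ * f₃ = w)
    (c1 : Commute f₁ f₂) (c2 : Commute f₁ f₃) (c3 : Commute f₂ f₃)
    (z1 : f₁ * z * f₁⁻¹ = z) (z2 : f₂ * z * f₂⁻¹ = z * w) (z3 : f₃ * z * f₃⁻¹ = z * w)
    (b1 : f₁ * b * f₁⁻¹ = b * w) (b2 : f₂ * b * f₂⁻¹ = b) (b3 : f₃ * b * f₃⁻¹ = b * w)
    (t1 : f₁ * t * f₁⁻¹ = t * z) (t2 : f₂ * t * f₂⁻¹ = t * b) (t3 : f₃ * t * f₃⁻¹ = t * (b * z)) :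
    False := by
  have cw : ∀ f : G, f * f = w → Commute f w := fun f hf => by
    rw [← hf]; exact (Commute.refl f).mul_right (.refl f)
  have w1 := cw _ s1
  have w2 := cw _ s2
  have w3 := cw _ s3
  have zb : Commute z b := d.fq_zb
  have w0 : w ≠ 1 := fun k => wD (k ▸ one_mem _)
  have kw : ∀ x : G, x * w * w = x := fun x => by rw [mul_assoc, ww, mul_one]
  have gz : f₁ * f₂ * f₃ * z * (f₁ * f₂ * f₃)⁻¹ = z :=
    bt_comp z3 (bt_comp (by rw [bt_mul z2 w2.mul_inv_cancel, kw]) z1)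
  have gb : f₁ * f₂ * f₃ * b * (f₁ * f₂ * f₃)⁻¹ = b :=
    bt_comp b3 (bt_comp (bt_mul b2 w2.mul_inv_cancel) (by rw [bt_mul b1 w1.mul_inv_cancel, kw]))
  have gt : f₁ * f₂ * f₃ * t * (f₁ * f₂ * f₃)⁻¹ = t * w :=
    bt_comp t3 (bt_comp (c := t * (z * w)) (by rw [bt_mul t2 (bt_mul b2 z2), mul_assoc, d.fq_bb])
      (by rw [bt_mul t1 (bt_mul z1 w1.mul_inv_cancel), mul_assoc, d.fq_zz]))
  refine l.no32 le ww (fun x hx => bt_sqs ww ?_ ?_ ?_ hx) ?_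
  · rintro _ (rfl | rfl | rfl | rfl | rfl | rfl)
    exacts [.refl _, wz, wb, w1, w2, w3]
  · rintro _ (rfl | rfl | rfl | rfl | rfl | rfl)
    exacts [.inl ww, .inl d.z2, .inl d.b2, .inr s1, .inr s2, .inr s3]
  · rintro _ (rfl | rfl | rfl | rfl | rfl | rfl) _ (rfl | rfl | rfl | rfl | rfl | rfl) <;>
    first
    | exact .inl (mul_inv_cancel_right _ _)
    | exact .inl (Commute.mul_inv_cancel ‹_›)
    | exact .inl (Commute.mul_inv_cancel (Commute.symm ‹_›))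
    | exact .inl ‹_›
    | exact .inr ‹_›
    | exact be0_sym ww ‹_› ‹_› (.inl ‹_›)
    | exact be0_sym ww ‹_› ‹_› (.inr ‹_›)
  · set X : Subgroup G := closure {w, z, b, f₁, f₂, f₃} with hX
    have mw : w ∈ X := subset_closure (by simp)
    have mz : z ∈ X := subset_closure (by simp)
    have mb : b ∈ X := subset_closure (by simp)
    have m1 : f₁ ∈ X := subset_closure (by simp)
    have m2 : f₂ ∈ X := subset_closure (by simp)
    have m3 : f₃ ∈ X := subset_closure (by simp)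
    have step : ∀ (H : Subgroup G) (x : G), x ∉ H →
        2 * Nat.card H ≤ Nat.card (H ⊔ zpowers x : Subgroup G) := fun H x hx =>
      bt_dbl le_sup_left (mem_sup_right (mem_zpowers x)) hx
    have k1 := bt_dbl (bot_le : ⊥ ≤ zpowers z) (mem_zpowers z) d.z1
    have k2 := step (zpowers z) b fun k => d.fq_ncomm (bt_m (bt_c (a := z) (x := e) d.fq_ze k)).symm
    have k3 := step (zpowers z ⊔ zpowers b) w fun k => wD (sup_le
      (zpowers_le.2 (closure_mono (Set.subset_insert _ _) d.fq_z_mem))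
      (zpowers_le.2 (closure_mono (Set.subset_insert _ _) DG.fq_b_mem)) k)
    have k4 := step (zpowers z ⊔ zpowers b ⊔ zpowers w) (f₁ * f₂ * f₃) fun k => w0 (by
      have := bt_m (sup_le (sup_le (bt_c d.fq_tz.symm) (bt_c d.tb.symm)) (bt_c wt) k)
      rwa [this.mul_inv_cancel, eq_comm, mul_eq_left] at gt)
    have k5 := step (zpowers z ⊔ zpowers b ⊔ zpowers w ⊔ zpowers (f₁ * f₂ * f₃)) f₁ fun k => w0 (by
      have := bt_m (sup_le (sup_le (sup_le (bt_c zb) (bt_c (.refl b))) (bt_c wb.symm))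
        (bt_c (bt_comm gb)) k)
      rwa [this.mul_inv_cancel, eq_comm, mul_eq_left] at b1)
    have k6 := bt_dbl (K := X) (sup_le (sup_le (sup_le (sup_le (zpowers_le.2 mz) (zpowers_le.2 mb))
      (zpowers_le.2 mw)) (zpowers_le.2 (mul_mem (mul_mem m1 m2) m3))) (zpowers_le.2 m1)) m2
      fun k => w0 (by
        have := bt_m (sup_le (sup_le (sup_le (sup_le (bt_c (.refl z)) (bt_c zb.symm)) (bt_c wz.symm))
          (bt_c (bt_comm gz))) (bt_c (bt_comm z1)) k)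
        rwa [this.mul_inv_cancel, eq_comm, mul_eq_left] at z2)
    rw [card_bot] at k1
    omega

theorem Ab.be_τ (h : Ab A W T t z e b s w ρ τ) :
    τ * (b * z) * τ⁻¹ = z ∧ τ * t * τ⁻¹ = t ∧ τ * w * τ⁻¹ = w :=
  ⟨by rw [bt_mul h.τb h.τz, mul_assoc, h.dg.fq_zb, h.dg.fq_bb], (h.AC τ h.τA).mul_inv_cancel,
    h.τw.mul_inv_cancel⟩

theorem Nb.q2w (h : Ab A W T t z e b s w ρ τ) (tB : Tame W t z b w) (hq : QQ t z e b s ρ q) {n r : G}
    (hn : Nb W t z e b s ρ q n r) (h0 : Commute n q) : q * q = w := by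
  obtain ⟨hw, sD⟩ := h.sw.resolve_left fun k => hq.s1 k.1
  obtain ⟨r1, r2, r3⟩ := h.be_τ
  have H := h.symm
  have nz := hn.nz.mul_inv_cancel
  have ns := hn.ns.mul_inv_cancel
  have a1 : n * q * z * (n * q)⁻¹ = z := bt_comp hq.qz.mul_inv_cancel nz
  have a2 : n * q * b * (n * q)⁻¹ = b :=
    bt_comp hq.qb (by rw [bt_mul hn.nb ns, mul_assoc, h.s2, mul_one])
  have a3 : n * q * w * (n * q)⁻¹ = w := by
    rw [hw]; exact bt_mul (bt_comp hq.qs.mul_inv_cancel ns) a1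
  have a4 : n * q * t * (n * q)⁻¹ = t * w := bt_comp hq.qt (by rw [bt_mul hn.nt nz, hw, mul_assoc])
  have a5 : n * q * (n * q) = q * q := by
    rw [mul_assoc, ← mul_assoc q, ← h0.eq, ← mul_assoc, ← mul_assoc, hn.n2, one_mul]
  generalize n * q = m at a1 a2 a3 a4 a5
  have c1 := bt_comm (bt_comp (bt_cj r2 a4 (bt_mul r2 r3)) (bt_inv a4))
  have c2 := bt_comm (bt_comp (bt_cj r1 (bt_mul a2 a1) r1) (bt_inv a1))
  have c3 := bt_comm (bt_comp (bt_cj h.τz a1 h.τz) (bt_inv a2))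
  have c4 := bt_comm (bt_comp (bt_cj r3 a3 r3) (bt_inv a3))
  obtain ⟨y, hy, o, ho, od, e1⟩ := H.decE c1 c2 c3 c4
  have o1 := bt_pow ho c1
  have o2 := bt_pow ho c2
  have o3 := bt_pow ho c3
  have o4 := bt_pow ho c4
  have cj : ∀ {x x' : G}, m * x * m⁻¹ = x' → Commute o x' → Commute (m⁻¹ * o * m⁻¹⁻¹) x :=
    fun k1 k2 => bt_comm (bt_cj (bt_inv k1) k2.mul_inv_cancel (bt_inv k1))
  have p1 := cj a4 (o1.mul_right o4)
  have p2 := cj a1 o2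
  have p3 := cj a2 o3
  have p4 := cj a3 o4
  have oW := mul_mem (tB _ (by rwa [orderOf_conj_eq]) p1 p2 p3 p4) (tB o od o1 o2 o3 o4)
  have hy' : y ∈ zpowers z ⊔ zpowers b ⊔ zpowers w ⊔ zpowers t := by
    rw [H.Eeq] at hy
    refine (closure_le _).2 ?_ hy
    rintro _ (rfl | rfl | rfl | rfl)
    exacts [mem_sup_right (mem_zpowers _), mem_sup_left (mem_sup_right (mem_zpowers _)),
      mem_sup_left (mem_sup_left (mem_sup_left (mem_zpowers _))),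
      mem_sup_left (mem_sup_left (mem_sup_right (mem_zpowers _)))]
  have py : Commute y (m⁻¹ * o * m⁻¹⁻¹) :=
    bt_m (sup_le (sup_le (sup_le (bt_c p2.symm) (bt_c p3.symm)) (bt_c p4.symm)) (bt_c p1.symm) hy')
  have wE : w ∈ EA T b := ⟨H.sT, mem_centralizer_singleton_iff.2 H.se⟩
  have zE : z ∈ EA T b := ⟨h.zT, mem_centralizer_singleton_iff.2 h.dg.fq_zb⟩
  have sE : s ∈ EA T b := ⟨h.sT, mem_centralizer_singleton_iff.2 h.sb⟩
  have e2 : m⁻¹ * y * m⁻¹⁻¹ * y = 1 ∨ m⁻¹ * y * m⁻¹⁻¹ * y = w := by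
    obtain ⟨a, ha, e2⟩ := bt_sup (bt_cn (sup_le (sup_le (bt_c h.dg.fq_tz.symm) (bt_c h.dg.tb.symm))
      (bt_c H.st))) h.dg.t2 hy'
    have am : m * a * m⁻¹ = a := (bt_m (sup_le (sup_le (bt_c (bt_comm a1).symm)
      (bt_c (bt_comm a2).symm)) (bt_c (bt_comm a3).symm) ha)).symm.mul_inv_cancel
    rcases e2 with rfl | rfl
    · left; rw [bt_inv am, H.E2 hy]
    · right
      have a6 : m * (t * w) * m⁻¹ = t := by rw [bt_mul a4 a3, mul_assoc, H.s2, mul_one]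
      rw [bt_mul (bt_inv am) (bt_inv a6), ← mul_assoc a, mul_assoc _ w, (H.Ec wE hy).eq, ← mul_assoc,
        H.E2 hy, one_mul]
  have qE : q * q ∈ EA T b := by
    rcases hq.q2 with k | k <;> rw [k]
    exacts [sE, mul_mem sE zE]
  have e3 : τ * (q * q) * τ⁻¹ = q * q * (m⁻¹ * y * m⁻¹⁻¹ * y) * (m⁻¹ * o * m⁻¹⁻¹ * o) := by
    have e4 : τ * m * τ⁻¹ = m * (y * o) := by rw [← e1]; group
    calc τ * (q * q) * τ⁻¹ = τ * m * τ⁻¹ * (τ * m * τ⁻¹) := by rw [← a5]; group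
      _ = m * m * (m⁻¹ * y * m⁻¹⁻¹) * (m⁻¹ * o * m⁻¹⁻¹ * y) * o := by rw [e4]; group
      _ = _ := by rw [← py.eq, a5]; group
  have e4 : m⁻¹ * o * m⁻¹⁻¹ * o = 1 := by
    have k1 : m⁻¹ * y * m⁻¹⁻¹ * y ∈ EA T b := by
      rcases e2 with k | k <;> rw [k]
      exacts [one_mem _, wE]
    have k2 := conj_mem_of_mem_normalizer H.ρE qE
    rw [e3] at k2
    have k3 := H.E2 ((mul_mem_cancel_left (mul_mem qE k1)).1 k2)
    exact orderOf_eq_one_iff.1 (Nat.eq_one_of_dvd_coprimes (Nat.coprime_two_right.2 (h.Wo _ oW))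
      dvd_rfl (orderOf_dvd_of_pow_eq_one (by rw [pow_two, k3])))
  rw [e4, mul_one] at e3
  refine (hq.q2.resolve_left fun k => ?_).trans hw.symm
  have e5 : τ * s * τ⁻¹ = s * (z * b) := by
    have := bt_mul r3 h.τz
    rwa [hw, mul_assoc s, h.dg.z2, mul_one, mul_assoc s] at this
  rw [k, e5, mul_left_cancel_iff] at e3
  rcases e2 with k1 | k1 <;> rw [k1] at e3
  · exact h.dg.fq_symm.fq_ez1 (h.dg.fq_zb ▸ e3)
  · rw [hw, h.sz.eq, mul_left_cancel_iff] at e3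
    exact sD (e3 ▸ subset_closure (by simp))

theorem Nb.mu0 (h : Ab A W T t z e b s w ρ τ) (l : Gl E A t) (tB : Tame W t z b w) (hq : QQ t z e b s ρ q) {r : G}
    (hn : Nb W t z e b s ρ q (τ * (q * e) * τ⁻¹ * e * (τ * (q * e) * τ⁻¹)⁻¹) r)
    (h0 : Commute (τ * (q * e) * τ⁻¹ * e * (τ * (q * e) * τ⁻¹)⁻¹) q) : False := by
  have q2 := hn.q2w h tB hq h0
  obtain ⟨hw, sD⟩ := h.sw.resolve_left fun k => hq.s1 k.1
  obtain ⟨r1, r2, r3⟩ := h.be_τ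
  have H := h.symm
  have d := h.dg
  have t2 := d.t2
  have zE := l.le h.zA
  have wE : w ∈ E := q2 ▸ l.sq t2 q
  have sE : s ∈ E := (mul_mem_cancel_right zE).1 (hw ▸ wE)
  have qE : q ∈ E := l.cube t2 (isConj_iff.2 ⟨ρ, rfl⟩) (isConj_iff.2 ⟨ρ⁻¹, by rw [inv_inv]⟩) (by
    rcases hq.pr with k | k <;> rw [k]
    exacts [one_mem _, sE])
  have fE : q * e ∈ E := mul_mem qE (l.le h.eA)
  have s1 : q * e * (q * e) = w := by
    rw [mul_assoc, ← mul_assoc e, ← hq.qe.eq, mul_assoc q e, d.e2, mul_one, q2]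
  have ez : e * z * e⁻¹ = z := by rw [← d.fq_ze, mul_inv_cancel_right]
  have z1 : q * e * z * (q * e)⁻¹ = z := bt_comp ez hq.qz.mul_inv_cancel
  have b1 : q * e * b * (q * e)⁻¹ = b * w :=
    bt_comp (c := b * z) (by rw [d.fq_ei, mul_assoc, d.fq_be, d.fq_ee])
      (by rw [bt_mul hq.qb hq.qz.mul_inv_cancel, hw, mul_assoc])
  have t1 : q * e * t * (q * e)⁻¹ = t * z := bt_comp d.te.symm.mul_inv_cancel hq.qt
  have bz1 : q * e * (b * z) * (q * e)⁻¹ = b * z * w := by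
    rw [bt_mul b1 z1, mul_assoc, H.sz.eq, mul_assoc]
  have ef : e * (q * e) * e⁻¹ = q * e := by rw [← mul_assoc, mul_inv_cancel_right, hq.qe.eq]
  have en := hn.ne
  have n2 := hn.n2
  generalize q * e = f at *
  have s2 : τ * f * τ⁻¹ * (τ * f * τ⁻¹) = w := by rw [conj_mul, s1, r3]
  have s3 : τ⁻¹ * f * τ⁻¹⁻¹ * (τ⁻¹ * f * τ⁻¹⁻¹) = w := by rw [conj_mul, s1, bt_inv r3]
  have e1 : e * (τ * f * τ⁻¹) * e⁻¹ = τ⁻¹ * f * τ⁻¹⁻¹ := by
    calc e * (τ * f * τ⁻¹) * e⁻¹ = e * τ * e⁻¹ * (e * f * e⁻¹) * (e * τ * e⁻¹)⁻¹ := by group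
      _ = _ := by rw [h.eτ, ef]
  have c3 : Commute (τ⁻¹ * f * τ⁻¹⁻¹) (τ * f * τ⁻¹) := be0_comm s3 s2 (by
    have e2 : τ⁻¹ * f * τ⁻¹⁻¹ * (τ * f * τ⁻¹)⁻¹ = e * (τ * f * τ⁻¹ * e * (τ * f * τ⁻¹)⁻¹) := by
      rw [← e1, d.fq_ei]; group
    rw [e2, mul_assoc, ← mul_assoc _ e, en.eq, mul_assoc e, n2, mul_one, d.e2])
  have u1 : τ * (τ⁻¹ * f * τ⁻¹⁻¹) * τ⁻¹ = f := by group
  have u2 : τ * (τ * f * τ⁻¹) * τ⁻¹ = τ⁻¹ * f * τ⁻¹⁻¹ := by
    have : τ⁻¹ = τ * τ := inv_eq_of_mul_eq_one_left (by rw [← h.τ3, pow_succ, pow_two])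
    calc τ * (τ * f * τ⁻¹) * τ⁻¹ = τ * τ * f * (τ * τ)⁻¹ := by group
      _ = _ := by rw [← this]
  have c2 : f * (τ⁻¹ * f * τ⁻¹⁻¹) * f⁻¹ = τ⁻¹ * f * τ⁻¹⁻¹ := by
    have := bt_cj u2 c3.mul_inv_cancel u2
    rwa [u1] at this
  refine be0_abs l d H.s2 H.sz.symm H.se.symm H.st (fun k => sD ?_) ?_ s1 s2 s3
    (bt_comm (bt_cj u1 c2 u1)).symm (bt_comm c2) c3.symm z1 (bt_cj r1 bz1 (bt_mul r1 r3))
    (bt_cj (bt_inv h.τz) b1 (bt_mul (bt_inv h.τz) (bt_inv r3))) b1 (bt_cj h.τz z1 h.τz)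
    (bt_cj (bt_inv h.τb) bz1 (bt_mul (bt_inv h.τb) (bt_inv r3))) t1 (bt_cj r2 t1 (bt_mul r2 h.τz))
    (bt_cj (bt_inv r2) t1 (bt_mul (bt_inv r2) (bt_inv r1)))
  · exact (mul_mem_cancel_right (closure_mono (Set.subset_insert _ _) d.fq_z_mem)).1 (hw ▸ k)
  · refine (closure_le _).2 ?_
    rintro _ (rfl | rfl | rfl | rfl | rfl | rfl)
    exacts [wE, zE, l.le h.bA, fE, l.nE.conj_mem _ fE _, l.nE.conj_mem _ fE _]

end CfsgLib.A7S
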