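import Cfsg.Agent.Lib.A7S.Qe

/-! BE1: type Q, the involution `n` (plans/A7S.md) -/

set_option autoImplicit false
set_option linter.unusedSectionVars false

namespace CfsgLib.A7S

open Subgroup Cfsg CfsgLib.Tech CfsgLib.Dih8 CfsgLib.D8S

variable {G : Type*} [Group G] [Finite G] {A W T E S : Subgroup G} {t z e b s w ρ τ η g q c y : G}

namespace Be1

theorem fix {a x : G} (h : Commute a x) : a * x * a⁻¹ = x := by rw [h.eq, mul_inv_cancel_right]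

theorem comm {a x : G} (h : a * x * a⁻¹ = x) : Commute a x := mul_inv_eq_iff_eq_mul.1 h

theorem cj {a x : G} (h : Commute a x) (g : G) : Commute (g * a * g⁻¹) (g * x * g⁻¹) := by
  rw [Commute, SemiconjBy, conj_mul, conj_mul, h.eq]

theorem cj' {a x g : G} (h : Commute a (g⁻¹ * x * g)) : Commute (g * a * g⁻¹) x := by
  simpa [mul_assoc] using cj h g

theorem mul_cj (g g' x : G) : g * g' * x * (g * g')⁻¹ = g * (g' * x * g'⁻¹) * g⁻¹ := by group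

theorem cm (g a x : G) : g * (a * x) * g⁻¹ = g * a * g⁻¹ * (g * x * g⁻¹) := by group

theorem cc (g a x : G) : g * a * g⁻¹ * (g * x * g⁻¹) * (g * a * g⁻¹)⁻¹ = g * (a * x * a⁻¹) * g⁻¹ := by group

theorem odd_cj {k : G} (h : Odd (orderOf k)) (g : G) : Odd (orderOf (g * k * g⁻¹)) := by
  rwa [← (SemiconjBy.orderOf_eq g (show g * k = g * k * g⁻¹ * g by group))]

end Be1

open Be1

theorem Cn.nb (h : Cn A W T t z e b s w ρ τ η) (hq : QQ t z e b s ρ q) :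
    Nb W t z e b s ρ q (τ * (q * e) * τ⁻¹ * e * (τ * (q * e) * τ⁻¹)⁻¹)
      (τ * (q * e) * τ⁻¹ * ρ * (τ * (q * e) * τ⁻¹)⁻¹) := by
  have d := h.dg
  have hw : w = s * z := (h.sw.resolve_left fun e => hq.s1 e.1).1
  have sz := h.toAb.sz
  have zt : Commute z t := h.AC z h.toAb.zA
  have ez : Commute e z := (h.toAb.cT h.toAb.eT).2.2
  have bz : Commute b z := (h.toAb.cT h.toAb.bT).2.2
  have τt : Commute τ t := h.AC τ h.τA
  have ρt : Commute ρ t := h.AC ρ h.ρA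
  have ηt : Commute η t := h.AC η h.ηA
  have ebe : e * b * e⁻¹ = b * z := by
    rw [bz.eq, ← d.eb, inv_eq_of_mul_eq_one_right d.e2, mul_assoc _ _ b, mul_assoc e b b, d.b2, mul_one]
  have qtz : q * (t * z) * q⁻¹ = t := by rw [cm, hq.qt, fix hq.qz, mul_assoc, d.z2, mul_one]
  -- `η` centralises the conjugate of `A` belonging to `t z`
  have qη : q * η * q⁻¹ ∈ W := by
    have oη : Odd (orderOf η) := Odd.of_dvd_nat (by decide) (orderOf_dvd_of_pow_eq_one h.η3)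
    obtain ⟨i, k, hk, e1⟩ := h.cZ _ (odd_cj oη q) (qtz ▸ cj (ηt.mul_right h.ηz) q) (fix hq.qz ▸ cj h.ηz q)
    have e2 : b * s * (q * η * q⁻¹) * (b * s)⁻¹ = (q * η * q⁻¹)⁻¹ := by
      rw [← hq.qb, cc, h.bη, conj_inv]
    have e3 : Commute (b * s) η := comm (by
      rw [mul_cj, h.sη.resolve_left hq.s1, ← conj_inv, h.bη, inv_inv])
    have hk' := h.Wn (b * s) (d.tb.symm.mul_left h.st) k hk
    rw [e1, cm, fix (e3.pow_right i), ← ((h.WA k hk η h.ηA).pow_right i).eq, mul_inv_rev k] at e2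
    have e4 : η ^ i * η ^ i ∈ W := by
      have : η ^ i * η ^ i = k⁻¹ * (b * s * k * (b * s)⁻¹)⁻¹ := by
        rw [eq_mul_inv_iff_mul_eq, mul_assoc, e2, mul_inv_cancel_left]
      exact this ▸ mul_mem (inv_mem hk) (inv_mem hk')
    have e5 : η ^ i = η ^ i * η ^ i * (η ^ i * η ^ i) := by
      have : (η ^ i) ^ 3 = 1 := by rw [← pow_mul, mul_comm, pow_mul, h.η3, one_pow]
      calc η ^ i = η ^ i * (η ^ i) ^ 3 := by rw [this, mul_one]
        _ = _ := by rw [pow_succ, pow_two]; group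
    rw [e1, e5]
    exact mul_mem (mul_mem e4 e4) hk
  have cη : ∀ g : G, g * t * g⁻¹ = t * z → ∀ a ∈ A, Commute η (g * a * g⁻¹) := fun g hg a ha => by
    have := h.WA _ qη _ (h.An (q * g) (comm (by rw [mul_cj, hg, qtz])) a ha)
    simpa [mul_assoc] using cj this q⁻¹
  have ψt : q * e * t * (q * e)⁻¹ = t * z := by rw [mul_cj, fix d.te.symm, hq.qt]
  have ψz : q * e * z * (q * e)⁻¹ = z := fix (hq.qz.mul_left ez)
  have ψw : q * e * w * (q * e)⁻¹ = w :=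
    hw ▸ fix ((hq.qs.mul_left h.se.symm).mul_right (hq.qz.mul_left ez))
  have ψb : q * e * b * (q * e)⁻¹ = b * w := by
    rw [mul_cj, ebe, cm, hq.qb, fix hq.qz, hw, mul_assoc]
  have c1 : ∀ a ∈ A, Commute (τ * (q * e) * τ⁻¹ * a * (τ * (q * e) * τ⁻¹)⁻¹) (τ * η * τ⁻¹) := fun a ha => by
    have := cj (cη (q * e) ψt _ (mul_mem (mul_mem (inv_mem h.τA) ha) h.τA)) τ
    convert this.symm using 1
    group
  have φτ : ∀ x : G, τ * (q * e) * τ⁻¹ * (τ * x * τ⁻¹) * (τ * (q * e) * τ⁻¹)⁻¹ =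
      τ * (q * e * x * (q * e)⁻¹) * τ⁻¹ := fun x => by group
  have φt := φτ t
  have φb := φτ z
  have φw := φτ w
  have φz := φτ b
  rw [fix τt, ψt, cm τ t, fix τt, h.τz] at φt
  rw [ψz, h.τz] at φb
  rw [ψw, fix h.τw] at φw
  rw [ψb, cm τ b, h.τb, fix h.τw, cm _ b, φb, mul_assoc b, mul_right_inj, hw, sz.eq, ← mul_assoc z,
    d.z2, one_mul] at φz
  generalize τ * (q * e) * τ⁻¹ = φ at *
  have φs : φ * s * φ⁻¹ = z := by
    rw [hw, cm, φz, sz.eq] at φw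
    exact mul_right_cancel φw
  have φtb : φ * (t * b) * φ⁻¹ = t := by rw [cm, φt, φb, mul_assoc, d.b2, mul_one]
  have nz : Commute (φ * e * φ⁻¹) z := φs ▸ cj h.se.symm φ
  have nt : φ * e * φ⁻¹ * t * (φ * e * φ⁻¹)⁻¹ = t * s := by
    nth_rw 1 [← φtb]
    rw [cc, cm e, fix d.te.symm, ebe, ← mul_assoc t, cm, φtb, φz]
  -- `e` and `ρ` lie in the conjugate of `A` belonging to `t s`
  have Az : ∀ c, Commute c t → Commute c s → (φ * e * φ⁻¹)⁻¹ * (c * z * c⁻¹) * (φ * e * φ⁻¹) ∈ A := by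
    generalize φ * e * φ⁻¹ = n at *
    intro c ct cs
    have := h.An (n⁻¹ * c * n) (comm (by
      rw [mul_cj, nt, mul_cj, fix (ct.mul_right cs), ← nt]; group)) z h.toAb.zA
    rwa [mul_cj, fix nz, mul_cj, inv_inv] at this
  have c2 : ∀ a, (φ * e * φ⁻¹)⁻¹ * a * (φ * e * φ⁻¹) ∈ A → Commute (φ * a * φ⁻¹) (τ⁻¹ * η * τ) := by
    intro a ha
    have := cj (cη (τ * φ * (φ * e * φ⁻¹)) (by
      have e1 : τ * (b * z) * τ⁻¹ = z := by
        rw [cm, h.τb, h.τz, bz.eq, mul_assoc, d.b2, mul_one]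
      rw [mul_cj, nt, mul_cj, cm φ, φt, φs, mul_assoc t, cm, fix τt, e1]) _ ha) τ⁻¹
    convert this.symm using 1 <;> group
  obtain ⟨c₁, h1, c₂, h2, s1, s2, e1⟩ := h.L2
  have Ae := Az ρ ρt h.ρs
  rw [h.ρz] at Ae
  have Aρ := mul_mem (Az c₁ (h.AC _ h1) s1) (Az c₂ (h.AC _ h2) s2)
  have e2 : ∀ n u v : G, n⁻¹ * u * n * (n⁻¹ * v * n) = n⁻¹ * (u * v) * n := fun n u v => by group
  rw [e2, ← e1] at Aρ
  obtain ⟨ne, nρ⟩ := h.L1 _ (c1 e h.toAb.eA) (c2 e Ae)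
  obtain ⟨re, -⟩ := h.L1 _ (c1 ρ h.ρA) (c2 ρ Aρ)
  refine ⟨by rw [conj_mul, d.e2]; group, nz, ne, φz ▸ cj ez φ, nρ, nt, ?_, fun k hk ks => ?_,
    φs ▸ cj h.ρs φ, re, ?_, ?_⟩
  · nth_rw 1 [← φb]
    rw [cc, ebe, cm, φb, φz]
  · have back : ∀ {x x' : G}, φ * x * φ⁻¹ = x' → Commute k x' → Commute (φ⁻¹ * k * φ⁻¹⁻¹) x :=
      fun e1 c => cj' (by rwa [inv_inv, e1])
    have kt := h.WC k hk
    have kb := h.WA k hk b h.toAb.bA
    have kz := h.WA k hk z h.toAb.zA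
    have := h.WA _ (h.tameB _ (odd_cj (h.Wo k hk) φ⁻¹) (back φt (kt.mul_right kb)) (back φz ks) (back φb kb)
      (back φw (hw ▸ ks.mul_right kz))) e h.toAb.eA
    simpa [mul_assoc] using cj this φ
  · rw [← φz, cc, h.ρz]
  · rw [cc, h.ρe, cm, φz]

theorem Nb.mu (h : Ab A W T t z e b s w ρ τ) (hq : QQ t z e b s ρ q) {n r : G} (hn : Nb W t z e b s ρ q n r) :
    n * q * n⁻¹ = q ∨ n * q * n⁻¹ = q * z := by
  have d := h.dg
  have sz := h.sz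
  have ni : n⁻¹ = n := inv_eq_of_mul_eq_one_right hn.n2
  have back : ∀ {x x' : G}, q * x * q⁻¹ = x' → q⁻¹ * x' * q⁻¹⁻¹ = x := fun e1 => by rw [← e1]; group
  have qtz : q * (t * z) * q⁻¹ = t := by rw [cm, hq.qt, fix hq.qz, mul_assoc, d.z2, mul_one]
  have qbs : q * (b * s) * q⁻¹ = b := by rw [cm, hq.qb, fix hq.qs, mul_assoc, h.s2, mul_one]
  have nbs : n * (b * s) * n⁻¹ = b := by rw [cm, hn.nb, fix hn.ns, mul_assoc, h.s2, mul_one]
  have cs : Commute (n * q * n * q⁻¹) s := ((hn.ns.mul_left hq.qs).mul_left hn.ns).mul_left hq.qs.inv_left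
  obtain ⟨y, hy, k, hk, hk', e1⟩ := h.decT (c := n * q * n * q⁻¹)
    (comm (by
      rw [mul_cj, back qtz, mul_cj, cm n, hn.nt, fix hn.nz, mul_cj, mul_assoc t, sz.eq, ← mul_assoc t,
        cm q, qtz, fix hq.qs, cm, hn.nt, fix hn.ns, mul_assoc, h.s2, mul_one]))
    (((hn.ne.mul_left hq.qe).mul_left hn.ne).mul_left hq.qe.inv_left)
    (comm (by rw [mul_cj, back qbs, mul_cj, nbs, mul_cj, hq.qb, nbs])) cs
  have inv : n * (n * q * n * q⁻¹) * n⁻¹ = (n * q * n * q⁻¹)⁻¹ := by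
    calc n * (n * q * n * q⁻¹) * n⁻¹ = (n * n) * q * n * q⁻¹ * n⁻¹ := by group
      _ = q * n⁻¹ * q⁻¹ * n⁻¹ := by rw [hn.n2, one_mul, ni]
      _ = _ := by group
  have k1 : k = 1 := by
    obtain ⟨i, rfl⟩ := mem_zpowers_iff.1 hk'
    have e2 := fix (hn.nW _ hk (cs.zpow_left i)).symm
    rw [← conj_zpow, inv, inv_zpow, inv_eq_iff_mul_eq_one, ← pow_two] at e2
    exact (pow_eq_one_iff_of_coprime (Nat.coprime_two_left.2 (h.Wo _ hk))).1 ⟨e2, pow_orderOf_eq_one _⟩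
  rw [k1, mul_one] at e1
  rw [e1, inv_eq_of_mul_eq_one_right (h.Y2 hy)] at inv
  have e2 : n * q * n⁻¹ = y * q := by rw [← e1, ni, inv_mul_cancel_right]
  have no : ∀ u, Commute n u → y ≠ t * u := fun u c e3 => by
    rw [e3, cm, hn.nt, fix c, mul_left_inj, mul_eq_left] at inv
    exact hq.s1 inv
  have key : Commute q (ρ * y * ρ⁻¹) → Commute q (ρ⁻¹ * y * ρ) → Commute (ρ * q * ρ⁻¹) (ρ⁻¹ * y * ρ) →
      y * (ρ * y * ρ⁻¹) * (ρ⁻¹ * y * ρ) = 1 := fun c1 c2 c3 => by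
    have e3 : n * (q * (ρ * q * ρ⁻¹) * (ρ⁻¹ * q * ρ)) * n⁻¹ = q * (ρ * q * ρ⁻¹) * (ρ⁻¹ * q * ρ) := by
      rcases hq.pr with e3 | e3 <;> rw [e3]
      · group
      · exact fix hn.ns
    have e4 : n * (ρ * q * ρ⁻¹) * n⁻¹ = ρ * y * ρ⁻¹ * (ρ * q * ρ⁻¹) := by
      rw [conj_mul, ← e2, ← mul_cj, ← mul_cj, hn.nρ.eq]
    have e5 : n * (ρ⁻¹ * q * ρ) * n⁻¹ = ρ⁻¹ * y * ρ * (ρ⁻¹ * q * ρ) := by
      calc n * (ρ⁻¹ * q * ρ) * n⁻¹ = n * ρ⁻¹ * q * (n * ρ⁻¹)⁻¹ := by group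
        _ = ρ⁻¹ * (n * q * n⁻¹) * ρ := by rw [hn.nρ.inv_right.eq]; group
        _ = _ := by rw [e2]; group
    rw [cm, cm, e2, e4, e5] at e3
    generalize ρ * y * ρ⁻¹ = y1 at *
    generalize ρ⁻¹ * y * ρ = y2 at *
    generalize ρ * q * ρ⁻¹ = q1 at *
    generalize ρ⁻¹ * q * ρ = q2 at *
    apply mul_right_cancel (b := q * q1 * q2)
    calc y * y1 * y2 * (q * q1 * q2) = y * y1 * (y2 * q) * q1 * q2 := by group
      _ = y * (y1 * q) * (y2 * q1) * q2 := by rw [← c2.eq]; group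
      _ = y * q * (y1 * q1) * (y2 * q2) := by rw [← c1.eq, ← c3.eq]; group
      _ = _ := by rw [e3, one_mul]
  have ρs' : ρ⁻¹ * s * ρ = s := by rw [h.ρs.inv_left.eq, inv_mul_cancel_right]
  have q1s : Commute (ρ * q * ρ⁻¹) s := cj' (ρs'.symm ▸ hq.qs)
  rcases h.memY hy with rfl | rfl | e3 | e3 | rfl | rfl | e3 | e3
  · exact Or.inl (e2.trans (one_mul q))
  · exact Or.inr (e2.trans hq.qz.eq.symm)
  · exact absurd (e3.trans (mul_one t).symm) (no 1 (Commute.one_right n))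
  · exact absurd e3 (no z hn.nz)
  · rw [fix h.ρs, ρs', h.s2, one_mul] at key
    exact absurd (key hq.qs hq.qs q1s) hq.s1
  · have ez : Commute e z := (h.cT h.eT).2.2
    have e3 : ρ * (s * z) * ρ⁻¹ = s * e := by rw [cm, fix h.ρs, h.ρz]
    have e4 : ρ * (e * z) * ρ⁻¹ = z := by
      rw [cm, h.ρe, h.ρz, ez.eq, mul_assoc, d.e2, mul_one]
    have e5 : ρ⁻¹ * (s * z) * ρ = s * (e * z) := by
      rw [← ρs']
      nth_rw 1 [← e4]
      rw [ρs', ← mul_assoc, ← mul_assoc, ← mul_assoc, ← mul_assoc, ρs', inv_mul_cancel_right, mul_assoc]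
    have q1e : Commute (ρ * q * ρ⁻¹) (e * z) := h.ρe ▸ cj hq.qe ρ
    rw [e3, e5] at key
    refine absurd (Eq.trans ?_ (key (hq.qs.mul_right hq.qe) (hq.qs.mul_right (hq.qe.mul_right hq.qz))
      (q1s.mul_right q1e))) hq.s1
    calc s = s * (z * (s * s) * (e * e) * z) := by rw [h.s2, d.e2, mul_one, mul_one, d.z2, mul_one]
      _ = s * z * (s * (s * e)) * (e * z) := by group
      _ = _ := by nth_rw 1 [h.se.eq]; group
  · exact absurd e3 (no s hn.ns)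
  · exact absurd (e3.trans (mul_assoc _ _ _)) (no _ (hn.ns.mul_right hn.nz))

end CfsgLib.A7S
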