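import Cfsg.Agent.Lib.A7S.Ul

/-! BE2: type Q, `μ = 1` (plans/A7S.md) -/

set_option autoImplicit false
set_option linter.unusedSectionVars false

namespace CfsgLib.A7S

open Subgroup Cfsg CfsgLib.Tech CfsgLib.Dih8 CfsgLib.D8S

variable {G : Type*} [Group G] [Finite G] {A W T E S : Subgroup G} {t z e b s w ρ τ η g q c y : G}

/-- `g` centralises `V` and moves `x` by `u ∈ V` -/
def B2Ac (V : Subgroup G) (x g u : G) : Prop := (∀ v ∈ V, Commute g v) ∧ u ∈ V ∧ g * x * g⁻¹ = x * u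

namespace B2Ac

variable {V : Subgroup G} {x u g' u' : G}

theorem one (V : Subgroup G) (x : G) : B2Ac V x 1 1 := ⟨fun v _ => Commute.one_left v, one_mem V, by group⟩

theorem mul (h1 : B2Ac V x g u) (h2 : B2Ac V x g' u') : B2Ac V x (g * g') (u * u') :=
  ⟨fun v hv => (h1.1 v hv).mul_left (h2.1 v hv), mul_mem h1.2.1 h2.2.1, by
    rw [show g * g' * x * (g * g')⁻¹ = g * (g' * x * g'⁻¹) * g⁻¹ by group, h2.2.2, ← mul_assoc x u, ← h1.2.2,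
      mul_assoc (g * x), (h1.1 _ h2.2.1).inv_left.eq]
    group⟩

theorem inv (h1 : B2Ac V x g u) : B2Ac V x g⁻¹ u⁻¹ :=
  ⟨fun v hv => (h1.1 v hv).inv_left, inv_mem h1.2.1, by
    rw [eq_mul_inv_iff_mul_eq, inv_inv, mul_assoc, (h1.1 _ h1.2.1).eq, ← mul_assoc, mul_assoc _ x, ← h1.2.2]
    group⟩

theorem cj (h1 : B2Ac V x g u) {r : G} (hr : r ∈ normalizer (V : Set G)) (rx : Commute r x) :
    B2Ac V x (r * g * r⁻¹) (r * u * r⁻¹) :=
  ⟨fun v hv => by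
    have := (h1.1 _ (conj_mem_of_mem_normalizer' hr hv)).map (MulAut.conj r)
    simpa [mul_assoc] using this, conj_mem_of_mem_normalizer hr h1.2.1, by
    rw [show r * g * r⁻¹ * x * (r * g * r⁻¹)⁻¹ = r * (g * (r⁻¹ * x * r) * g⁻¹) * r⁻¹ by group,
      rx.inv_left.eq, inv_mul_cancel_right, h1.2.2, ← mul_assoc, rx.eq]
    group⟩

theorem comm (h1 : B2Ac V x g 1) : Commute g x := mul_inv_eq_iff_eq_mul.1 (h1.2.2.trans (mul_one x))

theorem eq_one (h1 : B2Ac V x g u) (h2 : Commute g x) : u = 1 := by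
  have := h1.2.2
  rwa [h2.eq, mul_inv_cancel_right, left_eq_mul] at this

end B2Ac

/-- the elements centralising `V` and `V x / V` -/
def b2Fx (V : Subgroup G) (x : G) : Subgroup G where
  carrier := {g | ∃ u, B2Ac V x g u}
  one_mem' := ⟨1, .one V x⟩
  mul_mem' := fun ⟨_, h1⟩ ⟨_, h2⟩ => ⟨_, h1.mul h2⟩
  inv_mem' := fun ⟨_, h1⟩ => ⟨_, h1.inv⟩

theorem b2_two {a u : G} (a2 : a * a = 1) (hu : u ∈ zpowers a) : u = 1 ∨ u = a := by
  obtain ⟨k, rfl⟩ := mem_zpowers_iff.1 hu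
  have g2 : a ^ (2 : ℤ) = 1 := by rw [zpow_two, a2]
  obtain ⟨j, rfl | rfl⟩ := Int.even_or_odd' k
  · exact .inl (by rw [zpow_mul, g2, one_zpow])
  · exact .inr (by rw [zpow_add, zpow_mul, g2, one_zpow, one_mul, zpow_one])

theorem b2_sq {g f u v : G} (f2 : f * f = 1) (h1 : g * f * g⁻¹ = f * v) (h2 : g * g = u) (h3 : Commute f (v * u)) :
    g * f * (g * f) = v * u := by
  rw [show g * f * (g * f) = g * f * g⁻¹ * (g * g) * f by group, h1, h2, mul_assoc f, h3.eq, mul_assoc, f2, mul_one]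

namespace Ab

variable (h : Ab A W T t z e b s w ρ τ)
include h

theorem b2_z : z ∈ EA T e ⊓ A := ⟨⟨h.zT, mem_centralizer_singleton_iff.2 h.dg.fq_ze⟩, h.zA⟩

theorem b2_e : e ∈ EA T e ⊓ A := ⟨⟨h.eT, mem_centralizer_singleton_iff.2 rfl⟩, h.eA⟩

theorem b2_t : t ∈ EA T e := ⟨h.tT, mem_centralizer_singleton_iff.2 h.dg.te⟩

theorem b2_s : s ∈ EA T e := ⟨h.sT, mem_centralizer_singleton_iff.2 h.se⟩

theorem b2_c (gz : Commute g z) (ge : Commute g e) : ∀ v ∈ EA T e ⊓ A, Commute g v := fun v hv => by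
  rcases h.EAA hv.1 hv.2 with rfl | rfl | rfl | rfl
  exacts [Commute.one_right g, gz, ge, ge.mul_right gz]

theorem b2_dec (hy : y ∈ EA T e) : ∃ u ∈ EA T e ⊓ A, y = u ∨ y = s * u ∨ y = t * u ∨ y = t * (s * u) := by
  have key : ∀ y, InY T e b y → ∃ u ∈ EA T e ⊓ A, y = u ∨ y = s * u ∨ y = t * u ∨ y = t * (s * u) := by
    intro y hy
    rcases h.memY hy with e1 | e1 | e1 | e1 | e1 | e1 | e1 | e1
    · exact ⟨1, one_mem _, by simp [e1]⟩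
    · exact ⟨z, h.b2_z, by simp [e1]⟩
    · exact ⟨1, one_mem _, by simp [e1]⟩
    · exact ⟨z, h.b2_z, by simp [e1]⟩
    · exact ⟨1, one_mem _, by simp [e1]⟩
    · exact ⟨z, h.b2_z, by simp [e1]⟩
    · exact ⟨1, one_mem _, by simp [e1]⟩
    · exact ⟨z, h.b2_z, by simp [e1, mul_assoc]⟩
  obtain ⟨y₀, h0, rfl | rfl⟩ := h.memE hy
  · exact key y h0
  · obtain ⟨u, hu, h1⟩ := key y₀ h0
    exact ⟨u * e, mul_mem hu h.b2_e, by rcases h1 with rfl | rfl | rfl | rfl <;> simp [mul_assoc]⟩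

theorem b2_su (hs : s ≠ 1) {u : G} (hu : u ∈ EA T e ⊓ A) : s * u ≠ 1 :=
  ((h.indep (h.TA ▸ mem_inf.2 ⟨hu.1.1, hu.2⟩)).2 hs).1

theorem b2_ρ : ρ ∈ normalizer ((EA T e ⊓ A : Subgroup G) : Set G) := mem_normalizer_of_forall fun _ hx =>
  mem_inf.2 ⟨conj_mem_of_mem_normalizer h.ρE hx.1, mul_mem (mul_mem h.ρA hx.2) (inv_mem h.ρA)⟩

theorem b2_ρz : ρ⁻¹ * z * ρ⁻¹⁻¹ = e * z := by
  have : ρ * (e * z) * ρ⁻¹ = z := by
    rw [← conj_mul, h.ρe, h.ρz, mul_assoc, h.dg.fq_ze, h.dg.fq_ee]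
  nth_rw 1 [← this]
  group

end Ab

namespace Nb

variable (h : Ab A W T t z e b s w ρ τ) (tA : Tame W t z e s) (hq : QQ t z e b s ρ q) {n r : G}
  (hn : Nb W t z e b s ρ q n r) (h1 : n * q * n⁻¹ = q * z)
include h hn

theorem b2_tn : t * n * t⁻¹ = n * s := by
  have := hn.nt
  rw [mul_inv_eq_iff_eq_mul] at this ⊢
  rw [hn.ns.eq, mul_assoc, this, ← mul_assoc, ← mul_assoc, h.st.eq, mul_assoc t, h.s2, mul_one]

/-- the action of `E_A` on `n` -/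
theorem b2_En (hy : y ∈ EA T e) : ∃ u ∈ EA T e ⊓ A, (y = u ∨ y = s * u) ∧ Commute y n ∨
    (y = t * u ∨ y = t * (s * u)) ∧ y * n * y⁻¹ = n * s := by
  obtain ⟨u, hu, h2⟩ := h.b2_dec hy
  have h3 : Commute u n := (h.b2_c hn.nz hn.ne u hu).symm
  have h4 : ∀ x, Commute x n → t * x * n * (t * x)⁻¹ = n * s := fun x hx => by
    rw [mul_assoc t, hx.eq, ← hn.b2_tn h]
    group
  refine ⟨u, hu, ?_⟩
  rcases h2 with rfl | rfl | rfl | rfl
  exacts [.inl ⟨.inl rfl, h3⟩, .inl ⟨.inr rfl, hn.ns.symm.mul_left h3⟩, .inr ⟨.inl rfl, h4 _ h3⟩,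
    .inr ⟨.inr rfl, h4 _ (hn.ns.symm.mul_left h3)⟩]

theorem b2_nE : n ∈ normalizer (EA T e : Set G) :=
  h.nE_of (hn.nt ▸ mul_mem h.b2_t h.b2_s) (by rw [hn.ns.eq, mul_inv_cancel_right]; exact h.b2_s)
    (by rw [hn.nz.eq, mul_inv_cancel_right]; exact h.b2_z.1)
    (by rw [hn.ne.eq, mul_inv_cancel_right]; exact h.b2_e.1)

theorem b2_mem (hy : y ∈ EA T e ⊔ zpowers n) : y ∈ EA T e ∨ ∃ x ∈ EA T e, y = x * n := by
  rw [← SetLike.mem_coe, coe_mul_of_right_le_normalizer_left _ _ (zpowers_le.2 (hn.b2_nE h))] at hy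
  obtain ⟨x, hx, v, hv, rfl⟩ := hy
  rcases b2_two hn.n2 hv with rfl | rfl
  · exact .inl (by simpa using hx)
  · exact .inr ⟨x, hx, rfl⟩

include hq h1

theorem b2_qn : B2Ac (EA T e ⊓ A) n q z := ⟨h.b2_c hq.qz hq.qe, h.b2_z, by
  rw [mul_inv_eq_iff_eq_mul] at h1 ⊢
  rw [mul_assoc, ← hq.qz.eq, ← mul_assoc, h1, mul_assoc, mul_assoc, hn.nz.eq, h.dg.fq_zz]⟩

theorem b2_mov {u : G} (hu : u ∈ EA T e ⊓ A) :
    ∃ m, B2Ac (EA T e ⊓ A) t m u ∧ B2Ac (EA T e ⊓ A) n m u ∧ Commute m s ∧ (u = 1 → m = 1) := by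
  have a1 : B2Ac (EA T e ⊓ A) t q z := ⟨h.b2_c hq.qz hq.qe, h.b2_z, hq.qt⟩
  have a2 := hn.b2_qn h hq h1
  have a3 := h.AC ρ h.ρA
  rcases h.EAA hu.1 hu.2 with rfl | rfl | rfl | rfl
  · exact ⟨1, .one _ _, .one _ _, Commute.one_left s, fun _ => rfl⟩
  · exact ⟨q, a1, a2, hq.qs, fun e1 => absurd e1 h.dg.z1⟩
  · exact ⟨_, h.ρz ▸ a1.cj h.b2_ρ a3, h.ρz ▸ a2.cj h.b2_ρ hn.nρ.symm,
      (h.ρs.mul_left hq.qs).mul_left h.ρs.inv_left, fun e1 => absurd e1 h.dg.fq_e1⟩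
  · exact ⟨_, h.b2_ρz ▸ a1.cj (inv_mem h.b2_ρ) a3.inv_left, h.b2_ρz ▸ a2.cj (inv_mem h.b2_ρ) hn.nρ.symm.inv_left,
      (h.ρs.inv_left.mul_left hq.qs).mul_left h.ρs.inv_left.inv_left, fun e1 => absurd e1 h.dg.fq_ez1⟩

include tA

/-- a 2-element of `C(F)` normalising `E_A ⟨n⟩` lies in it -/
theorem b2_step {P : Subgroup G} (hP : IsPGroup 2 P) (hle : EA T e ⊔ zpowers n ≤ P) {x : G} (hx : x ∈ P)
    (xN : x ∈ normalizer ((EA T e ⊔ zpowers n : Subgroup G) : Set G)) (xU : ∀ v ∈ EA T e ⊓ A, Commute x v)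
    (xs : Commute x s) (xn : Commute x n) : x ∈ EA T e ⊔ zpowers n := by
  have nS : n ∈ EA T e ⊔ zpowers n := mem_sup_right (mem_zpowers n)
  have k1 : x * t * x⁻¹ * n * (x * t * x⁻¹)⁻¹ = n * s := by
    rw [show x * t * x⁻¹ * n * (x * t * x⁻¹)⁻¹ = x * (t * (x⁻¹ * n * x) * t⁻¹) * x⁻¹ by group, xn.inv_left.eq,
      inv_mul_cancel_right, hn.b2_tn h, (xn.mul_right xs).eq, mul_inv_cancel_right]
  have k2 : ∀ y, Commute y n → y * n * y⁻¹ ≠ n * s := fun y hy e1 => by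
    rw [hy.eq, mul_inv_cancel_right, left_eq_mul] at e1
    exact hq.s1 e1
  obtain ⟨u, hu, k3⟩ : ∃ u ∈ EA T e ⊓ A, x * t * x⁻¹ = t * u ∨ x * t * x⁻¹ = t * (s * u) := by
    rcases hn.b2_mem h (conj_mem_of_mem_normalizer xN (mem_sup_left h.b2_t)) with h2 | ⟨y, hy, h2⟩
    · obtain ⟨u, hu, ⟨-, h3⟩ | ⟨h3, -⟩⟩ := hn.b2_En h h2
      exacts [absurd k1 (k2 _ h3), ⟨u, hu, h3⟩]
    · obtain ⟨u, hu, ⟨-, h3⟩ | ⟨-, h3⟩⟩ := hn.b2_En h hy
      · exact absurd k1 (k2 _ (h2 ▸ h3.mul_left (Commute.refl n)))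
      · have h4 := b2_sq hn.n2 h3 (h.E2 hy) (by rw [mul_one]; exact hn.ns)
        rw [← h2, conj_mul, h.dg.t2, mul_one, mul_one, mul_inv_cancel] at h4
        exact absurd h4.symm hq.s1
  obtain ⟨m, mt, mn, mU, ms, mS⟩ : ∃ m, m * t * m⁻¹ = x * t * x⁻¹ ∧ m * n * m⁻¹ = n * u ∧
      (∀ v ∈ EA T e ⊓ A, Commute m v) ∧ Commute m s ∧ (u = 1 → m ∈ EA T e ⊔ zpowers n) := by
    obtain ⟨m, a1, a2, a3, a4⟩ := hn.b2_mov h hq h1 hu
    rcases k3 with k3 | k3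
    · exact ⟨m, a1.2.2.trans k3.symm, a2.2.2, a1.1, a3, fun e1 => a4 e1 ▸ one_mem _⟩
    · have nU := h.b2_c hn.nz hn.ne
      refine ⟨n * m, ?_, ?_, fun v hv => (nU v hv).mul_left (a1.1 v hv), hn.ns.mul_left a3,
        fun e1 => by rw [a4 e1, mul_one]; exact nS⟩
      · rw [k3, show n * m * t * (n * m)⁻¹ = n * (m * t * m⁻¹) * n⁻¹ by group, a1.2.2, ← conj_mul, hn.nt,
          (nU u hu).eq, mul_inv_cancel_right, mul_assoc]
      · rw [show n * m * n * (n * m)⁻¹ = n * (m * n * m⁻¹) * n⁻¹ by group, a2.2.2,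
          ((Commute.refl n).mul_right (nU u hu)).eq, mul_inv_cancel_right]
  have c1 : Commute (m⁻¹ * x) t := mul_inv_eq_iff_eq_mul.1 (by
    rw [show m⁻¹ * x * t * (m⁻¹ * x)⁻¹ = m⁻¹ * (x * t * x⁻¹) * m by group, ← mt]
    group)
  have c2 := (mU _ h.b2_z).inv_left.mul_left (xU _ h.b2_z)
  have c3 := (mU _ h.b2_e).inv_left.mul_left (xU _ h.b2_e)
  have c4 := ms.inv_left.mul_left xs
  obtain ⟨y, hy, o, ho, oo, e1⟩ := h.decE c1 c2 c3 c4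
  have on := hn.nW o (tA o oo (ba2_zp ho c1) (ba2_zp ho c2) (ba2_zp ho c3) (ba2_zp ho c4)) (ba2_zp ho c4)
  have e2 : m * y = x * o⁻¹ := by rw [eq_mul_inv_iff_mul_eq, mul_assoc, ← e1, mul_inv_cancel_left]
  have e3 : m * (y * n * y⁻¹) * m⁻¹ = n := by
    rw [show m * (y * n * y⁻¹) * m⁻¹ = m * y * n * (m * y)⁻¹ by group, e2, (xn.mul_left on.inv_left).eq,
      mul_inv_cancel_right]
  have u1 : u = 1 := by
    obtain ⟨-, -, ⟨-, h3⟩ | ⟨-, h3⟩⟩ := hn.b2_En h hy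
    · rwa [h3.eq, mul_inv_cancel_right, mn, mul_eq_left] at e3
    · rw [h3, ← conj_mul, mn, ms.eq, mul_inv_cancel_right, mul_assoc, mul_eq_left,
        (h.Ec hu.1 h.b2_s).eq] at e3
      exact absurd e3 (h.b2_su hq.s1 hu)
  have e4 := mul_mem (mS u1) (mem_sup_left hy : y ∈ EA T e ⊔ zpowers n)
  obtain ⟨k, hk⟩ := isPGroup_iff_mem.1 hP o (by
    have := mul_mem (inv_mem (hle e4)) hx
    rwa [e2, mul_inv_rev, inv_inv, inv_mul_cancel_right] at this)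
  have o1 : o = 1 := orderOf_eq_one_iff.1 (Nat.eq_one_of_dvd_coprimes
    (Nat.Coprime.pow_left k (Nat.coprime_two_left.2 oo)) (orderOf_dvd_of_pow_eq_one hk) dvd_rfl)
  rwa [e2, o1, inv_one, mul_one] at e4

theorem b2_syl : IsSylowIn 2 (EA T e ⊔ zpowers n)
    (centralizer ((EA T e ⊓ A : Subgroup G) : Set G) ⊓ b2Fx (zpowers s) n) := by
  have cs : ∀ y, Commute y s → ∀ v ∈ zpowers s, Commute y v := fun y hy v hv => (ba2_zp hv hy.symm).symm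
  refine isSylowIn_of_maximal (h.syl.pgroup.to_inf_left.to_sup_of_normal_left'
    (isPGroup_zpowers_of_pow (k := 1) (by rw [pow_one, pow_two, hn.n2])) (zpowers_le.2 (hn.b2_nE h)))
    (sup_le (fun y hy => mem_inf.2 ⟨fun v hv => (h.Ec hv.1 hy).eq, ?_⟩) (zpowers_le.2 (mem_inf.2
      ⟨fun v hv => (h.b2_c hn.nz hn.ne v hv).symm.eq, 1, cs n hn.ns, one_mem _, by group⟩))) fun R hR hle hN => ?_
  · obtain ⟨-, -, ⟨-, h3⟩ | ⟨-, h3⟩⟩ := hn.b2_En h hy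
    · exact ⟨1, cs y (h.Ec hy h.b2_s), one_mem _, by rw [h3.eq]; group⟩
    · exact ⟨s, cs y (h.Ec hy h.b2_s), mem_zpowers s, h3⟩
  by_contra hne
  obtain ⟨x, hx, xS, xN⟩ := exists_mem_normalizer_of_lt hR (lt_of_le_not_ge hle hne)
  obtain ⟨xU, u, a1⟩ := hN hx
  have xs := a1.1 s (mem_zpowers s)
  have tS : t ∈ EA T e ⊔ zpowers n := mem_sup_left h.b2_t
  rcases b2_two h.s2 a1.2.1 with rfl | rfl
  · exact xS (hn.b2_step h tA hq h1 hR hle hx xN (fun v hv => (xU v hv).symm) xs a1.comm)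
  · have a2 := a1.mul (⟨cs t h.st.symm, mem_zpowers u, hn.b2_tn h⟩ : B2Ac (zpowers u) n t u)
    rw [h.s2] at a2
    exact xS ((mul_mem_cancel_right tS).1 (hn.b2_step h tA hq h1 hR hle (mul_mem hx (hle tS))
      (mul_mem xN (le_normalizer tS)) (fun v hv => Commute.mul_left (xU v hv).symm (h.Ec h.b2_t hv.1))
      (xs.mul_left h.st.symm) a2.comm))

/-- the 2-elements of `C(F)` lie in `F` -/
theorem b2_F (cU : ∀ v ∈ EA T e ⊓ A, Commute c v) (cs : Commute c s) (cn : Commute c n)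
    (c2 : IsPGroup 2 (zpowers c)) : ∃ u ∈ EA T e ⊓ A, c = u ∨ c = s * u ∨ c = u * n ∨ c = s * u * n := by
  have cs' : ∀ y, Commute y s → ∀ v ∈ zpowers s, Commute y v := fun y hy v hv => (ba2_zp hv hy.symm).symm
  have key : ∀ m, (∀ v ∈ EA T e ⊓ A, Commute m v) → Commute m s → Commute m n →
      m * c * m⁻¹ ∈ EA T e ⊔ zpowers n → ∃ u ∈ EA T e ⊓ A, c = u ∨ c = s * u ∨ c = u * n ∨ c = s * u * n := by
    intro m mU ms mn hm
    have a1 : Commute (m * c * m⁻¹) n := (mn.mul_left cn).mul_left mn.inv_left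
    have a2 : ∀ y, y * n * y⁻¹ = n * s → ¬ Commute y n := fun y e1 hy => by
      rw [hy.eq, mul_inv_cancel_right, left_eq_mul] at e1
      exact hq.s1 e1
    have a3 : ∀ y, Commute m y → m * c * m⁻¹ = y → c = y := fun y hy e1 => by
      rwa [mul_inv_eq_iff_eq_mul, ← hy.eq, mul_right_inj] at e1
    rcases hn.b2_mem h hm with h2 | ⟨y, hy, h2⟩
    · obtain ⟨u, hu, ⟨h3 | h3, -⟩ | ⟨-, h3⟩⟩ := hn.b2_En h h2
      · exact ⟨u, hu, .inl (a3 _ (mU u hu) h3)⟩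
      · exact ⟨u, hu, .inr (.inl (a3 _ (ms.mul_right (mU u hu)) h3))⟩
      · exact absurd a1 (a2 _ h3)
    · obtain ⟨u, hu, ⟨rfl | rfl, -⟩ | ⟨-, h3⟩⟩ := hn.b2_En h hy
      · exact ⟨y, hu, .inr (.inr (.inl (a3 _ ((mU y hu).mul_right mn) h2)))⟩
      · exact ⟨u, hu, .inr (.inr (.inr (a3 _ ((ms.mul_right (mU u hu)).mul_right mn) h2)))⟩
      · refine absurd ?_ (a2 _ h3)
        have := a1.mul_left (Commute.refl n).inv_left
        rwa [h2, mul_inv_cancel_right] at this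
  obtain ⟨m, ⟨mU, u, a1⟩, hm⟩ := (hn.b2_syl h tA hq h1).exists_conj_mem (x := c) (mem_inf.2
    ⟨fun v hv => (cU v hv).symm.eq, 1, cs' c cs, one_mem _, by rw [cn.eq]; group⟩) c2
  have ms := a1.1 s (mem_zpowers s)
  rcases b2_two h.s2 a1.2.1 with rfl | rfl
  · exact key m (fun v hv => (mU v hv).symm) ms a1.comm hm
  · have a2 := B2Ac.mul (⟨cs' t h.st.symm, mem_zpowers u, hn.b2_tn h⟩ : B2Ac (zpowers u) n t u) a1
    rw [h.s2] at a2
    have tS : t ∈ EA T e ⊔ zpowers n := mem_sup_left h.b2_t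
    refine key (t * m) (fun v hv => (h.Ec h.b2_t hv.1).mul_left (mU v hv).symm) (h.st.symm.mul_left ms) a2.comm ?_
    simpa only [mul_inv_rev, mul_assoc] using mul_mem (mul_mem tS hm) (inv_mem tS)

/-- a 2-element acting freely on `F` is an involution modulo `F` -/
theorem b2_adj {v : G} (hv : v = e ∨ v = e * z) (a1 : B2Ac (EA T e ⊓ A) s g z) (a2 : B2Ac (EA T e ⊓ A) n g v)
    (g2 : IsPGroup 2 (zpowers g)) : ∃ f, (f = 1 ∨ f = s ∨ f = n ∨ f = s * n) ∧ g * f * (g * f) = 1 := by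
  have U2 : ∀ u ∈ EA T e ⊓ A, u * u = 1 := fun u hu => h.E2 hu.1
  have nU := h.b2_c hn.nz hn.ne
  have sU := h.b2_c h.sz h.se
  have vU := a2.2.1
  have zv : z * v ≠ 1 := by
    rcases hv with rfl | rfl
    · rw [h.dg.fq_ze]; exact h.dg.fq_ez1
    · rw [← h.dg.fq_ze, h.dg.fq_zz]; exact h.dg.fq_e1
  have v1 : v ≠ 1 := by
    rcases hv with rfl | rfl
    exacts [h.dg.fq_e1, h.dg.fq_ez1]
  have a3 : g * (s * n) * g⁻¹ = s * n * (z * v) := by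
    rw [← conj_mul, a1.2.2, a2.2.2, mul_assoc, mul_assoc, ← mul_assoc z, ← hn.nz.eq, mul_assoc]
  have b1 := a1.mul a1
  have b2 := a2.mul a2
  rw [U2 _ h.b2_z] at b1
  rw [U2 _ vU] at b2
  obtain ⟨u, hu, h2⟩ := hn.b2_F h tA hq h1 b1.1 b1.comm b2.comm
    (g2.to_le (zpowers_le.2 (mul_mem (mem_zpowers g) (mem_zpowers g))))
  have key : ∀ x y, g * x * g⁻¹ = x * y → g * g = u * x → y = 1 := fun x y e1 e2 => by
    have : g * (g * g) * g⁻¹ = g * g := by group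
    rwa [e2, ← conj_mul, e1, (a1.1 u hu).eq, mul_inv_cancel_right, mul_right_inj, mul_eq_left] at this
  rcases h2 with h2 | h2 | h2 | h2
  · have h3 : u = 1 ∨ u = z ∨ u = v ∨ u = z * v := by
      rcases h.EAA hu.1 hu.2 with h3 | h3 | h3 | h3 <;> rcases hv with h4 | h4 <;>
        simp [h3, h4, ← h.dg.fq_ze, h.dg.fq_zz]
    rcases h3 with rfl | rfl | rfl | rfl
    · exact ⟨1, .inl rfl, by rw [mul_one, h2]⟩
    · exact ⟨s, .inr (.inl rfl), (b2_sq h.s2 a1.2.2 h2 (sU _ (mul_mem hu hu))).trans (U2 _ hu)⟩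
    · exact ⟨n, .inr (.inr (.inl rfl)), (b2_sq hn.n2 a2.2.2 h2 (nU _ (mul_mem hu hu))).trans (U2 _ hu)⟩
    · refine ⟨s * n, .inr (.inr (.inr rfl)), (b2_sq ?_ a3 h2
        ((sU _ (mul_mem hu hu)).mul_left (nU _ (mul_mem hu hu)))).trans (U2 _ hu)⟩
      rw [hn.ns.mul_mul_mul_comm, h.s2, hn.n2, mul_one]
  · exact absurd (key _ _ a1.2.2 (h2.trans (sU u hu).eq)) h.dg.z1
  · exact absurd (key _ _ a2.2.2 h2) v1
  · exact absurd (key _ _ a3 (by rw [h2, (sU u hu).eq, mul_assoc])) zv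

end Nb

theorem Nb.mu1 (h : Ab A W T t z e b s w ρ τ) (tA : Tame W t z e s) (hq : QQ t z e b s ρ q) {n r : G}
    (hn : Nb W t z e b s ρ q n r) (h1 : n * q * n⁻¹ = q * z) : False := by
  have U2 : ∀ u ∈ EA T e ⊓ A, u * u = 1 := fun u hu => h.E2 hu.1
  have nU := h.b2_c hn.nz hn.ne
  have sU := h.b2_c h.sz h.se
  have rU := h.b2_c hn.rz hn.re
  have qn := hn.b2_qn h hq h1
  have qs : B2Ac (EA T e ⊓ A) s q 1 := ⟨qn.1, one_mem _, by rw [hq.qs.eq]; group⟩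
  have pU : ∀ v ∈ EA T e ⊓ A, Commute (r * q * r⁻¹) v := fun v hv =>
    ((rU v hv).mul_left (qn.1 v hv)).mul_left (rU v hv).inv_left
  have pn : B2Ac (EA T e ⊓ A) n (r * q * r⁻¹) 1 := ⟨pU, one_mem _, by
    rw [← hn.rs, show r * q * r⁻¹ * (r * s * r⁻¹) * (r * q * r⁻¹)⁻¹ = r * (q * s * q⁻¹) * r⁻¹ by group, qs.2.2]
    group⟩
  have rns : r * (n * s) * r⁻¹ = s := by
    rw [← conj_mul, hn.rn, hn.rs, mul_assoc, ← hn.ns.eq, ← mul_assoc, hn.n2, one_mul]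
  have ps : B2Ac (EA T e ⊓ A) s (r * q * r⁻¹) z := ⟨pU, h.b2_z, by
    have : r * q * r⁻¹ * (r * (n * s) * r⁻¹) * (r * q * r⁻¹)⁻¹ = r * (n * s) * r⁻¹ * z := by
      rw [show r * q * r⁻¹ * (r * (n * s) * r⁻¹) * (r * q * r⁻¹)⁻¹ = r * (q * n * q⁻¹ * (q * s * q⁻¹)) * r⁻¹ by group,
        qn.2.2, qs.2.2, mul_one, mul_assoc n, ← h.sz.eq, mul_assoc _ r⁻¹, hn.rz.inv_left.eq]
      group
    rwa [rns] at this⟩
  have xs := (qs.cj h.b2_ρ h.ρs).mul ps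
  have xn := (qn.cj h.b2_ρ hn.nρ.symm).mul pn
  rw [mul_one, mul_inv_cancel, one_mul] at xs
  rw [h.ρz, mul_one] at xn
  obtain ⟨x, hx, o, ho, x2, oo, e1⟩ := fq_split (ρ * q * ρ⁻¹ * (r * q * r⁻¹))
  have key : ∀ y u, B2Ac (EA T e ⊓ A) y (ρ * q * ρ⁻¹ * (r * q * r⁻¹)) u → B2Ac (EA T e ⊓ A) y x u := by
    intro y u a1
    obtain ⟨v, a2⟩ : o ∈ b2Fx (EA T e ⊓ A) y := zpowers_le.2 (show _ ∈ b2Fx _ _ from ⟨u, a1⟩) ho
    obtain rfl := fq_odd oo a2.2.2 (by rw [(a2.1 v a2.2.1).eq, mul_inv_cancel_right]) (k := 1)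
      (by rw [pow_one, pow_two, U2 v a2.2.1])
    have := a1.mul a2.inv
    rwa [e1, mul_inv_cancel_right, inv_one, mul_one] at this
  have fF : ∀ f, (f = 1 ∨ f = s ∨ f = n ∨ f = s * n) → B2Ac (EA T e ⊓ A) s f 1 ∧ B2Ac (EA T e ⊓ A) n f 1 := by
    have b1 : B2Ac (EA T e ⊓ A) s s 1 := ⟨sU, one_mem _, by group⟩
    have b2 : B2Ac (EA T e ⊓ A) n s 1 := ⟨sU, one_mem _, by rw [← hn.ns.eq]; group⟩
    have b3 : B2Ac (EA T e ⊓ A) s n 1 := ⟨nU, one_mem _, by rw [hn.ns.eq]; group⟩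
    have b4 : B2Ac (EA T e ⊓ A) n n 1 := ⟨nU, one_mem _, by group⟩
    rintro f (rfl | rfl | rfl | rfl)
    exacts [⟨.one _ _, .one _ _⟩, ⟨b1, b2⟩, ⟨b3, b4⟩, ⟨mul_one (1 : G) ▸ b1.mul b3, mul_one (1 : G) ▸ b2.mul b4⟩]
  obtain ⟨f, hf, f2⟩ := hn.b2_adj h tA hq h1 (.inl rfl) (key _ _ xs) (key _ _ xn) x2
  have as := (key _ _ xs).mul (fF f hf).1
  have an := (key _ _ xn).mul (fF f hf).2
  have qq : q * q * (q * q) = 1 := by
    rcases hq.q2 with e2 | e2 <;> rw [e2]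
    exacts [h.s2, h.E2 (mul_mem h.b2_s h.b2_z.1)]
  obtain ⟨P, hP, qP⟩ := exists_isSylowIn_ge (H := b2Fx (EA T e ⊓ A) s ⊓ b2Fx (EA T e ⊓ A) n)
    (isPGroup_zpowers_of_pow (p := 2) (x := q) (k := 2) (by rw [← qq]; simp [pow_succ, mul_assoc]))
    (zpowers_le.2 (mem_inf.2 ⟨⟨_, qs⟩, _, qn⟩))
  obtain ⟨m, ⟨⟨u, ms⟩, v, mn⟩, hm⟩ := hP.exists_conj_mem (x := x * f) (mem_inf.2 ⟨⟨_, as⟩, _, an⟩)
    (isPGroup_zpowers_of_pow (k := 1) (by rw [pow_one, pow_two, f2]))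
  have bs := (ms.mul as).mul ms.inv
  have bn := (mn.mul an).mul mn.inv
  rw [mul_one, (h.Ec ms.2.1.1 h.b2_z.1).eq, mul_inv_cancel_right] at bs
  rw [mul_one, (h.Ec mn.2.1.1 h.b2_e.1).eq, mul_inv_cancel_right] at bn
  have a2 : m * (x * f) * m⁻¹ * (m * (x * f) * m⁻¹) = 1 := by rw [conj_mul, f2, mul_one, mul_inv_cancel]
  generalize m * (x * f) * m⁻¹ = a at hm bs bn a2
  obtain ⟨f', hf', f2'⟩ := hn.b2_adj h tA hq h1 (.inr rfl) (mul_one z ▸ bs.mul qs) (bn.mul qn)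
    (isPGroup_zpowers_of_mem hP.pgroup (mul_mem hm (qP (mem_zpowers q))))
  have inv : a * (q * f' * (q * f')) * a⁻¹ = (q * f' * (q * f'))⁻¹ := by
    have : a * (q * f') * a⁻¹ = (q * f')⁻¹ := by
      rw [inv_eq_of_mul_eq_one_right a2, eq_inv_iff_mul_eq_one, ← f2']
      group
    rw [← conj_mul, this, ← mul_inv_rev]
  have sq : q * f' * (q * f') = s ∨ q * f' * (q * f') = s * z := by
    have c1 : Commute n (q * q) := by
      rcases hq.q2 with e2 | e2 <;> rw [e2]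
      exacts [hn.ns, hn.ns.mul_right hn.nz]
    have c2 : q * n * (q * n) = z * (q * q) := b2_sq hn.n2 qn.2.2 rfl (hn.nz.mul_right c1)
    have c3 : ∀ y, Commute s y → y * s * (y * s) = y * y := fun y hy => by
      rw [hy.mul_mul_mul_comm, h.s2, mul_one]
    have c4 : z * (q * q) = s ∨ z * (q * q) = s * z := by
      rcases hq.q2 with e2 | e2 <;> rw [e2]
      · exact .inr h.sz.eq.symm
      · exact .inl (by rw [h.sz.eq, h.dg.fq_zz])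
    rcases hf' with rfl | rfl | rfl | rfl
    · rw [mul_one]; exact hq.q2
    · rw [c3 q hq.qs.symm]; exact hq.q2
    · rwa [c2]
    · rwa [← hn.ns.eq, ← mul_assoc q n s, c3 _ (hq.qs.symm.mul_right hn.ns.symm), c2]
  rcases sq with e2 | e2 <;> rw [e2] at inv
  · rw [bs.2.2, inv_eq_of_mul_eq_one_right h.s2, mul_eq_left] at inv
    exact h.dg.z1 inv
  · rw [← conj_mul, bs.2.2, (bs.1 z h.b2_z).eq, mul_inv_cancel_right,
      inv_eq_of_mul_eq_one_right (h.E2 (mul_mem h.b2_s h.b2_z.1)), mul_eq_left] at inv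
    exact h.dg.z1 inv

end CfsgLib.A7S
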