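import Cfsg.Agent.Lib.A7S.Ul

/-! EE2: type (E, E), the group `M` (plans/A7S.md) -/

set_option autoImplicit false
set_option linter.unusedSectionVars false

namespace CfsgLib.A7S

open Subgroup Cfsg CfsgLib.Tech CfsgLib.Dih8 CfsgLib.D8S

variable {G : Type*} [Group G] [Finite G] {A W T E S : Subgroup G} {t z e b s w ρ τ η g q c y : G}

namespace E2

/-- pairs of bits -/
abbrev B2 := Bool × Bool

/-- normal forms -/
abbrev N := B2 × B2 × B2

/-- zero -/
def o : B2 := (false, false)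

/-- addition -/
def ad (a c : B2) : B2 := (xor a.1 c.1, xor a.2 c.2)

/-- the commutator form -/
def β (δ : Bool) (v u : B2) : B2 :=
  (xor (v.1 && u.1) (δ && v.2 && u.2), xor (xor (v.1 && u.2) (v.2 && u.1)) (v.2 && u.2))

/-- multiplication of normal forms -/
def ml (δ : Bool) (x y : N) : N := (ad x.1 y.1, ad x.2.1 y.2.1, ad (ad x.2.2 y.2.2) (β δ x.2.1 y.1))

/-- the action of `t` on pairs -/
def θ2 (a : B2) : B2 := (xor a.1 a.2, a.2)

/-- the action of `t` -/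
def θ (x : N) : N := (θ2 x.1, θ2 x.2.1, θ2 x.2.2)

/-- inversion -/
def iv (δ : Bool) (x : N) : N := ml δ x (ml δ x x)

/-- the `E₁₆` around an involution -/
def Sx (n k : N) : Bool :=
  if n.2.1 = o then k.2.1 = o else if n.1 = o then k.1 = o else (k.1 = o || k.1 = n.1) && (k.2.1 = o || k.2.1 = n.2.1)

instance decB2 (p : B2 → Prop) [DecidablePred p] : Decidable (∀ x, p x) :=
  decidable_of_iff (∀ a c, p (a, c)) Prod.forall.symm

instance decN (p : N → Prop) [DecidablePred p] : Decidable (∀ x, p x) :=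
  decidable_of_iff (∀ a c d, p (a, c, d)) ⟨fun h x => h x.1 x.2.1 x.2.2, fun h _ _ _ => h _⟩

theorem d_iv : ∀ (δ : Bool) (x : N), ml δ x (iv δ x) = (o, o, o) := by decide +kernel

theorem d_inj : ∀ (δ : Bool) (x y : N), ml δ x (iv δ y) = (o, o, o) → x = y := by decide +kernel

theorem d_D : ∀ (δ : Bool) (x : N), (ml δ (θ x) (iv δ x)).1.2 = false ∧ (ml δ (θ x) (iv δ x)).2.1.2 = false ∧
    (x.1.2 = false → x.2.1.2 = false → (ml δ (θ x) (iv δ x)).2.2.2 = false) := by decide +kernel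

theorem d_fix : ∀ x : N, θ x = x → x.1.2 = false ∧ x.2.1.2 = false ∧ x.2.2.2 = false := by decide +kernel

theorem d_cm : ∀ (δ : Bool) (x y : N),
    ml δ x y = ml δ (o, o, ad (β δ x.2.1 y.1) (β δ y.2.1 x.1)) (ml δ y x) := by decide +kernel

theorem d_cen : ∀ (δ : Bool) (x : N) (c : B2), ml δ x (o, o, c) = ml δ (o, o, c) x := by decide +kernel

theorem d_S : ∀ (δ : Bool) (n : N), ml δ n n = (o, o, o) → Sx n n = true ∧ Sx n (o, o, o) = true ∧
    (Finset.univ.filter fun k => Sx n k = true).card = 16 := by decide +kernel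

theorem d_S' : ∀ (δ : Bool) (n : N), ml δ n n = (o, o, o) → ∀ k : N, Sx n k = true →
    ml δ k k = (o, o, o) ∧ ∀ k' : N, Sx n k' = true → Sx n (ml δ k k') = true := by decide +kernel

theorem d_t : ∀ (δ : Bool) (n : N), ml δ (θ n) n = (o, o, o) → ¬ ∀ k : N, θ k ≠ ml δ n k := by decide +kernel

/-- evaluation of a pair -/
def ev (x y : G) (a : B2) : G := (bif a.1 then x else 1) * (bif a.2 then y else 1)

theorem ev_ad {x y : G} (x2 : x * x = 1) (y2 : y * y = 1) (c : y * x = x * y) (a a' : B2) :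
    ev x y (ad a a') = ev x y a * ev x y a' := by
  have x3 : ∀ u, x * (x * u) = u := fun u => by rw [← mul_assoc, x2, one_mul]
  have c' : ∀ u, y * (x * u) = x * (y * u) := fun u => by rw [← mul_assoc, c, mul_assoc]
  obtain ⟨i, j⟩ := a
  obtain ⟨k, l⟩ := a'
  cases i <;> cases j <;> cases k <;> cases l <;> simp [ev, ad, mul_assoc, x2, y2, x3, c, c']

theorem ev_θ {x y : G} (x2 : x * x = 1) (h1 : t * x * t⁻¹ = x) (h2 : t * y * t⁻¹ = x * y) (a : B2) :
    t * ev x y a * t⁻¹ = ev x y (θ2 a) := by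
  have x3 : ∀ u, x * (x * u) = u := fun u => by rw [← mul_assoc, x2, one_mul]
  have h3 : t * (x * y) * t⁻¹ = y := by rw [← conj_mul, h1, h2, x3]
  obtain ⟨i, j⟩ := a
  cases i <;> cases j <;> simp [ev, θ2, h1, h2, h3]

theorem ev_comm {x y u : G} (h1 : Commute u x) (h2 : Commute u y) (a : B2) : Commute u (ev x y a) := by
  obtain ⟨i, j⟩ := a
  cases i <;> cases j <;> simp [ev, h1, h2, h1.mul_right h2]

theorem ev_mem {x y : G} {X : Subgroup G} (h1 : x ∈ X) (h2 : y ∈ X) (a : B2) : ev x y a ∈ X := by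
  obtain ⟨i, j⟩ := a
  cases i <;> cases j <;> simp [ev, h1, h2, X.mul_mem h1 h2]

/-- the relations of `M ⟨t⟩` -/
structure Rl (t z e b q p r : G) (δ : Bool) : Prop where
  dg : DG t z e b
  q2 : q * q = 1
  p2 : p * p = 1
  r2 : r * r = 1
  zp : Commute z p
  zr : Commute z r
  qz : Commute q z
  qe : Commute q e
  qb : Commute q b
  qp : Commute q p
  qr : Commute q r
  pe : Commute p e
  rb : Commute r b
  bp : b * p = p * (b * q)
  re : r * e = e * (r * q)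
  rp : r * p = p * (r * ev z q (δ, true))
  tq : t * q * t⁻¹ = z * q
  tp : t * p * t⁻¹ = e * p
  tr : t * r * t⁻¹ = b * r

/-- evaluation -/
def ψ (z e b q p r : G) (x : N) : G := ev e p x.1 * ev b r x.2.1 * ev z q x.2.2

namespace Rl

variable {p r : G} {δ : Bool} (k : Rl t z e b q p r δ)
include k

theorem vu (v u : B2) : ev b r v * ev e p u = ev e p u * ev b r v * ev z q (β δ v u) := by
  have a : ∀ {x y : G}, Commute x y → ∀ u, x * (y * u) = y * (x * u) := fun h u => h.left_comm u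
  have a' : ∀ {x y c : G}, x * y = c → ∀ u, x * (y * u) = c * u := fun h u => by rw [← mul_assoc, h]
  have ze : Commute z e := k.dg.fq_ze
  have zb : Commute z b := k.dg.fq_zb
  have rp := k.rp
  obtain ⟨i, j⟩ := u
  obtain ⟨m, l⟩ := v
  cases δ <;> simp only [ev, cond_true, cond_false, one_mul] at rp <;>
  cases i <;> cases j <;> cases m <;> cases l <;>
    simp [ev, β, mul_assoc, a' k.bp, a' k.re, a' rp, a' k.dg.fq_be, k.bp, k.re, rp, k.dg.fq_be, a k.qe, a k.qb,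
      a k.qp, a k.qr, a k.qz, k.qe.eq, k.qb.eq, k.qp.eq, k.qr.eq, k.qz.eq, a ze, a zb, a k.zp, a k.zr, ze.eq, zb.eq,
      k.zp.eq, k.zr.eq, a' k.q2, k.q2, a' k.dg.z2, k.dg.z2]

theorem cz (c a : B2) : Commute (ev z q c) (ev e p a) ∧ Commute (ev z q c) (ev b r a) :=
  ⟨(ev_comm (ev_comm k.dg.fq_ze k.zp a).symm (ev_comm k.qe k.qp a).symm c).symm,
    (ev_comm (ev_comm k.dg.fq_zb k.zr a).symm (ev_comm k.qb k.qr a).symm c).symm⟩

theorem mul (x y : N) : ψ z e b q p r (ml δ x y) = ψ z e b q p r x * ψ z e b q p r y := by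
  obtain ⟨u, v, c⟩ := x
  obtain ⟨u', v', c'⟩ := y
  simp only [ψ, ml, ev_ad k.dg.e2 k.p2 k.pe.eq, ev_ad k.dg.b2 k.r2 k.rb.eq, ev_ad k.dg.z2 k.q2 k.qz.eq]
  have c1 : ∀ a a', Commute (ev z q a) (ev z q a') := fun a a' => by
    have := fun a a' => ev_ad k.dg.z2 k.q2 k.qz.eq a a'
    change _ = _
    rw [← this, ← this]
    simp only [ad, Bool.xor_comm]
  have c2 : Commute (ev b r v' * ev z q c * ev z q c') (ev z q (β δ v u')) :=
    (((k.cz _ v').2.symm.mul_left (c1 _ _)).mul_left (c1 _ _))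
  calc _ = ev e p u * (ev e p u' * ev b r v * (ev b r v' * ev z q c * ev z q c' * ev z q (β δ v u'))) := by group
    _ = ev e p u * (ev e p u' * ev b r v * ev z q (β δ v u')) * (ev z q c * ev b r v' * ev z q c') := by
      rw [c2.eq, (k.cz c v').2.eq]
      group
    _ = ev e p u * ev b r v * (ev e p u' * ev z q c) * ev b r v' * ev z q c' := by
      rw [← k.vu]
      group
    _ = _ := by
      rw [← (k.cz c u').1.eq]
      group

omit k in
theorem one : ψ z e b q p r (o, o, o) = 1 := by simp [ψ, ev, o]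

theorem inv (x : N) : (ψ z e b q p r x)⁻¹ = ψ z e b q p r (iv δ x) := by
  rw [inv_eq_iff_mul_eq_one, ← k.mul, d_iv, one]

theorem act (x : N) : t * ψ z e b q p r x * t⁻¹ = ψ z e b q p r (θ x) := by
  simp only [ψ, θ, ← conj_mul]
  rw [ev_θ k.dg.e2 k.dg.te.mul_inv_cancel k.tp, ev_θ k.dg.b2 k.dg.tb.mul_inv_cancel k.tr,
    ev_θ k.dg.z2 k.dg.fq_tz.mul_inv_cancel k.tq]

theorem k0 (x : N) (h1 : x.1.2 = false) (h2 : x.2.1.2 = false) (h3 : x.2.2.2 = false)
    (h : ψ z e b q p r x = 1) : x = (o, o, o) := by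
  obtain ⟨⟨i, j⟩, ⟨m, l⟩, n, u⟩ := x
  dsimp only at h1 h2 h3
  subst h1 h2 h3
  have eb : e * b ≠ 1 := fun h => k.dg.z1 (by rw [← k.dg.eb, h, one_mul])
  have ebz : e * b * z ≠ 1 := fun h => k.dg.z1 (by
    rw [mul_eq_one_iff_eq_inv, k.dg.fq_zi] at h
    rw [← k.dg.eb, h, k.dg.z2])
  have := k.dg.z1
  have := k.dg.fq_e1
  have := k.dg.fq_ez1
  have := k.dg.fq_symm.fq_e1
  have := k.dg.fq_symm.fq_ez1
  cases i <;> cases m <;> cases n <;> simp_all [ψ, ev, o]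

theorem k1 (x : N) (h : ψ z e b q p r x = 1) : ψ z e b q p r (ml δ (θ x) (iv δ x)) = 1 := by
  rw [k.mul, ← k.act, ← k.inv, h]
  group

theorem k2 (x : N) (h : ψ z e b q p r x = 1) : x = (o, o, o) := by
  have a : ∀ x : N, ψ z e b q p r x = 1 → ml δ (θ x) (iv δ x) = (o, o, o) → x = (o, o, o) := fun x h h' =>
    have := d_fix x (d_inj δ _ _ h')
    k.k0 x this.1 this.2.1 this.2.2 h
  obtain ⟨b1, b2, -⟩ := d_D δ x
  obtain ⟨c1, c2, c3⟩ := d_D δ (ml δ (θ x) (iv δ x))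
  exact a x h (a _ (k.k1 x h) (k.k0 _ c1 c2 (c3 b1 b2) (k.k1 _ (k.k1 x h))))

theorem inj : Function.Injective (ψ z e b q p r) := fun x y h =>
  d_inj δ x y (k.k2 _ (by rw [k.mul, ← k.inv, h, mul_inv_cancel]))

theorem mem {x : G} : x ∈ closure ({e, b, p, r} : Set G) ↔ ∃ n, ψ z e b q p r n = x := by
  constructor
  · intro hx
    induction hx using closure_induction with
    | mem x hx =>
      rcases hx with rfl | rfl | rfl | rfl
      · exact ⟨((true, false), o, o), by simp [ψ, ev, o]⟩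
      · exact ⟨(o, (true, false), o), by simp [ψ, ev, o]⟩
      · exact ⟨((false, true), o, o), by simp [ψ, ev, o]⟩
      · exact ⟨(o, (false, true), o), by simp [ψ, ev, o]⟩
    | one => exact ⟨_, one⟩
    | mul x y _ _ h1 h2 =>
      obtain ⟨n, rfl⟩ := h1
      obtain ⟨n', rfl⟩ := h2
      exact ⟨_, k.mul n n'⟩
    | inv x _ h1 =>
      obtain ⟨n, rfl⟩ := h1
      exact ⟨_, (k.inv n).symm⟩
  · rintro ⟨n, rfl⟩
    have he : e ∈ closure ({e, b, p, r} : Set G) := subset_closure (by simp)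
    have hb : b ∈ closure ({e, b, p, r} : Set G) := subset_closure (by simp)
    have hp : p ∈ closure ({e, b, p, r} : Set G) := subset_closure (by simp)
    have hr : r ∈ closure ({e, b, p, r} : Set G) := subset_closure (by simp)
    refine mul_mem (mul_mem (ev_mem he hp _) (ev_mem hb hr _)) (ev_mem ?_ ?_ _)
    · rw [← k.dg.eb]
      exact mul_mem (mul_mem he hb) (mul_mem he hb)
    · have : q = b⁻¹ * (p⁻¹ * (b * p)) := by rw [k.bp]; group
      rw [this]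
      exact mul_mem (inv_mem hb) (mul_mem (inv_mem hp) (mul_mem hb hp))

end Rl

end E2

namespace Em

variable (h : Ab A W T t z e b s w ρ τ) (m : Em t z e b s w ρ τ q)
include h m

theorem rl : ∃ δ, E2.Rl t z e b q (ρ * q * ρ⁻¹) (τ * q * τ⁻¹) δ := by
  obtain ⟨p2, pb⟩ := m.U.q1E h m.q2
  obtain ⟨r2, re⟩ := m.V.q1E h.symm m.q2
  obtain ⟨pz, pe, -⟩ := m.U.q1c h
  obtain ⟨rz, rb, -⟩ := m.V.q1c h.symm
  have pt := m.U.q1t h
  have rt := m.V.q1t h.symm
  have qz := m.U.qz h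
  have qp := m.U.cm
  have qr := m.V.cm
  have cm := m.cm
  have qt := m.U.qt
  generalize ρ * q * ρ⁻¹ = p at *
  generalize τ * q * τ⁻¹ = r at *
  have a : ∀ {x y c : G}, x * x = 1 → x * y * x⁻¹ = y * c → y * x = x * (y * c) := fun {x y c} h1 h2 => by
    rw [← h2, inv_eq_of_mul_eq_one_right h1, ← mul_assoc, ← mul_assoc, h1, one_mul]
  have tt := h.dg.t2
  have a3 : ∀ {x c : G}, x * x = 1 → x * t * x⁻¹ = t * c → t * x * t⁻¹ = c * x := fun {x c} h1 h2 => by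
    have : c = t * (x * t * x⁻¹) := by rw [h2, ← mul_assoc, tt, one_mul]
    rw [this, inv_eq_of_mul_eq_one_right tt]
    group
  have re' : r * e = e * (r * q) := by
    rw [← qr.eq, ← mul_assoc, ← re]
    group
  have a4 : ∀ c, Commute c r → (p * r) ^ 2 = c → r * p = p * (r * c) := fun c h1 h2 => by
    rw [← h1.eq, ← h2, sq]
    calc r * p = (p * p) * r * p * (r * r) := by rw [p2, r2]; group
      _ = _ := by group
  rcases cm with cm | cm
  · exact ⟨false, h.dg, m.q2, p2, r2, pz.symm, rz.symm, qz, m.U.qe, m.U.qb, qp, qr, pe, rb, a p2 pb, re',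
      by simpa [E2.ev] using a4 q qr cm, a3 m.q2 qt, a3 p2 pt, a3 r2 rt⟩
  · exact ⟨true, h.dg, m.q2, p2, r2, pz.symm, rz.symm, qz, m.U.qe, m.U.qb, qp, qr, pe, rb, a p2 pb, re',
      by simpa [E2.ev, qz.eq] using a4 _ (qr.mul_left rz.symm) cm, a3 m.q2 qt, a3 p2 pt, a3 r2 rt⟩

theorem card : Nat.card (MM e b ρ τ q) = 64 := by
  obtain ⟨δ, k⟩ := m.rl h
  rw [← Nat.card_congr (Equiv.ofBijective (fun n : E2.N => (⟨_, k.mem.2 ⟨n, rfl⟩⟩ : MM e b ρ τ q))
    ⟨fun x y hxy => k.inj (congrArg Subtype.val hxy), fun x => (k.mem.1 x.2).imp fun n hn => Subtype.ext hn⟩)]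
  simp

theorem cl2 : ∀ x ∈ MM e b ρ τ q, ∀ y ∈ MM e b ρ τ q, ∀ u ∈ MM e b ρ τ q, Commute u (x * y * x⁻¹ * y⁻¹) := by
  obtain ⟨δ, k⟩ := m.rl h
  intro x hx y hy u hu
  obtain ⟨x, rfl⟩ := k.mem.1 hx
  obtain ⟨y, rfl⟩ := k.mem.1 hy
  obtain ⟨u, rfl⟩ := k.mem.1 hu
  have a : ∀ c x y : G, c * (y * x) * x⁻¹ * y⁻¹ = c := fun c x y => by group
  rw [← k.mul, E2.d_cm, k.mul, k.mul, a]
  change _ = _
  rw [← k.mul, ← k.mul, E2.d_cen]

theorem tN : t ∈ normalizer (MM e b ρ τ q : Set G) := by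
  obtain ⟨δ, k⟩ := m.rl h
  refine mem_normalizer_fintype fun x hx => ?_
  obtain ⟨x, rfl⟩ := k.mem.1 hx
  exact k.mem.2 ⟨_, (k.act x).symm⟩

theorem sM : ∀ x ∈ MM e b ρ τ q, Commute s x := by
  have : MM e b ρ τ q ≤ centralizer {s} := by
    rw [closure_le]
    rintro x (rfl | rfl | rfl | rfl) <;> refine mem_centralizer_singleton_iff.2 ?_
    · exact h.se.symm.eq
    · exact h.sb.symm.eq
    · exact (m.U.q1c h).2.2.eq
    · obtain ⟨a1, -, a2⟩ := m.V.q1c h.symm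
      rcases h.sw with ⟨rfl, -⟩ | ⟨rfl, -⟩
      · simp
      · have := a2.mul_right a1
        rw [mul_assoc s, h.dg.z2, mul_one] at this
        exact this.eq
  exact fun x hx => (mem_centralizer_singleton_iff.1 (this hx)).symm

theorem zM : ∀ x ∈ MM e b ρ τ q, Commute z x := by
  have : MM e b ρ τ q ≤ centralizer {z} := by
    rw [closure_le]
    rintro x (rfl | rfl | rfl | rfl) <;> refine mem_centralizer_singleton_iff.2 ?_
    · exact h.dg.fq_ze.symm
    · exact h.dg.fq_zb.symm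
    · exact (m.U.q1c h).1.eq
    · exact (m.V.q1c h.symm).1.eq
  exact fun x hx => (mem_centralizer_singleton_iff.1 (this hx)).symm

theorem CM : ∀ x ∈ MM e b ρ τ q, Commute x t → x ∈ closure ({e, b} : Set G) := by
  obtain ⟨δ, k⟩ := m.rl h
  intro x hx hc
  obtain ⟨⟨⟨i, j⟩, ⟨n, l⟩, u, v⟩, rfl⟩ := k.mem.1 hx
  obtain ⟨h1, h2, h3⟩ := E2.d_fix _ (k.inj ((k.act _).symm.trans hc.symm.mul_inv_cancel))
  dsimp only at h1 h2 h3
  subst h1 h2 h3
  refine mul_mem (mul_mem ?_ ?_) ?_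
  · cases i <;> simp [E2.ev, DG.fq_e_mem]
  · cases n <;> simp [E2.ev, DG.fq_b_mem]
  · cases u <;> simp [E2.ev, h.dg.fq_z_mem]

/-- every involution of `M` lies in an `E₁₆` -/
theorem e16 : ∀ x ∈ MM e b ρ τ q, x * x = 1 →
    ∃ F ≤ MM e b ρ τ q, Nat.card F = 16 ∧ x ∈ F ∧ ∀ u ∈ F, u * u = 1 := by
  obtain ⟨δ, k⟩ := m.rl h
  intro x hx x2
  obtain ⟨n, rfl⟩ := k.mem.1 hx
  have n2 := k.k2 _ ((k.mul n n).trans x2)
  obtain ⟨s1, s2, s3⟩ := E2.d_S δ n n2
  have s4 := E2.d_S' δ n n2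
  let F : Subgroup G :=
    { carrier := E2.ψ z e b q (ρ * q * ρ⁻¹) (τ * q * τ⁻¹) '' ↑(Finset.univ.filter fun a => E2.Sx n a = true)
      mul_mem' := by
        rintro _ _ ⟨a, ha, rfl⟩ ⟨a', ha', rfl⟩
        exact ⟨_, by simpa using (s4 a (by simpa using ha)).2 a' (by simpa using ha'), k.mul a a'⟩
      one_mem' := ⟨_, by simpa using s2, E2.Rl.one⟩
      inv_mem' := by
        rintro _ ⟨a, ha, rfl⟩
        refine ⟨a, ha, (inv_eq_of_mul_eq_one_right ?_).symm⟩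
        rw [← k.mul, (s4 a (by simpa using ha)).1, E2.Rl.one] }
  refine ⟨F, ?_, ?_, ⟨n, by simpa using s1, rfl⟩, ?_⟩
  · rintro _ ⟨a, -, rfl⟩
    exact k.mem.2 ⟨a, rfl⟩
  · change Nat.card ↥(E2.ψ z e b q (ρ * q * ρ⁻¹) (τ * q * τ⁻¹) '' _) = 16
    rw [Nat.card_image_of_injective k.inj, ← s3]
    simp
  · rintro _ ⟨a, ha, rfl⟩
    rw [← k.mul, (s4 a (by simpa using ha)).1, E2.Rl.one]

/-- the involutions of `t M` are conjugate in `M` -/
theorem tM : ∀ x ∈ MM e b ρ τ q, t * x * (t * x) = 1 → ∃ n ∈ MM e b ρ τ q, n * t * n⁻¹ = t * x := by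
  obtain ⟨δ, k⟩ := m.rl h
  intro x hx x2
  obtain ⟨n, rfl⟩ := k.mem.1 hx
  have ti := inv_eq_of_mul_eq_one_right h.dg.t2
  have := E2.d_t δ n (k.k2 _ (by rw [k.mul, ← k.act, ti, ← x2, mul_assoc]))
  push Not at this
  obtain ⟨a, ha⟩ := this
  refine ⟨_, k.mem.2 ⟨a, rfl⟩, ?_⟩
  have e1 := k.act a
  rw [ha, k.mul, ti] at e1
  rw [mul_inv_eq_iff_eq_mul, mul_assoc t, ← e1, ← mul_assoc, ← mul_assoc, h.dg.t2, one_mul]

end Em

end CfsgLib.A7S
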