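import Cfsg.Agent.Lib.A7S.Tri

/-! NSW: `t z` is conjugate to `t` (plans/A7S.md) -/

set_option autoImplicit false
set_option linter.unusedSectionVars false

namespace CfsgLib.A7S

open Subgroup Cfsg CfsgLib.Tech CfsgLib.Dih8 CfsgLib.D8S

variable {G : Type*} [Group G] [Finite G] {A W T E S : Subgroup G} {t z e b s w ρ τ η g q c y : G}

theorem nsw_cj {a x : G} (h : Commute a x) : a * x * a⁻¹ = x := by rw [h.eq, mul_inv_cancel_right]

theorem nsw_cm {a x : G} (h : a * x * a⁻¹ = x) : Commute a x := by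
  have : a * x = a * x * a⁻¹ * a := by group
  rw [Commute, SemiconjBy, this, h]

theorem nsw_mul (a x y : G) : a * (x * y) * a⁻¹ = a * x * a⁻¹ * (a * y * a⁻¹) := by group

theorem nsw_inv {a x y : G} (h : a * x * a⁻¹ = y) : a⁻¹ * y * a⁻¹⁻¹ = x := by rw [← h]; group

theorem nsw_inj {a x y : G} (h : a * x * a⁻¹ = a * y * a⁻¹) : x = y := mul_left_cancel (mul_right_cancel h)

theorem nsw_cmp (a c x : G) : a * c * x * (a * c)⁻¹ = a * (c * x * c⁻¹) * a⁻¹ := by group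

theorem nsw_N {H : Subgroup G} {a x : G} (ha : a ∈ normalizer (H : Set G)) (hx : x ∈ H) : a * x * a⁻¹ ∈ H :=
  (mem_normalizer_iff.1 ha x).1 hx

theorem nsw_tz (h : Ab A W T t z e b s w ρ τ) : t * z ≠ t := fun k => h.dg.z1 (mul_left_cancel (k.trans (mul_one t).symm))

theorem nsw_tt (h : Ab A W T t z e b s w ρ τ) (x : G) : t * (t * x) = x := by rw [← mul_assoc, h.dg.t2, one_mul]

theorem nsw_sz1 (h : Ab A W T t z e b s w ρ τ) (hs : s ≠ 1) : s * z ≠ 1 := ((h.indep h.dg.fq_z_mem).2 hs).1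

theorem nsw_tsz (h : Ab A W T t z e b s w ρ τ) (hs : s ≠ 1) : t * s * z ≠ t := fun k =>
  nsw_sz1 h hs (mul_left_cancel (a := t) (by rw [← mul_assoc, k, mul_one]))

theorem nsw_Ytz (h : Ab A W T t z e b s w ρ τ) : InY T e b (t * z) := h.Yt.mul h.Yz

/-- an element of `N(T)` that moves `t` to `t z` moves `t z` to `t` -/
theorem nsw_back (h : Ab A W T t z e b s w ρ τ) (hg : g ∈ normalizer (T : Set G)) (h1 : g * t * g⁻¹ = t * z) :
    g * (t * z) * g⁻¹ = t := by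
  rw [nsw_mul, h1, h.nT_z hg, mul_assoc, h.dg.z2, mul_one]

/-- two points `y`, `y z` in the orbit of `t` -/
theorem nsw_two (h : Ab A W T t z e b s w ρ τ)
    (K : ∀ n ∈ normalizer (EA T b : Set G), n * t * n⁻¹ ≠ t * z) {n n' : G} (hn : n ∈ normalizer (T : Set G))
    (hB : n ∈ normalizer (EA T b : Set G)) (hB' : n' ∈ normalizer (EA T b : Set G))
    (h1 : n * t * n⁻¹ = y) (h2 : n' * t * n'⁻¹ = y * z) : False := by
  refine K (n⁻¹ * n') (mul_mem (inv_mem hB) hB') ?_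
  rw [nsw_cmp, h2, nsw_mul, nsw_inv h1, h.nT_z (inv_mem hn)]

theorem nsw_core (h : Ab A W T t z e b s w ρ τ) (hs : s ≠ 1)
    (K : ∀ n ∈ normalizer (EA T b : Set G), n * t * n⁻¹ ≠ t * z) {n n' : G} (hn : n ∈ normalizer (T : Set G))
    (hB : n ∈ normalizer (EA T b : Set G)) (hn' : n' ∈ normalizer (T : Set G))
    (hB' : n' ∈ normalizer (EA T b : Set G)) (h1 : n * t * n⁻¹ = s) (h2 : n' * t * n'⁻¹ = t * s * z) : False := by
  obtain ⟨k, hk⟩ : ∃ k, k = n'⁻¹ := ⟨_, rfl⟩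
  have kT : k ∈ normalizer (T : Set G) := hk ▸ inv_mem hn'
  have kB : k ∈ normalizer (EA T b : Set G) := hk ▸ inv_mem hB'
  have k1 : k * (t * s * z) * k⁻¹ = t := hk ▸ nsw_inv h2
  have Yw : InY T e b (t * s * z) := (h.Yt.mul h.Ys).mul h.Yz
  have cs : IsConj t s := isConj_iff.2 ⟨n, h1⟩
  have kz := h.nT_z kT
  rcases h.memY (h.nT_Y kT h.Yt) with k2 | k2 | k2 | k2 | k2 | k2 | k2 | k2
  · exact h.t1 (nsw_inj (a := k) (by rw [k2]; group))
  · exact h.nz (isConj_iff.2 ⟨k, k2⟩)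
  · exact nsw_tsz h hs ((h.reg kT h.Yt (IsConj.refl t) k2 Yw).symm.trans k1)
  · exact K k kB k2
  · exact h.mixed hs kT kB k1 k2
  · exact nsw_two h K hn hB kB h1 k2
  · exact nsw_two h K kT kB hB' k2 h2
  · have k3 : k * s * k⁻¹ = s := by
      have e1 : s = t * (t * s * z) * z := by
        rw [mul_assoc t s z, nsw_tt h, mul_assoc, h.dg.z2, mul_one]
      have e2 : t * s * z * t * z = s := by
        rw [mul_assoc (t * s) z t, ← h.dg.fq_tz.eq, ← mul_assoc, mul_assoc _ z z, h.dg.z2, mul_one, mul_assoc,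
          h.st.eq, nsw_tt h]
      calc k * s * k⁻¹ = k * (t * (t * s * z) * z) * k⁻¹ := by rw [← e1]
        _ = s := by rw [nsw_mul, nsw_mul, k1, k2, kz, e2]
    exact nsw_tsz h hs (k2.symm.trans (h.reg kT h.Ys cs k3 h.Yt))

/-- no element of `N(E_B)` moves `t` to `t z` if an element of `N(T)` interchanging `E_A`, `E_B` does -/
theorem nsw_K (h : Ab A W T t z e b s w ρ τ) (h1 : g * t * g⁻¹ = t * z)
    (s1 : ∀ y ∈ EA T e, g * y * g⁻¹ ∈ EA T b) : ∀ n ∈ normalizer (EA T b : Set G), n * t * n⁻¹ ≠ t * z := by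
  intro n hn k
  refine h.nosw (c := n⁻¹ * g) (nsw_cm ?_) fun y hy => ?_
  · rw [nsw_cmp, h1, nsw_inv k]
  · rw [nsw_cmp]; exact nsw_N (inv_mem hn) (s1 y hy)

theorem nsw_half (h : Ab A W T t z e b s w ρ τ) (hg : g ∈ normalizer (T : Set G)) (h1 : g * t * g⁻¹ = t * z)
    (s1 : ∀ y ∈ EA T e, g * y * g⁻¹ ∈ EA T b) (s2 : ∀ y ∈ EA T b, g * y * g⁻¹ ∈ EA T e) :
    s ≠ 1 ∧ ∃ n ∈ normalizer (T : Set G), n ∈ normalizer (EA T e : Set G) ∧ n ∈ normalizer (EA T b : Set G) ∧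
      (n * t * n⁻¹ = s ∨ n * t * n⁻¹ = t * s) := by
  have K := nsw_K h h1 s1
  have s3 : ∀ y ∈ EA T b, g⁻¹ * y * g⁻¹⁻¹ ∈ EA T e := by
    intro y hy
    have := nsw_N (inv_mem (h.nT_sq hg).1) (s2 y hy)
    convert this using 1
    group
  have rB : g * ρ * g⁻¹ ∈ normalizer (EA T b : Set G) := by
    refine mem_normalizer_fintype fun y hy => ?_
    have := s1 _ (nsw_N h.ρE (s3 y hy))
    rw [nsw_cmp, nsw_cmp]
    exact this
  have ρt : Commute ρ t := h.AC _ h.ρA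
  have τt : Commute τ t := h.AC _ h.τA
  obtain ⟨x, hx⟩ : ∃ x, x = g * (t * e) * g⁻¹ := ⟨_, rfl⟩
  have rx : g * ρ * g⁻¹ * t * (g * ρ * g⁻¹)⁻¹ = x := by
    have e1 : g⁻¹ * t * g⁻¹⁻¹ = t * z := nsw_inv (nsw_back h hg h1)
    have e2 : ρ * (t * z) * ρ⁻¹ = t * e := by rw [nsw_mul, nsw_cj ρt, h.ρz]
    rw [hx, ← e2, ← e1]; group
  have teE : t * e ∈ EA T e := by
    refine ⟨mul_mem h.tT h.eT, mem_centralizer_singleton_iff.2 ?_⟩
    exact (h.dg.te.mul_left (Commute.refl e)).eq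
  have xB : x ∈ EA T b := hx ▸ s1 _ teE
  have xY : ¬ InY T e b x := by
    intro k
    have k1 := h.nT_Y (inv_mem hg) k
    rw [nsw_inv hx.symm] at k1
    have k2 : Commute e b := by
      have := (h.dg.tb).inv_left.mul_left k1.2.2
      rwa [inv_mul_cancel_left] at this
    exact h.dg.fq_ncomm k2.eq
  obtain ⟨u, uB, ut, uw, uY⟩ : ∃ u ∈ normalizer (EA T b : Set G), Commute u t ∧ Commute u w ∧
      InY T e b (u * x * u⁻¹) := by
    rcases h.symm.ρY xB with k | k | k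
    · exact absurd k.symm xY
    · exact ⟨τ, h.symm.ρE, τt, h.τw, k.symm⟩
    · exact ⟨τ⁻¹, inv_mem h.symm.ρE, τt.inv_left, h.τw.inv_left, by rw [inv_inv]; exact k.symm⟩
  obtain ⟨m, hm⟩ : ∃ m, m = u * (g * ρ * g⁻¹) := ⟨_, rfl⟩
  have mB : m ∈ normalizer (EA T b : Set G) := hm ▸ mul_mem uB rB
  have mt : m * t * m⁻¹ = u * x * u⁻¹ := by rw [hm, nsw_cmp, rx]
  have fx : ∀ y, InY T e b y → Commute u y → u * x * u⁻¹ ≠ y := by
    intro y hy hc k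
    have : x = y := nsw_inj (k.trans (nsw_cj hc).symm)
    exact xY (this ▸ hy)
  have Y1 : InY T e b 1 := ⟨one_mem _, Commute.one_left _, Commute.one_left _⟩
  have nz' : u * x * u⁻¹ ≠ z := fun k => h.nz (isConj_iff.2 ⟨m, mt.trans k⟩)
  have ntz : u * x * u⁻¹ ≠ t * z := fun k => K m mB (mt.trans k)
  have n1 := fx 1 Y1 (Commute.one_right _)
  have nt := fx t h.Yt ut
  have key : s ≠ 1 ∧ (u * x * u⁻¹ = s ∨ u * x * u⁻¹ = t * s) := by
    rcases h.sw with ⟨s0, -⟩ | ⟨w0, s0⟩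
    · exfalso
      have := h.memY uY
      rw [s0, one_mul, mul_one] at this
      tauto
    · have hs : s ≠ 1 := by
        rintro rfl
        exact s0 (one_mem _)
      have nw := fx (s * z) (h.Ys.mul h.Yz) (w0 ▸ uw)
      have ntw := fx (t * s * z) ((h.Yt.mul h.Ys).mul h.Yz) (by rw [mul_assoc, ← w0]; exact ut.mul_right uw)
      have := h.memY uY
      exact ⟨hs, by tauto⟩
  refine ⟨key.1, ?_⟩
  obtain ⟨n, nT, nt⟩ := h.ctl uY (isConj_iff.2 ⟨m, mt⟩)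
  refine ⟨n, nT, ?_⟩
  rw [nt]
  rcases h.nT_E nT with ⟨k1, k2⟩ | ⟨k1, -⟩
  · exact ⟨k1, k2, key.2⟩
  · exfalso
    refine h.nosw (c := m⁻¹ * n) (nsw_cm ?_) fun y hy => ?_
    · rw [nsw_cmp, nt, nsw_inv mt]
    · rw [nsw_cmp]; exact nsw_N (inv_mem mB) (k1 y hy)

theorem nsw_nosw (h : Ab A W T t z e b s w ρ τ) (hg : g ∈ normalizer (T : Set G)) (h1 : g * t * g⁻¹ = t * z)
    (s1 : ∀ y ∈ EA T e, g * y * g⁻¹ ∈ EA T b) (s2 : ∀ y ∈ EA T b, g * y * g⁻¹ ∈ EA T e) : False := by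
  have K := nsw_K h h1 s1
  obtain ⟨hs, n, nT, -, nB, k⟩ := nsw_half h hg h1 s1 s2
  obtain ⟨-, n', nT', nB', -, k'⟩ := nsw_half h.symm hg h1 s2 s1
  have w0 : w = s * z := by
    rcases h.sw with ⟨s0, -⟩ | ⟨w0, -⟩
    · exact absurd s0 hs
    · exact w0
  rw [w0, ← mul_assoc] at k'
  rcases k with k | k <;> rcases k' with k' | k'
  · exact nsw_two h K nT nB nB' k k'
  · exact nsw_core h hs K nT nB nT' nB' k k'
  · have ts : t * s ≠ 1 := by simpa using ((h.indep (one_mem _)).2 hs).2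
    exact nsw_core (h.twist hs) ts K nT nB nT' nB' k (by rw [k', nsw_tt h])
  · exact nsw_two h K nT nB nB' k k'

theorem Ab.exists_g (h : Ab A W T t z e b s w ρ τ) (hz : IsConj t (t * z)) :
    ∃ g, Gq T t z e b s g ∨ (s ≠ 1 ∧ Gq T t z e b (t * s) g) := by
  obtain ⟨g₀, gT₀, gt₀⟩ := h.ctl (nsw_Ytz h) hz
  obtain ⟨g, gz, gt, gt', gg⟩ := h.two_el gT₀ gt₀ (nsw_back h gT₀ gt₀)
  have gT : g ∈ normalizer (T : Set G) := (zpowers_le.2 gT₀) gz
  obtain ⟨gA, gB⟩ : g ∈ normalizer (EA T e : Set G) ∧ g ∈ normalizer (EA T b : Set G) := by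
    rcases h.nT_E gT with k | ⟨k1, k2⟩
    · exact k
    · exact (nsw_nosw h gT gt k1 k2).elim
  refine ⟨g, ?_⟩
  by_cases hs : s = 1
  · exact Or.inl ⟨gT, gA, gB, gt, gg, hs ▸ Commute.one_right g⟩
  have gz := h.nT_z gT
  have g2 : g * (g * s * g⁻¹) * g⁻¹ = s := by rw [← nsw_cmp, nsw_cj (h.cT gg).2.1]
  have sz1 := nsw_sz1 h hs
  have i1 := ((h.indep (one_mem _)).2 hs).2
  have i2 := ((h.indep h.dg.fq_z_mem).2 hs).2
  have zt := h.dg.fq_tz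
  rcases h.memY (h.nT_Y gT h.Ys) with k | k | k | k | k | k | k | k
  · exact absurd (nsw_inj (a := g) (by rw [k]; group)) hs
  · have : s = z := nsw_inj (k.trans gz.symm)
    exact absurd (by rw [this, h.dg.z2]) sz1
  · have : s = t * z := nsw_inj (k.trans gt'.symm)
    exact absurd (by rw [this, nsw_tt h, h.dg.z2]) i2
  · have : s = t := nsw_inj (k.trans gt.symm)
    exact absurd (by rw [this, h.dg.t2, one_mul]) i1
  · exact Or.inl ⟨gT, gA, gB, gt, gg, nsw_cm k⟩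
  · refine Or.inr ⟨hs, gT, gA, gB, gt, gg, nsw_cm ?_⟩
    rw [nsw_mul, gt, k, h.sz.eq, mul_assoc, h.dg.fq_zz]
  · exfalso
    rw [k, nsw_mul, gt, k, zt.eq, mul_assoc, nsw_tt h] at g2
    exact h.dg.z1 (mul_right_cancel (g2.trans (one_mul s).symm))
  · exfalso
    rw [k, nsw_mul, nsw_mul, gt, k, gz, zt.eq, mul_assoc t s z, mul_assoc z t, nsw_tt h, mul_assoc, mul_assoc,
      h.dg.z2, mul_one] at g2
    exact h.dg.z1 (mul_right_cancel (g2.trans (one_mul s).symm))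

theorem nsw_cw (h : Ab A W T t z e b s w ρ τ) (h1 : Commute g s) (h2 : Commute g z) : Commute g w := by
  rcases h.sw with ⟨-, w0⟩ | ⟨w0, -⟩ <;> rw [w0]
  · exact Commute.one_right g
  · exact h1.mul_right h2

theorem Gq.symm (h : Ab A W T t z e b s w ρ τ) (hg : Gq T t z e b s g) : Gq T t z b e w g :=
  ⟨hg.gT, hg.gB, hg.gA, hg.gt, hg.gg, nsw_cw h hg.gs (nsw_cm (h.nT_z hg.gT))⟩

theorem Gq.mul (h : Ab A W T t z e b s w ρ τ) (hg : Gq T t z e b s g) (hy : y ∈ T) : Gq T t z e b s (g * y) := by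
  refine ⟨mul_mem hg.gT (le_normalizer hy), mul_mem hg.gA (h.TE hy), mul_mem hg.gB (h.symm.TE hy), ?_, ?_,
    hg.gs.mul_left (h.cT hy).2.1⟩
  · rw [nsw_cmp, nsw_cj (h.cT hy).1, hg.gt]
  · have := mul_mem (mul_mem hg.gg (nsw_N (inv_mem hg.gT) hy)) hy
    convert this using 1
    group

theorem Gq.ns (h : Ab A W T t z e b s w ρ τ) (hg : Gq T t z e b s g) : ¬ IsConj t s ∧ ¬ IsConj t (s * z) := by
  refine ⟨fun k => ?_, fun k => ?_⟩
  · exact nsw_tz h (hg.gt.symm.trans (h.reg hg.gT h.Ys k (nsw_cj hg.gs) h.Yt))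
  · refine nsw_tz h (hg.gt.symm.trans (h.reg hg.gT (h.Ys.mul h.Yz) k ?_ h.Yt))
    rw [nsw_mul, nsw_cj hg.gs, h.nT_z hg.gT]

theorem nsw_YE (hy : InY T e b y) : y ∈ EA T e := ⟨hy.1, mem_centralizer_singleton_iff.2 hy.2.1.eq⟩

theorem nsw_eE (h : Ab A W T t z e b s w ρ τ) : e ∈ EA T e := ⟨h.eT, mem_centralizer_singleton_iff.2 rfl⟩

theorem nsw_gq (h : Ab A W T t z e b s w ρ τ) (qt : q * t * q⁻¹ = t * z) (qz : Commute q z) (qe : Commute q e)
    (qs : Commute q s) (qb : ∃ y, InY T e b y ∧ q * b * q⁻¹ = b * y) (qq : q * q ∈ T) : Gq T t z e b s q := by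
  obtain ⟨y, hy, qb⟩ := qb
  have Ytz := nsw_Ytz h
  refine ⟨h.nT_of ?_ ?_ ?_ ?_, h.nE_of ?_ ?_ ?_ ?_, h.symm.nE_of ?_ ?_ ?_ ?_, qt, qq, qs⟩
  · rw [qt]; exact Ytz.1
  · rw [nsw_cj qs]; exact h.sT
  · rw [nsw_cj qe]; exact h.eT
  · rw [qb]; exact mul_mem h.bT hy.1
  · rw [qt]; exact nsw_YE Ytz
  · rw [nsw_cj qs]; exact nsw_YE h.Ys
  · rw [nsw_cj qz]; exact nsw_YE h.Yz
  · rw [nsw_cj qe]; exact nsw_eE h
  · rw [qt]; exact nsw_YE Ytz.symm
  · rw [nsw_cj (nsw_cw h qs qz)]; exact nsw_YE h.symm.Ys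
  · rw [nsw_cj qz]; exact nsw_YE h.symm.Yz
  · rw [qb]; exact mul_mem (nsw_eE h.symm) (nsw_YE hy.symm)

theorem EZ.gq (h : Ab A W T t z e b s w ρ τ) (hq : EZ t z e b s ρ q) : Gq T t z e b s q := by
  refine nsw_gq h hq.qt (h.dg.fq_cz hq.qe hq.qb) hq.qe hq.qs
    ⟨1, ⟨one_mem _, Commute.one_left _, Commute.one_left _⟩, by rw [nsw_cj hq.qb, mul_one]⟩ ?_
  rcases hq.q2 with k | k <;> rw [k]
  · exact one_mem _
  · exact h.zT

theorem QQ.gq (h : Ab A W T t z e b s w ρ τ) (hq : QQ t z e b s ρ q) : Gq T t z e b s q := by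
  refine nsw_gq h hq.qt hq.qz hq.qe hq.qs ⟨s, h.Ys, hq.qb⟩ ?_
  rcases hq.q2 with k | k <;> rw [k]
  · exact h.sT
  · exact mul_mem h.sT h.zT

end CfsgLib.A7S
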