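import Cfsg.Agent.Lib.A7S.Defs
import Cfsg.Agent.Lib.D8S.Pg
import Cfsg.Agent.Lib.GHA.Model
import Cfsg.Agent.S2119
import Cfsg.Agent.Lib.Symp.Order

/-! KSP: `PSp₄(q)`, `A₈`, `A₉` (plans/A7S.md) -/

set_option autoImplicit false
set_option linter.unusedSectionVars false

namespace CfsgLib.A7S

open Subgroup Cfsg CfsgLib.Tech CfsgLib.Dih8 CfsgLib.D8S

variable {G : Type*} [Group G] [Finite G] {A W T E S : Subgroup G} {t z e b s w ρ τ η g q c y : G}

/-- a matrix of order 7 that is conjugate to its cube has degree at least 5 -/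
theorem ksp_mat {L ι : Type*} [Field L] [IsAlgClosed L] [Fintype ι] [DecidableEq ι] (h7 : (7 : L) ≠ 0)
    {M C D : Matrix ι ι L} (h1 : M ≠ 1) (hM : M ^ 7 = 1) (hD : D * C = 1) (hC : C * M * D = M ^ 3) :
    5 ≤ Fintype.card ι := by
  classical
  have hn : Nonempty ι := by_contra fun h => h1 (Matrix.ext fun i _ => (h ⟨i⟩).elim)
  have h3 : ∀ μ ∈ spectrum L M, μ ^ 3 ∈ spectrum L M := fun μ h => by
    have := spectrum.pow_mem_pow M 3 h
    rwa [← hC, Matrix.mem_spectrum_iff_isRoot_charpoly, Matrix.charpoly_mul_comm, ← mul_assoc, hD, one_mul,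
      ← Matrix.mem_spectrum_iff_isRoot_charpoly] at this
  obtain ⟨l, hl, e⟩ : ∃ l ∈ spectrum L M, ∑ i ∈ Finset.range 7, l ^ i = 0 := by
    have k : (0 : L) ∈ spectrum L (Polynomial.aeval M (∑ i ∈ Finset.range 7, Polynomial.X ^ i : Polynomial L)) := by
      rw [spectrum.zero_mem_iff]
      intro u
      have e := geom_sum_mul M 7
      rw [hM, sub_self] at e
      simp only [map_sum, map_pow, Polynomial.aeval_X] at u
      exact h1 (sub_eq_zero.1 (u.mul_right_eq_zero.1 e))
    rw [spectrum.map_polynomial_aeval_of_nonempty _ _ (spectrum.nonempty_of_isAlgClosed_of_finiteDimensional L M)] at k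
    obtain ⟨l, hl, e⟩ := k
    exact ⟨l, hl, by simpa [Polynomial.eval_finset_sum] using e⟩
  have l7 : l ^ 7 = 1 := by
    have := geom_sum_mul l 7
    rw [e, zero_mul] at this
    exact sub_eq_zero.1 this.symm
  have := Fact.mk (by norm_num : Nat.Prime 7)
  have ol : orderOf l = 7 := orderOf_eq_prime l7 fun k => h7 (by simpa [k] using e)
  have hp : ∀ k, l ^ k ∈ spectrum L M → l ^ (k * 3 % 7) ∈ spectrum L M := fun k h => by
    rw [← pow_eq_pow_mod _ l7, pow_mul]; exact h3 _ h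
  have s1 : l ^ 1 ∈ spectrum L M := by rwa [pow_one]
  have s3 : l ^ 3 ∈ spectrum L M := hp 1 s1
  have s2 : l ^ 2 ∈ spectrum L M := hp 3 s3
  have s6 : l ^ 6 ∈ spectrum L M := hp 2 s2
  have s4 : l ^ 4 ∈ spectrum L M := hp 6 s6
  have k := Polynomial.card_le_degree_of_subset_roots (p := M.charpoly)
    (Z := ({1, 2, 3, 4, 6} : Finset ℕ).image (l ^ ·)) fun x hx => by
      obtain ⟨i, hi, rfl⟩ := Finset.mem_image.1 (Finset.mem_def.2 hx)
      refine (Polynomial.mem_roots M.charpoly_monic.ne_zero).2 (Matrix.mem_spectrum_iff_isRoot_charpoly.1 ?_)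
      simp only [Finset.mem_insert, Finset.mem_singleton] at hi
      rcases hi with rfl | rfl | rfl | rfl | rfl <;> assumption
  have lt : ∀ i ∈ ({1, 2, 3, 4, 6} : Finset ℕ), i < orderOf l := by rw [ol]; decide
  rwa [Matrix.charpoly_natDegree_eq_dim, Finset.card_image_of_injOn fun i hi j hj h =>
    pow_injOn_Iio_orderOf (lt i hi) (lt j hj) h] at k

theorem ksp_char {K : Type} [Field K] [Fintype K] (h64 : ¬ 128 ∣ Nat.card (PSp 2 K)) : (7 : K) ≠ 0 := fun h => by
  have := Fact.mk (by norm_num : Nat.Prime 7)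
  have : CharP K 7 := (CharP.charP_iff_prime_eq_zero Fact.out).2 (by exact_mod_cast h)
  obtain ⟨n, -, hn⟩ := FiniteField.card K 7
  have e := Symp.card_PSp (F := K) (m := 2) (by norm_num)
  have h2 : Fintype.card K ^ 2 ≡ 1 [MOD 16] := by
    rw [hn, ← pow_mul, mul_comm, pow_mul]
    exact (Nat.ModEq.pow n (show 7 ^ 2 ≡ 1 [MOD 16] by decide)).trans (by rw [one_pow])
  have h3 : 16 ∣ Fintype.card K ^ 2 - 1 :=
    (Nat.modEq_iff_dvd' (Nat.one_le_pow _ _ Fintype.card_pos)).1 h2.symm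
  have h4 : 16 ∣ Fintype.card K ^ 4 - 1 := h3.trans (by
    have := Nat.sub_dvd_pow_sub_pow (Fintype.card K ^ 2) 1 2
    rwa [← pow_mul, one_pow] at this)
  have h5 : 2 * 128 ∣ Nat.gcd 2 (Fintype.card K - 1) * Nat.card (PSp 2 K) := by
    rw [e, Finset.prod_range_succ, Finset.prod_range_one]
    exact Dvd.dvd.mul_left (mul_dvd_mul h3 h4) _
  exact h64 (Nat.dvd_of_mul_dvd_mul_left two_pos
    (h5.trans (mul_dvd_mul_right (Nat.gcd_dvd_left _ _) _)))

theorem ksp_hom {n : ℕ} (hn : 4 ≤ n) (h6 : n ≠ 6) (nE : E.Normal) (cE : centralizer (E : Set G) = ⊥)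
    (f : E ≃* alternatingGroup (Fin n)) : ∃ φ : G →* Equiv.Perm (Fin n), Function.Injective φ := by
  have inj : Function.Injective (MulAut.conjNormal : G →* MulAut E) := (injective_iff_map_eq_one _).2 fun g hg => by
    refine mem_bot.1 (cE ▸ mem_centralizer_iff.2 fun k hk => ?_)
    have := congrArg Subtype.val (DFunLike.congr_fun hg ⟨k, hk⟩)
    simp only [MulAut.conjNormal_apply, MulAut.one_apply] at this
    exact (mul_inv_eq_iff_eq_mul.1 this).symm
  let j := (MulAut.congr f).trans (MulEquiv.ofBijective _ (Agent.S2119.result n hn h6)).symm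
  exact ⟨j.toMonoidHom.comp MulAut.conjNormal, j.injective.comp inj⟩

theorem ksp_cent {n p : ℕ} (hp : p.Prime) {x : Equiv.Perm (Fin n)} (hx : orderOf x = p) :
    ∃ k, (k + 1) * p ≤ n ∧ Nat.card (centralizer {x}) =
      (n - (k + 1) * p).factorial * p ^ (k + 1) * (k + 1).factorial := by
  obtain ⟨k, hk⟩ := Equiv.Perm.cycleType_prime_order (hx ▸ hp)
  have h1 := x.sum_cycleType_le
  have h2 := x.nat_card_centralizer
  rw [hk, hx, Multiset.sum_replicate, smul_eq_mul, Fintype.card_fin] at h1 h2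
  refine ⟨k, h1, ?_⟩
  rw [h2, Multiset.toFinset_replicate, if_neg k.succ_ne_zero, Multiset.prod_replicate, Finset.prod_singleton,
    Multiset.count_replicate_self]

theorem no_psp {K : Type} [Field K] [Fintype K] (hK : Odd (Fintype.card K)) (h64 : ¬ 128 ∣ Nat.card (PSp 2 K))
    {x c : PSp 2 K} (hx : orderOf x = 7) (hc : c * x * c⁻¹ = x ^ 3) : False := by
  obtain ⟨X, rfl⟩ := QuotientGroup.mk_surjective x
  obtain ⟨C, rfl⟩ := QuotientGroup.mk_surjective c
  have sq : ∀ ζ ∈ center (Matrix.symplecticGroup (Fin 2) K), ζ ^ 2 = 1 := fun ζ h => by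
    rcases Symp.mem_center_iff.1 h with rfl | rfl
    · exact one_pow _
    · exact Subtype.ext (by simp [Symp.spNegOne])
  have x7 : (X : PSp 2 K) ^ 7 = 1 := hx ▸ pow_orderOf_eq_one _
  have h14 : X ^ 14 = 1 := by
    rw [show 14 = 7 * 2 from rfl, pow_mul]
    exact sq _ ((QuotientGroup.eq_one_iff _).1 x7)
  have k : (X ^ 3)⁻¹ * (C * X * C⁻¹) ∈ center _ := QuotientGroup.eq.1 hc.symm
  have h3 : C * X ^ 8 * C⁻¹ = (X ^ 8) ^ 3 := by
    have k1 : Commute (X ^ 3) ((X ^ 3)⁻¹ * (C * X * C⁻¹)) := mem_center_iff.1 k _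
    have k2 := k1.mul_pow 8
    rw [mul_inv_cancel_left, conj_pow, show 8 = 2 * 4 from rfl, pow_mul _ 2 4, pow_mul _ 2 4, pow_mul _ 2 4,
      sq _ k, one_pow, mul_one] at k2
    rw [show 8 = 2 * 4 from rfl, pow_mul X 2 4, k2]
    simp only [← pow_mul]
  have h7 : (X ^ 8) ^ 7 = 1 := by rw [← pow_mul, show 8 * 7 = 14 * 4 from rfl, pow_mul, h14, one_pow]
  have h1 : X ^ 8 ≠ 1 := fun e => by
    have := orderOf_dvd_of_pow_eq_one (show (X : PSp 2 K) ^ 8 = 1 from congrArg QuotientGroup.mk e)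
    rw [hx] at this
    omega
  generalize X ^ 8 = Y at h3 h7 h1
  let ψ : Matrix.symplecticGroup (Fin 2) K →* Matrix (Fin 2 ⊕ Fin 2) (Fin 2 ⊕ Fin 2) (AlgebraicClosure K) :=
    (algebraMap K (AlgebraicClosure K)).mapMatrix.toMonoidHom.comp (Submonoid.subtype _)
  have hψ : Function.Injective ψ := fun a b h =>
    Subtype.ext (Matrix.map_injective (algebraMap K (AlgebraicClosure K)).injective h)
  have := ksp_mat (M := ψ Y) (C := ψ C) (D := ψ C⁻¹)
    (fun e => ksp_char h64 ((algebraMap K (AlgebraicClosure K)).injective (by rw [map_ofNat, map_zero, e])))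
    (fun e => h1 (hψ (e.trans (map_one ψ).symm))) (by rw [← map_pow, h7, map_one])
    (by rw [← map_mul, inv_mul_cancel, map_one]) (by rw [← map_mul, ← map_mul, h3, map_pow])
  simp at this

theorem no_a8 (nE : E.Normal) (cE : centralizer (E : Set G) = ⊥) (f : E ≃* alternatingGroup (Fin 8))
    (t2 : t * t = 1) (t1 : t ≠ 1) {x : G} (hx : orderOf x = 7) (hc : Commute x t) : False := by
  obtain ⟨φ, hφ⟩ := ksp_hom (by norm_num) (by norm_num) nE cE f
  obtain ⟨k, h1, h2⟩ := ksp_cent (by norm_num) ((orderOf_injective φ hφ x).trans hx)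
  obtain rfl : k = 0 := by omega
  have := orderOf_dvd_natCard (⟨φ t, mem_centralizer_singleton_iff.2 (hc.map φ).symm⟩ : centralizer {φ x})
  rw [h2, ← orderOf_coe, orderOf_injective φ hφ, orderOf_two_of_mul_self t2 t1] at this
  norm_num at this

theorem a9 (nE : E.Normal) (sE : IsSimpleGroup E) (nab : ¬ IsMulCommutative E) (cE : centralizer (E : Set G) = ⊥)
    (f : E ≃* alternatingGroup (Fin 9)) (t2 : t * t = 1) (tE : t ∉ E) (h7 : 7 ∣ Nat.card (centralizer {t})) :
    Nonempty (G ≃* Equiv.Perm (Fin 9)) ∧ E = commutator G ∧ Nat.card (centralizer {t}) = 10080 := by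
  have hO : Nat.card (Out E) = 2 := by
    have h1 := Nat.card_eq_of_bijective _ (Agent.S2119.result 9 (by norm_num) (by norm_num))
    have h2 := card_eq_card_quotient_mul_card_subgroup (Inn E)
    have h3 : center E = ⊥ := (sE.eq_bot_or_eq_top_of_normal _ inferInstance).resolve_right fun h =>
      nab ⟨⟨fun a b => mem_center_iff.1 (h.ge (mem_top b)) a⟩⟩
    rw [Nat.card_congr (MulAut.congr f).toEquiv, ← h1, ClAut.card_inn h3, Nat.card_congr f.toEquiv,
      nat_card_alternatingGroup, Nat.card_perm, Nat.card_fin, show Nat.factorial 9 = 362880 from rfl] at h2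
    change Nat.card (_ ⧸ _) = 2
    omega
  obtain ⟨j⟩ := aut_iso nE cE tE hO f
  let e := j.trans (MulEquiv.ofBijective _ (Agent.S2119.result 9 (by norm_num) (by norm_num))).symm
  refine ⟨⟨e⟩, (comm_eq nE sE nab cE (by rw [hO]; norm_num)).symm, ?_⟩
  have h1 : Nat.card (centralizer {t}) = Nat.card (centralizer {e t}) :=
    Nat.card_congr (e.toEquiv.subtypeEquiv fun g => by
      simp only [mem_centralizer_singleton_iff, MulEquiv.toEquiv_eq_coe, EquivLike.coe_coe, ← map_mul,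
        EmbeddingLike.apply_eq_iff_eq])
  obtain ⟨k, h2, h3⟩ := ksp_cent Nat.prime_two ((e.orderOf_eq t).trans
    (orderOf_two_of_mul_self t2 fun h => tE (h ▸ one_mem E)))
  rw [h1, h3] at h7 ⊢
  have : k ≤ 3 := by omega
  interval_cases k <;> first | rfl | exact absurd h7 (by decide)

end CfsgLib.A7S
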