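import Cfsg.Agent.Lib.A7S.Qe

/-! MIX: the types (E, Z) and (Z, Z) (plans/A7S.md) -/

set_option autoImplicit false
set_option linter.unusedSectionVars false

namespace CfsgLib.A7S

open Subgroup Cfsg CfsgLib.Tech CfsgLib.Dih8 CfsgLib.D8S

variable {G : Type*} [Group G] [Finite G] {A W T E S : Subgroup G} {t z e b s w ρ τ η g q c y : G}

/-- the elements of `Y` up to a factor `t` -/
theorem Ab.mix_Y (h : Ab A W T t z e b s w ρ τ) (hy : InY T e b y) :
    ∃ u, (u = 1 ∨ u = z ∨ u = s ∨ u = s * z) ∧ (y = u ∨ y = t * u) := by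
  rcases h.memY hy with a | a | a | a | a | a | a | a
  · exact ⟨1, .inl rfl, .inl a⟩
  · exact ⟨z, .inr (.inl rfl), .inl a⟩
  · exact ⟨1, .inl rfl, .inr (by rw [a, mul_one])⟩
  · exact ⟨z, .inr (.inl rfl), .inr a⟩
  · exact ⟨s, .inr (.inr (.inl rfl)), .inl a⟩
  · exact ⟨s * z, .inr (.inr (.inr rfl)), .inl a⟩
  · exact ⟨s, .inr (.inr (.inl rfl)), .inr a⟩
  · exact ⟨s * z, .inr (.inr (.inr rfl)), .inr (by rw [a, mul_assoc])⟩

theorem EZ.mix_u (h : Ab A W T t z e b s w ρ τ) (hq : EZ t z e b s ρ q) {u : G}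
    (hu : u = 1 ∨ u = z ∨ u = s ∨ u = s * z) :
    InY T e b u ∧ Commute q u ∧ q * u * (q * u) = q * q ∧ q * (t * u) * (q * (t * u)) = q * q * z := by
  have a : InY T e b u ∧ Commute q u := by
    rcases hu with rfl | rfl | rfl | rfl
    exacts [⟨⟨one_mem _, Commute.one_left _, Commute.one_left _⟩, Commute.one_right _⟩,
      ⟨h.Yz, hq.qz h⟩, ⟨h.Ys, hq.qs⟩, ⟨h.Ys.mul h.Yz, hq.qs.mul_right (hq.qz h)⟩]
  have u2 := h.Y2 a.1
  have ut := h.Yc a.1 h.tT
  have e1 : t * q * t = q * z := by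
    calc t * q * t = t * (q * t * q⁻¹) * q := by group
      _ = (t * t) * (z * q) := by rw [hq.qt]; group
      _ = q * z := by rw [h.dg.t2, one_mul, (hq.qz h).eq]
  refine ⟨a.1, a.2, ?_, ?_⟩
  · calc q * u * (q * u) = q * (u * q) * u := by group
      _ = q * q * (u * u) := by rw [← a.2.eq]; group
      _ = q * q := by rw [u2, mul_one]
  · calc q * (t * u) * (q * (t * u)) = q * t * (u * (q * t)) * u := by group
      _ = q * (t * q * t) * (u * u) := by rw [(a.2.symm.mul_right ut).eq]; group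
      _ = q * q * z := by rw [u2, e1]; group

theorem Ab.mixEZ (h : Ab A W T t z e b s w ρ τ) (hy : InY T e b y) (hq : EZ t z e b s ρ q)
    (hc : EZ t z b e w τ (q * y)) (q2 : q * q = 1) (c2 : q * y * (q * y) = z) : False := by
  obtain ⟨u, hu, rfl | rfl⟩ := h.mix_Y hy
  · exact h.dg.z1 (by rw [← c2, (hq.mix_u h hu).2.2.1, q2])
  obtain ⟨uY, qu, -, -⟩ := hq.mix_u h hu
  have r1 := (hc.q1Z h.symm c2).2
  have rc := hc.q1c h.symm
  set r := τ * (q * (t * u)) * τ⁻¹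
  have d0 : IsConj t (t * b) := (isConj_iff.2 ⟨q, hq.qt⟩).trans (isConj_iff.2 ⟨τ, by
    rw [← conj_mul, h.τz, (h.AC τ h.τA).mul_inv_cancel]⟩)
  have d1 : IsConj t (t * e * (b * q)) := d0.trans (isConj_iff.2 ⟨ρ * q * ρ⁻¹, by
    rw [← conj_mul, hq.q1t h, (hq.q1E h q2).2]⟩)
  have d2 : IsConj t (t * e * (b * q) * z) := d1.trans (isConj_iff.2 ⟨t⁻¹, by
    have e1 : q * t = t * (q * z) := by
      rw [(hq.qz h).eq, ← mul_assoc, ← hq.qt]; group
    calc t⁻¹ * (t * e * (b * q)) * t⁻¹⁻¹ = e * (b * (q * t)) := by group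
      _ = t * e * (b * q) * z := by
        rw [e1, ← mul_assoc b, ← h.dg.tb.eq, h.dg.te.eq]; group⟩)
  have e2 : r * e * r⁻¹ = t * e * (b * q) * u := by
    have i1 : (q * (t * u))⁻¹ = t * u * q := by
      rw [mul_inv_rev, inv_eq_of_mul_eq_one_right q2, inv_eq_of_mul_eq_one_right (h.Y2 hy)]
    rw [r1, i1]
    calc e * (t * u * q) * b = (e * t) * (u * (q * b)) := by group
      _ = _ := by rw [← h.dg.te.eq, (qu.symm.mul_right uY.2.2).eq, hq.qb.eq]; group
  have k1 : ∀ x, IsConj t (r * x * r⁻¹) → IsConj t x := fun x a =>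
    a.trans (isConj_iff.2 ⟨r, rfl⟩).symm
  have k2 : ¬ IsConj t (r * e * r⁻¹ * s) := fun a => by
    have rs : Commute r s := by
      rcases h.sw with ⟨a, -⟩ | ⟨a, -⟩
      · rw [a]; exact Commute.one_right _
      · have := rc.2.2.mul_right rc.1
        rwa [a, mul_assoc, h.dg.z2, mul_one] at this
    have := k1 (e * s) (by rwa [← conj_mul, rs.mul_inv_cancel])
    refine ((hq.gq h).ns h).2 (this.trans (isConj_iff.2 ⟨ρ, ?_⟩).symm)
    rw [← conj_mul, h.ρs.mul_inv_cancel, h.ρz, h.se.eq]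
  rw [e2] at k2
  have k3 := fun a => h.nA h.eA (k1 e a)
  rw [e2] at k3
  rcases hu with rfl | rfl | rfl | rfl
  · exact k3 (by rwa [mul_one])
  · exact k3 d2
  · exact k2 (by rwa [mul_assoc _ u, h.s2, mul_one])
  · exact k2 (by rwa [mul_assoc _ (s * z), h.sz.eq, mul_assoc z, h.s2, mul_one])

theorem Cn.zz1 (h : Cn A W T t z e b s w ρ τ η) (hq : EZ t z e b s ρ q) (hc : EZ t z b e w τ q)
    (q2 : q * q = z) : False := by
  have a := h.toAb
  have r1 := (hc.q1Z a.symm q2).2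
  have rc := hc.q1c a.symm
  have rt := hc.q1t a.symm
  have rq := hc.cm
  have qc := hq.q1c a
  have qt := hq.q1t a
  set r := τ * q * τ⁻¹
  set p := ρ * q * ρ⁻¹
  have ηq := (h.qη hq.qt hq.qe hq.qb hq.q2 (.inr hq.pr)).symm
  have ηt := h.AC η h.ηA
  have e1 : r⁻¹ * e * r = e * (b * q) := by
    have : e = r * (e * (b * q)) * r⁻¹ := by
      rw [← conj_mul, r1, (rc.2.1.mul_right rq.symm).mul_inv_cancel, mul_assoc, h.dg.fq_bb]; group
    conv_lhs => rw [this]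
    group
  have e2 : r⁻¹ * t * r = t * b := by
    have : t = r * (t * b) * r⁻¹ := by
      rw [← conj_mul, rt, rc.2.1.mul_inv_cancel, mul_assoc, h.dg.b2, mul_one]
    conv_lhs => rw [this]
    group
  have cj : ∀ x, Commute (p⁻¹ * r * η * (p⁻¹ * r)⁻¹) x ↔ Commute η (r⁻¹ * (p * x * p⁻¹) * r) := fun x => by
    rw [← Commute.conj_iff (p⁻¹ * r)⁻¹]
    congr! 1 <;> group
  obtain ⟨i, k, hk, e3⟩ := h.cZ (p⁻¹ * r * η * (p⁻¹ * r)⁻¹) (by
      refine Odd.of_dvd_nat (by decide : Odd 3) (orderOf_dvd_of_pow_eq_one ?_)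
      rw [conj_pow, h.η3]; group)
    ((cj t).2 (by
      rw [qt, show r⁻¹ * (t * e) * r = r⁻¹ * t * r * (r⁻¹ * e * r) by group, e1, e2,
        show t * b * (e * (b * q)) = t * (b * (e * (b * q))) by group, h.dg.fq_be', h.dg.fq_zb',
        h.dg.fq_bb]
      exact ηt.mul_right (h.ηe.mul_right (h.ηz.mul_right ηq))))
    ((cj z).2 (by rw [qc.1.mul_inv_cancel, rc.1.inv_mul_cancel]; exact h.ηz))
  have e4 := (cj e).1 (e3 ▸ (h.ηe.pow_left i).mul_left (h.WA k hk e a.eA))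
  rw [qc.2.1.mul_inv_cancel, e1] at e4
  have e5 : Commute η b := by
    have := (h.ηe.inv_right.mul_right e4).mul_right ηq.inv_right
    rwa [inv_mul_cancel_left, mul_inv_cancel_right] at this
  have e6 := h.bη
  rw [e5.symm.mul_inv_cancel] at e6
  exact h.η1 (by rw [← h.η3, pow_succ, pow_two, eq_inv_iff_mul_eq_one.1 e6, one_mul])

/-- equal types: `y ∈ ⟨s, z⟩` -/
theorem Ab.same (h : Ab A W T t z e b s w ρ τ) (hy : InY T e b y) (hq : EZ t z e b s ρ q)
    (hc : EZ t z b e w τ (q * y)) (h2 : q * y * (q * y) = q * q) :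
    EZ t z b e w τ q ∨ (s ≠ 1 ∧ EZ t z b e w τ (q * s)) := by
  obtain ⟨u, hu, rfl | rfl⟩ := h.mix_Y hy
  · have key : EZ t z b e w τ (q * s) → EZ t z b e w τ q ∨ (s ≠ 1 ∧ EZ t z b e w τ (q * s)) := fun a => by
      by_cases hs : s = 1
      · exact .inl (by rwa [hs, mul_one] at a)
      · exact .inr ⟨hs, a⟩
    have m := hc.mulz h.symm
    rcases hu with rfl | rfl | rfl | rfl
    · exact .inl (by rwa [mul_one] at hc)
    · exact .inl (by rwa [mul_assoc, h.dg.z2, mul_one] at m)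
    · exact key hc
    · exact key (by rwa [mul_assoc, mul_assoc, h.dg.z2, mul_one] at m)
  · rw [(hq.mix_u h hu).2.2.2, mul_eq_left] at h2
    exact absurd h2 h.dg.z1

end CfsgLib.A7S
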