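import Cfsg.Agent.Lib.A7S.Ul

/-! ZZS: the case `Z₄³` (plans/A7S.md) -/

set_option autoImplicit false
set_option linter.unusedSectionVars false

namespace CfsgLib.A7S

open Subgroup Cfsg CfsgLib.Tech CfsgLib.Dih8 CfsgLib.D8S

variable {G : Type*} [Group G] [Finite G] {A W T E S : Subgroup G} {t z e b s w ρ τ η g q c y : G}

/-- a rewriting rule together with its continuation form -/
abbrev ZzR (x y u : G) : Prop := x * y = u ∧ ∀ g, x * (y * g) = u * g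

omit [Finite G] in
theorem zz_r {x y u : G} (h : x * y = u) : ZzR x y u := ⟨h, fun g => by rw [← mul_assoc, h]⟩

theorem zz_c {x y u : G} (h : x * y * x⁻¹ = u) : x * y = u * x := by rw [← h]; group

/-- collection in `⟨t, e, b, a, s, z⟩` -/
theorem zz_nf0 {a : G} (dg : DG t z e b) (s2 : s * s = 1) (st : Commute s t) (se : Commute s e) (sb : Commute s b)
    (at' : a * t * a⁻¹ = t * z) (ae : Commute a e) (ab : Commute a b) (as : Commute a s) (a2 : a * a = z) :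
    ZzR e t (t * e) ∧ ZzR b t (t * b) ∧ ZzR a t (t * a * z) ∧ ZzR s t (t * s) ∧ ZzR z t (t * z) ∧
    ZzR b e (e * b * z) ∧ ZzR a e (e * a) ∧ ZzR s e (e * s) ∧ ZzR z e (e * z) ∧ ZzR a b (b * a) ∧
    ZzR s b (b * s) ∧ ZzR z b (b * z) ∧ ZzR s a (a * s) ∧ ZzR z a (a * z) ∧ ZzR z s (s * z) ∧
    ZzR t t 1 ∧ ZzR e e 1 ∧ ZzR b b 1 ∧ ZzR a a z ∧ ZzR s s 1 ∧ ZzR z z 1 ∧
    t⁻¹ = t ∧ e⁻¹ = e ∧ b⁻¹ = b ∧ a⁻¹ = a * z ∧ s⁻¹ = s ∧ z⁻¹ = z ∧
    (∀ x y w : G, x * y * w = x * (y * w)) ∧ (∀ x y : G, (x * y)⁻¹ = y⁻¹ * x⁻¹) ∧ (∀ x : G, x * 1 = x) ∧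
    (∀ x : G, 1 * x = x) ∧ (∀ x : G, x⁻¹⁻¹ = x) := by
  have az : Commute a z := dg.fq_cz ae ab
  have sz : Commute s z := dg.fq_cz se sb
  refine ⟨zz_r dg.te.eq.symm, zz_r dg.tb.eq.symm, zz_r ?_, zz_r st.eq, zz_r dg.fq_tz.eq.symm, zz_r ?_, zz_r ae.eq,
    zz_r se.eq, zz_r dg.fq_ze, zz_r ab.eq, zz_r sb.eq, zz_r dg.fq_zb, zz_r as.eq.symm, zz_r az.eq.symm,
    zz_r sz.eq.symm, zz_r dg.t2, zz_r dg.e2, zz_r dg.b2, zz_r a2, zz_r s2, zz_r dg.z2,
    inv_eq_of_mul_eq_one_right dg.t2, dg.fq_ei, dg.fq_bi, inv_eq_of_mul_eq_one_right ?_,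
    inv_eq_of_mul_eq_one_right s2, dg.fq_zi, mul_assoc, mul_inv_rev, mul_one, one_mul, inv_inv⟩
  · rw [zz_c at', mul_assoc, ← az.eq, mul_assoc]
  · rw [dg.fq_be, mul_assoc]
  · rw [← mul_assoc, a2, dg.z2]

theorem zz_cl {S : Set G} {K : Subgroup G} (h : ∀ u ∈ S, g * u * g⁻¹ ∈ K) : ∀ u ∈ closure S, g * u * g⁻¹ ∈ K :=
  fun _ hu => (closure_le (K.comap (MulAut.conj g).toMonoidHom)).2 h hu

theorem zz_nrm {S : Set G} (h : ∀ u ∈ S, g * u * g⁻¹ ∈ closure S) : g ∈ normalizer (closure S : Set G) :=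
  mem_normalizer_fintype (zz_cl h)

theorem zz_cm {S : Set G} (h : ∀ u ∈ S, Commute g u) : ∀ u ∈ closure S, Commute g u := fun _ hu =>
  (mem_centralizer_singleton_iff.1 ((closure_le (centralizer {g})).2
    (fun u hu => mem_centralizer_singleton_iff.2 (h u hu).eq.symm) hu)).symm

theorem zz_three {a b c : G} {p : G → Prop} (ha : p a) (hb : p b) (hc : p c) : ∀ u ∈ ({a, b, c} : Set G), p u := by
  rintro u (rfl | rfl | rfl) <;> assumption

theorem zz_mem {a b c : G} : a ∈ closure ({a, b, c} : Set G) ∧ b ∈ closure ({a, b, c} : Set G) ∧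
    c ∈ closure ({a, b, c} : Set G) :=
  ⟨subset_closure (by simp), subset_closure (by simp), subset_closure (by simp)⟩

theorem Ab.zz_Y (h : Ab A W T t z e b s w ρ τ) {H : Subgroup G} (h1 : s ∈ H) (h2 : z ∈ H) (hy : InY T e b y) :
    y ∈ H ∨ ∃ u ∈ H, y = t * u := by
  rcases h.memY hy with k | k | k | k | k | k | k | k
  · exact .inl (k ▸ one_mem _)
  · exact .inl (k ▸ h2)
  · exact .inr ⟨1, one_mem _, by rw [k, mul_one]⟩
  · exact .inr ⟨z, h2, k⟩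
  · exact .inl (k ▸ h1)
  · exact .inl (k ▸ mul_mem h1 h2)
  · exact .inr ⟨s, h1, k⟩
  · exact .inr ⟨s * z, mul_mem h1 h2, by rw [k, mul_assoc]⟩

theorem Ab.zz_E (h : Ab A W T t z e b s w ρ τ) {H : Subgroup G} (h1 : s ∈ H) (h2 : z ∈ H) (h3 : e ∈ H)
    (hy : y ∈ EA T e) : y ∈ H ∨ ∃ u ∈ H, y = t * u := by
  obtain ⟨y₀, h0, k | k⟩ := h.memE hy
  · exact k ▸ h.zz_Y h1 h2 h0
  · rcases h.zz_Y h1 h2 h0 with k1 | ⟨u, k1, k2⟩
    · exact .inl (k ▸ mul_mem k1 h3)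
    · exact .inr ⟨u * e, mul_mem k1 h3, by rw [k, k2, mul_assoc]⟩

theorem zz_odd4 {o : G} (ho : Odd (orderOf o)) (h : o ^ 4 = 1) : o = 1 := by
  have h1 : orderOf o ∣ 2 ^ 2 := orderOf_dvd_of_pow_eq_one h
  exact orderOf_eq_one_iff.1 (Nat.Coprime.eq_one_of_dvd
    (Nat.Coprime.pow_right _ (Nat.coprime_two_right.2 ho)) h1)

/-- `ρ` fixes `v` modulo `H_A` -/
theorem Ab.zz_fix (h : Ab A W T t z e b s w ρ τ) (hs : s ≠ 1) (tm : Tame W t z e s) {v : G}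
    (vt : v * t * v⁻¹ = t * s) (vz : Commute v z) (ve : Commute v e) (vs : Commute v s) (v4 : v ^ 4 = 1)
    (vW : ∀ k ∈ W, Commute k s → Commute k v) : v⁻¹ * (ρ * v * ρ⁻¹) ∈ closure ({s, z, e} : Set G) := by
  have ρt : Commute ρ t := h.AC ρ h.ρA
  have cj : ∀ {x : G}, Commute v x → Commute (ρ * v * ρ⁻¹) (ρ * x * ρ⁻¹) := fun k => k.map (MulAut.conj ρ)
  have e1 : ρ * s * ρ⁻¹ = s := by rw [h.ρs.eq]; group
  have e2 : ρ * t * ρ⁻¹ = t := by rw [ρt.eq]; group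
  have c1 : Commute (ρ * v * ρ⁻¹) s := e1 ▸ cj vs
  have c2 : Commute (ρ * v * ρ⁻¹) e := h.ρz ▸ cj vz
  have c3 : Commute (ρ * v * ρ⁻¹) z := by
    have k := c2.inv_right.mul_right (h.ρe ▸ cj ve)
    rwa [inv_mul_cancel_left] at k
  have c4 : ρ * v * ρ⁻¹ * t * (ρ * v * ρ⁻¹)⁻¹ = t * s := by
    calc _ = ρ * (v * (ρ⁻¹ * t * ρ) * v⁻¹) * ρ⁻¹ := by group
      _ = _ := by rw [ρt.inv_left.eq, inv_mul_cancel_right, vt, ← conj_mul, e1, e2]
  have c5 : Commute (v⁻¹ * (ρ * v * ρ⁻¹)) t := by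
    have k : v⁻¹ * (t * s) = t * v⁻¹ := by rw [← vt]; group
    change _ * _ = _ * _
    rw [mul_assoc, zz_c c4, ← mul_assoc, k, mul_assoc]
  have d1 := vz.inv_left.mul_left c3
  have d2 := ve.inv_left.mul_left c2
  have d3 := vs.inv_left.mul_left c1
  obtain ⟨y, hy, o, ⟨n, ho⟩, oo, hu⟩ := h.decE c5 d1 d2 d3
  have os : Commute o s := ho ▸ d3.zpow_left n
  have oW : o ∈ W := tm o oo (ho ▸ c5.zpow_left n) (ho ▸ d1.zpow_left n) (ho ▸ d2.zpow_left n) os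
  have ov := vW o oW os
  have hv : ρ * v * ρ⁻¹ = v * y * o := by rw [mul_assoc v, ← hu, mul_inv_cancel_left]
  have v4' : (v * y * o) ^ 4 = 1 := by rw [← hv, conj_pow, v4]; group
  have oy : Commute o y := by
    have k : Commute o (y * o) := hu ▸ ho ▸ (Commute.refl _).zpow_left n
    simpa using k.mul_right (Commute.refl o).inv_right
  have vH := zz_cm (zz_three (p := fun u => Commute v u) vs vz ve)
  have y2 := h.E2 hy
  have fin : (v * y) ^ 4 = 1 → o = 1 := fun k => zz_odd4 oo (by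
    rwa [(ov.mul_right oy).symm.mul_pow, k, one_mul] at v4')
  rcases h.zz_E zz_mem.1 zz_mem.2.1 zz_mem.2.2 hy with k | ⟨u, k1, k2⟩
  · have k3 : y ^ 4 = 1 := by rw [show 4 = 2 * 2 from rfl, pow_mul, sq y, y2, one_pow]
    rw [hu, fin (by rw [(vH y k).mul_pow, v4, k3, one_mul]), mul_one]
    exact k
  · exfalso
    have k3 : v * y * v⁻¹ = y * s := by
      have : Commute s u := zz_cm (zz_three (p := fun u => Commute s u) (.refl s) h.sz h.se) u k1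
      rw [k2, ← conj_mul, vt, (vH u k1).eq, mul_inv_cancel_right, mul_assoc, this.eq, mul_assoc]
    have ys : Commute y s := (h.cT hy.1).2.1
    have k4 : v * y * (v * y) = s * (v * v) := by
      have k5 : v * y * v⁻¹ = s * y := by rw [k3, ys.eq]
      have k6 : y * v = s * (v * y) := by
        rw [zz_c k5, ← mul_assoc, ← mul_assoc, h.s2, one_mul]
      calc v * y * (v * y) = v * (y * v) * y := by group
        _ = v * s * v * (y * y) := by rw [k6]; group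
        _ = _ := by rw [y2, mul_one, vs.eq, mul_assoc]
    have k5 : (v * y) ^ 4 = 1 := by
      rw [show 4 = 2 * 2 from rfl, pow_mul, sq (v * y), k4, (vs.mul_left vs).symm.mul_pow, sq s, h.s2, one_mul, ← sq v,
        ← pow_mul, v4]
    rw [fin k5, mul_one] at hv
    have k6 : ρ * (v * v) * ρ⁻¹ = s * (v * v) := by rw [← conj_mul, hv, k4]
    have k7 : ρ ^ 3 * (v * v) * (ρ ^ 3)⁻¹ = ρ * (ρ * (ρ * (v * v) * ρ⁻¹) * ρ⁻¹) * ρ⁻¹ := by
      simp only [pow_succ, pow_zero, one_mul, mul_inv_rev, mul_assoc]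
    rw [h.ρ3, k6, ← conj_mul (a := s), e1, k6, ← mul_assoc s s, h.s2, one_mul, inv_one, mul_one, k6] at k7
    exact hs (mul_eq_right.1 k7.symm)

theorem zz_quot {Q : Type*} [Group Q] {t a x c r τ : Q} (a2 : a * a = 1) (x2 : x * x = 1) (c2 : c * c = 1)
    (y2 : x * c * (x * c) = 1) (ax : Commute a x) (ac : Commute a c) (rd : r * (t * a) * r⁻¹ = t * a)
    (ra : r * a * r⁻¹ = x) (ry : r * (x * c * a) * r⁻¹ = x * c * a) (τt : τ * t * τ⁻¹ = t) (τa : τ * a * τ⁻¹ = c)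
    (τc : τ * c * τ⁻¹ = a * c) (τy : τ * (x * c) * τ⁻¹ = x * c) :
    τ⁻¹ * r * τ * r * t * (τ⁻¹ * r * τ * r)⁻¹ = t * a := by
  have xc : c * x = x * c := by
    rw [← inv_eq_of_mul_eq_one_right y2, mul_inv_rev, inv_eq_of_mul_eq_one_right x2, inv_eq_of_mul_eq_one_right c2]
  have nf : ZzR a a 1 ∧ ZzR x x 1 ∧ ZzR c c 1 ∧ ZzR x a (a * x) ∧ ZzR c a (a * c) ∧ ZzR c x (x * c) :=
    ⟨zz_r a2, zz_r x2, zz_r c2, zz_r ax.eq.symm, zz_r ac.eq.symm, zz_r xc⟩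
  have h1 : r * t * r⁻¹ = t * a * x := by
    have : t = t * a * a := by rw [mul_assoc, a2, mul_one]
    rw [this, ← conj_mul, rd, ra, ← this]
  have h2 : τ * (t * a * x) * τ⁻¹ = t * a * (x * c * a * a) := by
    have : t * a * x = t * a * (x * c * c) := by rw [mul_assoc x, c2, mul_one]
    rw [this, ← conj_mul, ← conj_mul, ← conj_mul (a := x * c), τt, τa, τy, τc]
    simp only [nf, mul_assoc, one_mul, mul_one]
  have h3 : r * (t * a * (x * c * a * a)) * r⁻¹ = τ * (t * a) * τ⁻¹ := by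
    rw [← conj_mul, ← conj_mul (a := x * c * a), rd, ry, ra, ← conj_mul, τt, τa]
    simp only [nf, mul_assoc, one_mul]
  calc _ = τ⁻¹ * (r * (τ * (r * t * r⁻¹) * τ⁻¹) * r⁻¹) * τ := by group
    _ = _ := by rw [h1, h2, h3]; group

theorem zz_mod {H : Subgroup G} {t d a x c r τ : G} (ht : t ∈ normalizer (H : Set G))
    (ha : a ∈ normalizer (H : Set G)) (hx : x ∈ normalizer (H : Set G)) (hc : c ∈ normalizer (H : Set G))
    (hr : r ∈ normalizer (H : Set G)) (hτ : τ ∈ normalizer (H : Set G)) (hd : d ∈ normalizer (H : Set G))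
    (dt : d⁻¹ * (t * a) ∈ H) (a2 : a * a ∈ H) (x2 : x * x ∈ H) (c2 : c * c ∈ H)
    (y2 : x * c⁻¹ * (x * c⁻¹) ∈ H) (ax : Commute a x) (ac : Commute a c) (rd : r * d * r⁻¹ = d)
    (ra : r * a * r⁻¹ = x) (ry : (x * c⁻¹ * a)⁻¹ * (r * (x * c⁻¹ * a) * r⁻¹) ∈ H) (τt : τ * t * τ⁻¹ = t)
    (τa : c⁻¹ * (τ * a * τ⁻¹) ∈ H) (τc : (a * c) * (τ * c * τ⁻¹) ∈ H)
    (τy : (x * c⁻¹)⁻¹ * (τ * (x * c⁻¹) * τ⁻¹) ∈ H) :
    d⁻¹ * (τ⁻¹ * r * τ * r * t * (τ⁻¹ * r * τ * r)⁻¹) ∈ H := by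
  lift t to normalizer (H : Set G) using ht
  lift a to normalizer (H : Set G) using ha
  lift x to normalizer (H : Set G) using hx
  lift c to normalizer (H : Set G) using hc
  lift r to normalizer (H : Set G) using hr
  lift τ to normalizer (H : Set G) using hτ
  lift d to normalizer (H : Set G) using hd
  let π := QuotientGroup.mk' (H.subgroupOf (normalizer (H : Set G)))
  have k : ∀ u : normalizer (H : Set G), (u : G) ∈ H ↔ π u = 1 := fun u =>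
    (QuotientGroup.eq_one_iff (N := H.subgroupOf (normalizer (H : Set G))) u).symm
  have a2' : π a * π a = 1 := (k (a * a)).1 a2
  have x2' : π x * π x = 1 := (k (x * x)).1 x2
  have c2' : π c * π c = 1 := (k (c * c)).1 c2
  have ci := inv_eq_of_mul_eq_one_right c2'
  have ai := inv_eq_of_mul_eq_one_right a2'
  have dt' : π d = π t * π a := inv_mul_eq_one.1 ((k (d⁻¹ * (t * a))).1 dt)
  have y2' : π x * (π c)⁻¹ * (π x * (π c)⁻¹) = 1 := (k (x * c⁻¹ * (x * c⁻¹))).1 y2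
  have ax' : Commute (π a) (π x) := Commute.map (show Commute a x from Subtype.ext ax.eq) π
  have ac' : Commute (π a) (π c) := Commute.map (show Commute a c from Subtype.ext ac.eq) π
  have rd' : π r * π d * (π r)⁻¹ = π d := congrArg π (show r * d * r⁻¹ = d from Subtype.ext rd)
  have ra' : π r * π a * (π r)⁻¹ = π x := congrArg π (show r * a * r⁻¹ = x from Subtype.ext ra)
  have ry' : π x * (π c)⁻¹ * π a = π r * (π x * (π c)⁻¹ * π a) * (π r)⁻¹ :=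
    inv_mul_eq_one.1 ((k ((x * c⁻¹ * a)⁻¹ * (r * (x * c⁻¹ * a) * r⁻¹))).1 ry)
  have τt' : π τ * π t * (π τ)⁻¹ = π t := congrArg π (show τ * t * τ⁻¹ = t from Subtype.ext τt)
  have τa' : π c = π τ * π a * (π τ)⁻¹ := inv_mul_eq_one.1 ((k (c⁻¹ * (τ * a * τ⁻¹))).1 τa)
  have τc' : π a * π c * (π τ * π c * (π τ)⁻¹) = 1 := (k (a * c * (τ * c * τ⁻¹))).1 τc
  have τy' : π x * (π c)⁻¹ = π τ * (π x * (π c)⁻¹) * (π τ)⁻¹ :=
    inv_mul_eq_one.1 ((k ((x * c⁻¹)⁻¹ * (τ * (x * c⁻¹) * τ⁻¹))).1 τy)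
  rw [ci] at y2' ry' τy'
  rw [dt'] at rd'
  have := zz_quot a2' x2' c2' y2' ax' ac' rd' ra' ry'.symm τt' τa'.symm (by
    rw [← inv_eq_of_mul_eq_one_right τc', mul_inv_rev, ci, ai, ac'.eq]) τy'.symm
  exact (k (d⁻¹ * (τ⁻¹ * r * τ * r * t * (τ⁻¹ * r * τ * r)⁻¹))).2 (inv_mul_eq_one.2 (dt'.trans this.symm))

/-- the relations between `a = q`, `p = ρ q ρ⁻¹`, `r = τ (q s) τ⁻¹` and `T` -/
theorem Ab.zz_nf (h : Ab A W T t z e b s w ρ τ) (hs : s ≠ 1) (hq : EZ t z e b s ρ q)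
    (hc : EZ t z b e w τ (q * s)) (q2 : q * q = z) {p r : G} (hp : ρ * q * ρ⁻¹ = p) (hr : τ * (q * s) * τ⁻¹ = r) :
    (ZzR p t (t * e * p) ∧ ZzR p e (e * p) ∧ ZzR p b (e * b * q * p) ∧ ZzR p q (q * p) ∧ ZzR p s (s * p) ∧
      ZzR p z (z * p) ∧ ZzR p p e ∧ p⁻¹ = e * p) ∧
    (ZzR r t (t * b * r) ∧ ZzR r e (e * b * q * s * z * r) ∧ ZzR r b (b * r) ∧ ZzR r q (q * r) ∧ ZzR r s (s * r) ∧
      ZzR r z (z * r) ∧ ZzR r r b ∧ r⁻¹ = b * r) := by
  have n0 := zz_nf0 h.dg h.s2 h.st h.se h.sb hq.qt hq.qe hq.qb hq.qs q2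
  have hw : w = s * z := (h.sw.resolve_left fun k => hs k.1).1
  obtain ⟨p1, p2, p3⟩ := hq.q1c h
  obtain ⟨p4, p5⟩ := hq.q1Z h q2
  have p6 := hq.q1t h
  have p7 := hq.cm
  obtain ⟨r1, r2, r3⟩ := hc.q1c h.symm
  obtain ⟨r4, r5⟩ := hc.q1Z h.symm (by simp only [n0])
  have r6 := hc.q1t h.symm
  have r7 := hc.cm
  rw [hp] at p1 p2 p3 p4 p5 p6 p7
  rw [hr] at r1 r2 r3 r4 r5 r6 r7
  have r8 : Commute r s := by
    have k := (hw ▸ r3).mul_right r1.inv_right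
    rwa [mul_inv_cancel_right] at k
  have r9 : Commute r q := by
    have k := r7.symm.mul_right r8.inv_right
    rwa [mul_inv_cancel_right] at k
  refine ⟨⟨zz_r (zz_c p6), zz_r p2.eq, zz_r ?_, zz_r p7.eq.symm, zz_r p3.eq, zz_r p1.eq, zz_r p4,
    inv_eq_of_mul_eq_one_left ?_⟩, zz_r (zz_c r6), zz_r ?_, zz_r r2.eq, zz_r r9.eq, zz_r r8.eq, zz_r r1.eq, zz_r r4,
    inv_eq_of_mul_eq_one_left ?_⟩
  · rw [zz_c p5]; simp only [n0]
  · rw [mul_assoc, p4, h.dg.e2]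
  · rw [zz_c r5]; simp only [n0]
  · rw [mul_assoc, r4, h.dg.b2]

theorem Ab.zzs (h : Ab A W T t z e b s w ρ τ) (hs : s ≠ 1) (tA : Tame W t z e s) (tB : Tame W t z b w)
    (hq : EZ t z e b s ρ q) (hc : EZ t z b e w τ (q * s)) (q2 : q * q = z) : False := by
  obtain ⟨p, hp⟩ : ∃ p, ρ * q * ρ⁻¹ = p := ⟨_, rfl⟩
  obtain ⟨r, hr⟩ : ∃ r, τ * (q * s) * τ⁻¹ = r := ⟨_, rfl⟩
  have n0 := zz_nf0 h.dg h.s2 h.st h.se h.sb hq.qt hq.qe hq.qb hq.qs q2
  have n1 := h.zz_nf hs hq hc q2 hp hr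
  have hw : w = s * z := (h.sw.resolve_left fun k => hs k.1).1
  have w1 : w ≠ 1 := hw ▸ ((h.indep h.dg.fq_z_mem).2 hs).1
  -- `C_W(s)` is centralised by `q, p, r`
  have oW : ∀ k ∈ W, Commute k s → Commute k q ∧ Commute k p ∧ Commute k r := fun k hk ks => by
    have k1 := hq.cenO h tA hk ks
    have k2 := hc.cenO h.symm tB hk (hw ▸ ks.mul_right (h.WA k hk z h.zA))
    have k3 := h.WA k hk ρ h.ρA
    have k4 := h.WA k hk τ h.τA
    exact ⟨k1, hp ▸ (k3.mul_right k1).mul_right k3.inv_right, hr ▸ (k4.mul_right k2).mul_right k4.inv_right⟩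
  obtain ⟨κ, hκ⟩ : ∃ κ, κ = r⁻¹ * p := ⟨_, rfl⟩
  obtain ⟨x, hx⟩ : ∃ x, x = κ⁻¹ * p * κ := ⟨_, rfl⟩
  obtain ⟨y, hy⟩ : ∃ y, y = x * r⁻¹ := ⟨_, rfl⟩
  obtain ⟨d, hd⟩ : ∃ d, d = t * q * b * z := ⟨_, rfl⟩
  have oκ : ∀ k ∈ W, Commute k s → Commute k κ := fun k hk ks =>
    hκ ▸ (oW k hk ks).2.2.inv_right.mul_right (oW k hk ks).2.1
  have ox : ∀ k ∈ W, Commute k s → Commute k x := fun k hk ks =>
    hx ▸ ((oκ k hk ks).inv_right.mul_right (oW k hk ks).2.1).mul_right (oκ k hk ks)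
  have oy : ∀ k ∈ W, Commute k s → Commute k y := fun k hk ks =>
    hy ▸ (ox k hk ks).mul_right (oW k hk ks).2.2.inv_right
  have xs : Commute x s := by change _ * _ = _ * _; simp only [hx, hκ, n0, n1]
  have xz : Commute x z := by change _ * _ = _ * _; simp only [hx, hκ, n0, n1]
  have xb : Commute x b := by change _ * _ = _ * _; simp only [hx, hκ, n0, n1]
  have xq : Commute q x := by change _ * _ = _ * _; simp only [hx, hκ, n0, n1]
  have x2 : x * x = s * z * b := by simp only [hx, hκ, n0, n1]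
  have rs : Commute r s := n1.2.2.2.2.2.1.1
  have rz : Commute r z := n1.2.2.2.2.2.2.1.1
  have rb : Commute r b := n1.2.2.2.1.1
  have rq : Commute q r := n1.2.2.2.2.1.1.symm
  have ys : Commute y s := hy ▸ xs.mul_left rs.inv_left
  have yz : Commute y z := hy ▸ xz.mul_left rz.inv_left
  have yb : Commute y b := hy ▸ xb.mul_left rb.inv_left
  have yq : Commute q y := hy ▸ xq.mul_right rq.inv_right
  have yt : y * t * y⁻¹ = t * w := by simp only [hw, hy, hx, hκ, n0, n1]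
  have qz := hq.qz h
  -- `y² ∈ H_B`
  obtain ⟨hHs, hHz, hHb⟩ := zz_mem (a := s) (b := z) (c := b)
  have yH := zz_cm (zz_three (p := fun u => Commute y u) ys yz yb)
  have y2 : y * y ∈ closure ({s, z, b} : Set G) ∧ y ^ 4 = 1 := by
    have d1 : Commute (y * y) t := by change _ * _ = _ * _; simp only [hy, hx, hκ, n0, n1]
    have d2 : Commute (y * y) e := by change _ * _ = _ * _; simp only [hy, hx, hκ, n0, n1]
    obtain ⟨u, hu, k, hk, ⟨n, hn⟩, e1⟩ := h.decT d1 d2 (yb.mul_left yb) (ys.mul_left ys)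
    have ks : Commute k s := hn ▸ (ys.mul_left ys).zpow_left n
    have uk : Commute u k := by
      have k1 : Commute k (u * k) := e1 ▸ (oy k hk ks).mul_right (oy k hk ks)
      simpa using (k1.mul_right (Commute.refl k).inv_right).symm
    have e2 : y ^ 4 = k * k := by
      rw [show 4 = 2 * 2 from rfl, pow_mul, sq y, e1, uk.mul_pow, sq u, h.Y2 hu, one_mul, sq]
    have e3 : t * y * t⁻¹ = x⁻¹ * y⁻¹ * x⁻¹⁻¹ := by simp only [hy, hx, hκ, n0, n1]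
    have e4 : t * y ^ 4 * t⁻¹ = x⁻¹ * (y ^ 4)⁻¹ * x⁻¹⁻¹ := by rw [← conj_pow, e3, conj_pow, inv_pow]
    have kk := (ox k hk ks).mul_left (ox k hk ks)
    have kt := (h.WC k hk).mul_left (h.WC k hk)
    rw [e2, ← kt.eq, ← kk.inv_inv.eq, mul_inv_cancel_right, mul_inv_cancel_right] at e4
    have k1 : k = 1 := zz_odd4 (h.Wo k hk) (by
      rw [show 4 = 2 * 2 from rfl, pow_mul, sq k, sq]; exact mul_eq_one_iff_eq_inv.2 e4)
    rw [k1, mul_one] at e1 e2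
    refine ⟨?_, e2⟩
    rcases h.zz_Y hHs hHz hu with k2 | ⟨v, k2, k3⟩
    · exact e1 ▸ k2
    · have k4 : Commute y (t * v) := k3 ▸ e1 ▸ (Commute.refl y).mul_right (Commute.refl y)
      have k5 := k4.mul_right (yH v k2).inv_right
      rw [mul_inv_cancel_right] at k5
      rw [k5.eq, mul_inv_cancel_right] at yt
      exact (w1 (mul_eq_left.1 yt.symm)).elim
  have HB : closure ({w, z, b} : Set G) ≤ closure {s, z, b} :=
    (closure_le _).2 (zz_three (hw ▸ mul_mem hHs hHz) hHz hHb)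
  have τy := HB (h.symm.zz_fix w1 tB yt yz yb (hw ▸ ys.mul_right yz) y2.2 fun k hk kw => oy k hk (by
    have k1 := (hw ▸ kw).mul_right (h.WA k hk z h.zA).inv_right
    rwa [mul_inv_cancel_right] at k1))
  -- the element `κ (y q) κ⁻¹`
  have κs : κ⁻¹ * s * κ⁻¹⁻¹ = s := by simp only [hκ, n0, n1]
  have κz : κ⁻¹ * z * κ⁻¹⁻¹ = z := by simp only [hκ, n0, n1]
  have κe : κ⁻¹ * e * κ⁻¹⁻¹ = s * z * b := by simp only [hκ, n0, n1]
  have κd : κ * d * κ⁻¹ = t := by simp only [hd, hκ, n0, n1]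
  have κq : κ * q * κ⁻¹ = q := by simp only [hκ, n0, n1]
  have v4 : (κ * (y * q) * κ⁻¹) ^ 4 = 1 := by
    rw [conj_pow, yq.symm.mul_pow, y2.2, one_mul, show 4 = 2 * 2 from rfl, pow_mul, sq q, q2, sq z, h.dg.z2]; group
  have ρv := zz_cl (g := κ⁻¹) (K := closure {s, z, b})
    (zz_three (κs.symm ▸ hHs) (κz.symm ▸ hHz) (κe.symm ▸ mul_mem (mul_mem hHs hHz) hHb)) _
    (h.zz_fix hs tA (v := κ * (y * q) * κ⁻¹) (by simp only [hy, hx, hκ, n0, n1])
      (by change _ * _ = _ * _; simp only [hy, hx, hκ, n0, n1])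
      (by change _ * _ = _ * _; simp only [hy, hx, hκ, n0, n1])
      (by change _ * _ = _ * _; simp only [hy, hx, hκ, n0, n1]) v4 fun k hk ks =>
      ((oκ k hk ks).mul_right ((oy k hk ks).mul_right (oW k hk ks).1)).mul_right (oκ k hk ks).inv_right)
  have ρt : ρ * t * ρ⁻¹ = t := by rw [(h.AC ρ h.ρA).eq]; group
  have τt : τ * t * τ⁻¹ = t := by rw [(h.AC τ h.τA).eq]; group
  have τs : τ * s * τ⁻¹ = s * z * b := by
    have k1 : s = w * z := by simp only [hw, n0]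
    have k2 : τ * w * τ⁻¹ = w := by rw [h.τw.eq]; group
    rw [k1, ← conj_mul, k2, h.τz, ← k1, hw]
  have cen : ∀ {u : G}, Commute u s → Commute u z → Commute u b → u ∈ normalizer (closure ({s, z, b} : Set G) : Set G) :=
    fun k1 k2 k3 => zz_nrm (zz_three (by rwa [k1.eq, mul_inv_cancel_right]) (by rwa [k2.eq, mul_inv_cancel_right])
      (by rwa [k3.eq, mul_inv_cancel_right]))
  have nτ : τ ∈ normalizer (closure ({s, z, b} : Set G) : Set G) :=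
    zz_nrm (zz_three (τs.symm ▸ mul_mem (mul_mem hHs hHz) hHb) (h.τz.symm ▸ hHb) (h.τb.symm ▸ mul_mem hHb hHz))
  have cjρ : ∀ {u v : G}, ρ * (κ * u * κ⁻¹) * ρ⁻¹ = κ * v * κ⁻¹ → κ⁻¹ * ρ * κ * u * (κ⁻¹ * ρ * κ)⁻¹ = v :=
    fun {u v} k => by
      calc _ = κ⁻¹ * (ρ * (κ * u * κ⁻¹) * ρ⁻¹) * κ := by group
        _ = _ := by rw [k]; group
  have ρs : ρ * s * ρ⁻¹ = s := by rw [h.ρs.eq]; group
  have Ks : κ * s * κ⁻¹ = s := by simp only [hκ, n0, n1]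
  have Kz : κ * z * κ⁻¹ = z := by simp only [hκ, n0, n1]
  have Kb : κ * b * κ⁻¹ = s * z * e := by simp only [hκ, n0, n1]
  have nρ : κ⁻¹ * ρ * κ ∈ normalizer (closure ({s, z, b} : Set G) : Set G) := by
    refine zz_nrm (zz_three ?_ ?_ ?_)
    · rw [cjρ (v := s) (by rw [Ks, ρs])]; exact hHs
    · rw [cjρ (v := s * z * b) (by rw [Kz, h.ρz]; simp only [hκ, n0, n1])]; exact mul_mem (mul_mem hHs hHz) hHb
    · rw [cjρ (v := s * z) (by rw [Kb, ← conj_mul, ← conj_mul, ρs, h.ρz, h.ρe]; simp only [hκ, n0, n1])]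
      exact mul_mem hHs hHz
  have key := zz_mod (H := closure {s, z, b}) (d := d) (cen h.st.symm h.dg.fq_tz h.dg.tb) (cen hq.qs qz hq.qb)
    (cen xs xz xb) (cen rs rz rb) nρ nτ
    (cen (by change _ * _ = _ * _; simp only [hd, n0]) (by change _ * _ = _ * _; simp only [hd, n0])
      (by change _ * _ = _ * _; simp only [hd, n0]))
    (by rw [show d⁻¹ * (t * q) = b * z by simp only [hd, n0]]; exact mul_mem hHb hHz) (q2 ▸ hHz)
    (x2 ▸ mul_mem (mul_mem hHs hHz) hHb) (n1.2.2.2.2.2.2.2.1.1.symm ▸ hHb) (hy ▸ y2.1) xq rq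
    (cjρ (by rw [κd, ρt])) (cjρ (by rw [κq, hp, hx]; group))
    (by rw [← hy]; convert ρv using 1; group) τt
    (by
      have k : τ * q * τ⁻¹ = r * (τ * s * τ⁻¹) := by rw [← hr, conj_mul, mul_assoc q, h.s2, mul_one]
      rw [k, inv_mul_cancel_left, τs]; exact mul_mem (mul_mem hHs hHz) hHb)
    (by
      have k : τ * r * τ⁻¹ = τ⁻¹ * (q * s) * τ := by
        have k1 : τ⁻¹ = τ * τ := inv_eq_of_mul_eq_one_right ((pow_three τ).symm.trans h.τ3)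
        have k2 : τ = τ⁻¹ * τ⁻¹ := by rw [← mul_inv_rev, ← k1, inv_inv]
        calc _ = τ * τ * (q * s) * (τ⁻¹ * τ⁻¹) := by rw [← hr]; group
          _ = _ := by rw [← k1, ← k2]
      have k3 := hc.pr
      rw [hr, ← k] at k3
      rw [← inv_eq_of_mul_eq_one_right k3, show q * r * (q * s * r)⁻¹ = s by simp only [n0, n1]]
      exact hHs)
    (hy ▸ τy)
  -- every element of `d H_B` is conjugate to `d` in `C(H_B)`
  have mv : ∀ u ∈ closure ({s, z, b} : Set G), ∃ m : G, (∀ v ∈ closure ({s, z, b} : Set G), Commute m v) ∧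
      m * d * m⁻¹ = d * u := by
    intro u hu
    have qH := zz_cm (zz_three (p := fun u => Commute q u) hq.qs qz hq.qb)
    have xH := zz_cm (zz_three (p := fun u => Commute x u) xs xz xb)
    induction hu using closure_induction with
    | mem u hu =>
      revert u
      exact zz_three ⟨y * q, fun v k => (yH v k).mul_left (qH v k), by simp only [hd, hy, hx, hκ, n0, n1]⟩
        ⟨q, qH, by simp only [hd, n0]⟩
        ⟨x * y, fun v k => (xH v k).mul_left (yH v k), by simp only [hd, hy, hx, hκ, n0, n1]⟩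
    | one => exact ⟨1, fun v _ => Commute.one_left v, by group⟩
    | mul u v _ hv k1 k2 =>
      obtain ⟨m, m1, m2⟩ := k1
      obtain ⟨n, n2, n3⟩ := k2
      refine ⟨m * n, fun v k => (m1 v k).mul_left (n2 v k), ?_⟩
      calc _ = m * (n * d * n⁻¹) * m⁻¹ := by group
        _ = _ := by rw [n3, ← conj_mul, m2, (m1 v hv).eq, mul_inv_cancel_right, mul_assoc]
    | inv u hu k1 =>
      obtain ⟨m, m1, m2⟩ := k1
      refine ⟨m⁻¹, fun v k => (m1 v k).inv_left, ?_⟩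
      calc _ = m⁻¹ * (m * d * m⁻¹) * (u⁻¹ * m) := by rw [m2]; group
        _ = _ := by rw [(m1 u hu).inv_right.eq.symm]; group
  obtain ⟨n, hn⟩ : ∃ n, n = τ⁻¹ * (κ⁻¹ * ρ * κ) * τ * (κ⁻¹ * ρ * κ) := ⟨_, rfl⟩
  have nn : n ∈ normalizer (closure ({s, z, b} : Set G) : Set G) :=
    hn ▸ mul_mem (mul_mem (mul_mem (inv_mem nτ) nρ) nτ) nρ
  rw [← hn] at key
  obtain ⟨m, m1, m2⟩ := mv _ key
  rw [mul_inv_cancel_left] at m2
  have gt : κ * m⁻¹ * n * t * (κ * m⁻¹ * n)⁻¹ = t := by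
    calc _ = κ * (m⁻¹ * (n * t * n⁻¹) * m) * κ⁻¹ := by group
      _ = κ * d * κ⁻¹ := by rw [← m2]; group
      _ = _ := κd
  have mE : ∀ {u : G}, u ∈ T → Commute u e → u ∈ EA T e := fun k1 k2 => ⟨k1, mem_centralizer_singleton_iff.2 k2.eq⟩
  have sE := mE h.sT h.se
  have zE := mE h.zT h.dg.fq_ze
  have gH : ∀ u ∈ closure ({s, z, b} : Set G), κ * m⁻¹ * n * u * (κ * m⁻¹ * n)⁻¹ ∈ EA T e := fun u hu => by
    have k1 := (mem_normalizer_iff.1 nn u).1 hu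
    have k2 : κ * m⁻¹ * n * u * (κ * m⁻¹ * n)⁻¹ = κ * (n * u * n⁻¹) * κ⁻¹ := by
      calc _ = κ * (m⁻¹ * (n * u * n⁻¹) * m) * κ⁻¹ := by group
        _ = _ := by rw [(m1 _ k1).inv_left.eq, inv_mul_cancel_right]
    exact k2 ▸ zz_cl (zz_three (Ks.symm ▸ sE) (Kz.symm ▸ zE)
      (Kb.symm ▸ mul_mem (mul_mem sE zE) (mE h.eT (.refl e)))) _ k1
  refine h.symm.nosw (c := κ * m⁻¹ * n) (mul_inv_eq_iff_eq_mul.1 gt) fun u hu => ?_
  rcases h.symm.zz_E (hw ▸ mul_mem hHs hHz) hHz hHb hu with k | ⟨v, k1, k2⟩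
  · exact gH u k
  · rw [k2, ← conj_mul, gt]
    exact mul_mem (mE h.tT h.dg.te) (gH v k1)

end CfsgLib.A7S
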