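import Mathlib
import Cfsg.Agent.Lib.D8S.Defs
import Cfsg.Agent.Lib.Sect.Basic

/-! Standard subgroups of type `A₇` (plans/A7S.md): definitions. -/

set_option autoImplicit false

namespace CfsgLib.A7S

open Subgroup Cfsg CfsgLib.Tech CfsgLib.Dih8 CfsgLib.D8S

variable {G : Type*} [Group G]

/-- `E_A = EA T e`, `E_B = EA T b` -/
abbrev EA (T : Subgroup G) (e : G) : Subgroup G := T ⊓ centralizer {e}

/-- `y ∈ Y = Z(T) = ⟨t, s, z⟩` -/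
def InY (T : Subgroup G) (e b y : G) : Prop := y ∈ T ∧ Commute y e ∧ Commute y b

/-- the symmetric frame: `T = ⟨t, s⟩ × ⟨e, b⟩` is a Sylow 2-subgroup of `C(t)`, `W = O(C(t))`, and `C(t) / W ⟨t⟩`
looks like `A₇` (`s = 1`) or `S₇` -/
structure Ab (A W T : Subgroup G) (t z e b s w ρ τ : G) : Prop where
  dg : DG t z e b
  s2 : s * s = 1
  st : Commute s t
  se : Commute s e
  sb : Commute s b
  sw : s = 1 ∧ w = 1 ∨ w = s * z ∧ s ∉ closure {t, e, b}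
  Teq : T = closure {t, s, e, b}
  syl : IsSylowIn 2 T (centralizer {t})
  AC : ∀ a ∈ A, Commute a t
  An : ∀ c, Commute c t → ∀ a ∈ A, c * a * c⁻¹ ∈ A
  TA : T ⊓ A = closure {e, b}
  ρA : ρ ∈ A
  ρz : ρ * z * ρ⁻¹ = e
  ρe : ρ * e * ρ⁻¹ = e * z
  ρs : Commute ρ s
  ρ3 : ρ ^ 3 = 1
  bρ : b * ρ * b⁻¹ = ρ⁻¹
  τA : τ ∈ A
  τz : τ * z * τ⁻¹ = b
  τb : τ * b * τ⁻¹ = b * z
  τw : Commute τ w
  τ3 : τ ^ 3 = 1
  eτ : e * τ * e⁻¹ = τ⁻¹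
  nof : ∀ c y, Commute c t → InY T e b y → InY T e b (c * y * c⁻¹) → c * y * c⁻¹ = y
  nUV : ∀ c, Commute c t → c * z * c⁻¹ ∈ closure {z, b} → c * e * c⁻¹ ∈ closure {z, b} → False
  WC : ∀ k ∈ W, Commute k t
  Wn : ∀ c, Commute c t → ∀ k ∈ W, c * k * c⁻¹ ∈ W
  Wo : ∀ k ∈ W, Odd (orderOf k)
  WA : ∀ k ∈ W, ∀ a ∈ A, Commute k a
  cD : ∀ o, Odd (orderOf o) → Commute o t → Commute o e → Commute o b → o ∈ W

/-- the elements of odd order of `C(E_A)` lie in `W` -/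
def Tame (W : Subgroup G) (t z e s : G) : Prop :=
  ∀ o, Odd (orderOf o) → Commute o t → Commute o z → Commute o e → Commute o s → o ∈ W

/-- the concrete frame: `z = (12)(34)`, `e = (13)(24)`, `b = (12)(56)`, `s = (56)` or `1`, `η = (567)` -/
structure Cn (A W T : Subgroup G) (t z e b s w ρ τ η : G) : Prop extends Ab A W T t z e b s w ρ τ where
  ηA : η ∈ A
  η3 : η ^ 3 = 1
  η1 : η ≠ 1
  ηz : Commute η z
  ηe : Commute η e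
  bη : b * η * b⁻¹ = η⁻¹
  sη : s = 1 ∨ s * η * s⁻¹ = η⁻¹
  ρη : η⁻¹ * (ρ * η * ρ⁻¹) ∈ W
  cZ : ∀ o, Odd (orderOf o) → Commute o t → Commute o z → ∃ i : ℕ, ∃ k ∈ W, o = η ^ i * k
  L1 : ∀ x, Commute x (τ * η * τ⁻¹) → Commute x (τ⁻¹ * η * τ) → Commute x e ∧ Commute x ρ
  L2 : ∃ c₁ ∈ A, ∃ c₂ ∈ A, Commute c₁ s ∧ Commute c₂ s ∧ ρ = c₁ * z * c₁⁻¹ * (c₂ * z * c₂⁻¹)
  cA : 2520 ∣ Nat.card A
  x7 : ∃ x ∈ A, orderOf x = 7 ∧ (s ≠ 1 → ∃ c, Commute c t ∧ c * x * c⁻¹ = x ^ 3)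

/-- the global frame: `G = E ⟨t⟩`, `E` simple of sectional 2-rank at most 4 -/
structure Gl (E A : Subgroup G) (t : G) : Prop where
  nE : E.Normal
  sE : IsSimpleGroup E
  nab : ¬ IsMulCommutative E
  cE : centralizer (E : Set G) = ⊥
  idx : ∀ g, g ∈ E ∨ g * t ∈ E
  le : A ≤ E
  rk : Sect.SR 16 E

/-- `t` and `s` are the only conjugates of `t` in `Y` -/
structure Pair (t z s : G) : Prop where
  ys : IsConj t s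
  n1 : ¬ IsConj t (t * z)
  n2 : ¬ IsConj t (s * z)
  n3 : ¬ IsConj t (t * s)
  n4 : ¬ IsConj t (t * s * z)

/-- an involution permuting the four points `t, s, s b, s b z` regularly -/
structure F8 (t z e b s f : G) : Prop where
  f2 : f * f = 1
  ft : f * t * f⁻¹ = s * b
  fs : f * s * f⁻¹ = s * b * z
  ef : (e * f) ^ 4 = 1

/-- a 2-element of `N(T)` interchanging `t` and `t z` -/
structure Gq (T : Subgroup G) (t z e b s g : G) : Prop where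
  gT : g ∈ normalizer (T : Set G)
  gA : g ∈ normalizer (EA T e : Set G)
  gB : g ∈ normalizer (EA T b : Set G)
  gt : g * t * g⁻¹ = t * z
  gg : g * g ∈ T
  gs : Commute g s

/-- type E (`q² = 1`) or Z (`q² = z`): `P = ⟨z, e, q, ρ q ρ⁻¹⟩` is `E₁₆` or `Z₄ × Z₄` -/
structure EZ (t z e b s ρ q : G) : Prop where
  qt : q * t * q⁻¹ = t * z
  qe : Commute q e
  qb : Commute q b
  qs : Commute q s
  q2 : q * q = 1 ∨ q * q = z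
  cm : Commute q (ρ * q * ρ⁻¹)
  pr : q * (ρ * q * ρ⁻¹) * (ρ⁻¹ * q * ρ) = 1

/-- type Q -/
structure QQ (t z e b s ρ q : G) : Prop where
  s1 : s ≠ 1
  qt : q * t * q⁻¹ = t * z
  qz : Commute q z
  qe : Commute q e
  qs : Commute q s
  qb : q * b * q⁻¹ = b * s
  q2 : q * q = s ∨ q * q = s * z
  pr : q * (ρ * q * ρ⁻¹) * (ρ⁻¹ * q * ρ) = 1 ∨ q * (ρ * q * ρ⁻¹) * (ρ⁻¹ * q * ρ) = s

/-- type (E, E) -/
structure Em (t z e b s w ρ τ q : G) : Prop where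
  U : EZ t z e b s ρ q
  V : EZ t z b e w τ q
  q2 : q * q = 1
  cm : (ρ * q * ρ⁻¹ * (τ * q * τ⁻¹)) ^ 2 = q ∨ (ρ * q * ρ⁻¹ * (τ * q * τ⁻¹)) ^ 2 = q * z

/-- the group `M` of order 64 of type (E, E) -/
abbrev MM (e b ρ τ q : G) : Subgroup G := closure {e, b, ρ * q * ρ⁻¹, τ * q * τ⁻¹}

/-- type Q: `n = φ e φ⁻¹`, `r = φ ρ φ⁻¹` for `φ = τ (q e) τ⁻¹` -/
structure Nb (W : Subgroup G) (t z e b s ρ q n r : G) : Prop where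
  n2 : n * n = 1
  nz : Commute n z
  ne : Commute n e
  ns : Commute n s
  nρ : Commute n ρ
  nt : n * t * n⁻¹ = t * s
  nb : n * b * n⁻¹ = b * s
  nW : ∀ k ∈ W, Commute k s → Commute k n
  rz : Commute r z
  re : Commute r e
  rs : r * s * r⁻¹ = n
  rn : r * n * r⁻¹ = n * s

/-- the action of `N(A)` on `A / Z(A) ≅ A₇` -/
structure P7 (A : Subgroup G) (π : HH A →* Equiv.Perm (Fin 7)) : Prop where
  ker : ∀ x, π x = 1 ↔ (x : G) ∈ KK A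
  sgn : ∀ a : HH A, (a : G) ∈ A → Equiv.Perm.sign (π a) = 1
  onto : ∀ p, Equiv.Perm.sign p = 1 → ∃ a : HH A, (a : G) ∈ A ∧ π a = p

/-- `e₀ = (13)(24)` -/
def e0 : Equiv.Perm (Fin 7) := Equiv.swap 0 2 * Equiv.swap 1 3

/-- `b₀ = (12)(56)` -/
def b0 : Equiv.Perm (Fin 7) := Equiv.swap 0 1 * Equiv.swap 4 5

/-- the facts about `A₇` in the frame `Loc` (its `s` is `(12)(34)(56)` or `1`) -/
structure H7 (A S : Subgroup G) (t z e b s σ τ₀ ρ τ η : G) : Prop extends Loc A S t z e b s σ τ₀ where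
  nUV : ∀ c ∈ HH A, c * z * c⁻¹ ∈ closure {z, b} → c * e * c⁻¹ ∈ closure {z, b} → False
  gen : ∀ c ∈ HH A, ∃ a ∈ A, Cg A c a ∨ Cg A c (a * s)
  nof : ∀ c ∈ HH A, ∀ y y', (y = 1 ∨ y = z ∨ y = s ∨ y = s * z) → (y' = 1 ∨ y' = z ∨ y' = s ∨ y' = s * z) →
    Cg A (c * y * c⁻¹) y' → Cg A y y'
  ρA : ρ ∈ A
  ρz : ρ * z * ρ⁻¹ = e
  ρe : ρ * e * ρ⁻¹ = e * z
  ρs : s = 1 ∨ Commute ρ (s * z)
  ρ3 : ρ ^ 3 = 1
  bρ : b * ρ * b⁻¹ = ρ⁻¹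
  τA' : τ ∈ A
  τz' : τ * z * τ⁻¹ = b
  τb' : τ * b * τ⁻¹ = b * z
  τs : Commute τ s
  τ3 : τ ^ 3 = 1
  eτ : e * τ * e⁻¹ = τ⁻¹
  ηA : η ∈ A
  η3 : η ^ 3 = 1
  η1 : η ≠ 1
  ηz : Commute η z
  ηe : Commute η e
  bη : b * η * b⁻¹ = η⁻¹
  sη : s = 1 ∨ s * η * s⁻¹ = η⁻¹
  ρη : η⁻¹ * (ρ * η * ρ⁻¹) ∈ KK A
  cZ : ∀ o ∈ HH A, Odd (orderOf o) → Commute o z → ∃ i : ℕ, Cg A o (η ^ i)
  L1 : ∀ x, Commute x (τ * η * τ⁻¹) → Commute x (τ⁻¹ * η * τ) → Commute x e ∧ Commute x ρ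
  L2 : ∃ c₁ ∈ A, ∃ c₂ ∈ A, (s = 1 ∨ Commute c₁ (s * z) ∧ Commute c₂ (s * z)) ∧
    ρ = c₁ * z * c₁⁻¹ * (c₂ * z * c₂⁻¹)
  cA : 2520 ∣ Nat.card A
  x7 : ∃ x ∈ A, orderOf x = 7 ∧ (s ≠ 1 → ∃ c ∈ HH A, c * x * c⁻¹ = x ^ 3)
  invZ : s ≠ 1 → ∀ ζ ∈ A, ζ ∈ KK A → s * ζ * s⁻¹ = ζ⁻¹

end CfsgLib.A7S
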