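import Cfsg.Agent.Lib.A7S.Ul
import Cfsg.Agent.Lib.A7S.Glb
import Cfsg.Agent.Lib.Sect.Tools

/-! EE1: type (E, E), the relations (plans/A7S.md) -/

set_option autoImplicit false
set_option linter.unusedSectionVars false

namespace CfsgLib.A7S

open Subgroup Cfsg CfsgLib.Tech CfsgLib.Dih8 CfsgLib.D8S

variable {G : Type*} [Group G] [Finite G] {A W T E S : Subgroup G} {t z e b s w ρ τ η g q c y : G}

theorem ee1_sq {X : Set G} (h1 : ∀ a ∈ X, a * a = 1) (h2 : ∀ a ∈ X, ∀ b ∈ X, Commute a b) :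
    ∀ x ∈ closure X, x * x = 1 := fun x hx => by
  have k : ∀ x ∈ closure X, ∀ y ∈ closure X, Commute x y := fun x hx y hy =>
    closure_induction₂ (p := fun x y _ _ => Commute x y) (fun a b ha hb => h2 a ha b hb)
      (fun _ _ => .one_left _) (fun _ _ => .one_right _) (fun _ _ _ _ _ _ => .mul_left)
      (fun _ _ _ _ _ _ => .mul_right) (fun _ _ _ _ => .inv_left) (fun _ _ _ _ => .inv_right) hx hy
  induction hx using closure_induction with
  | mem a ha => exact h1 a ha
  | one => exact mul_one 1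
  | mul a b ha hb e1 e2 => rw [(k b hb a ha).mul_mul_mul_comm, e1, e2, mul_one]
  | inv a _ e1 => rw [← mul_inv_rev, e1, inv_one]

theorem ee1_step {X : Set G} {x : G} {n : ℕ} (h : n ≤ Nat.card (closure X)) (K : Subgroup G)
    (h1 : X ⊆ K) (h2 : x ∉ K) : 2 * n ≤ Nat.card (closure (insert x X)) :=
  (Nat.mul_le_mul_left 2 h).trans (Sect.two_mul_card_le (closure_mono (Set.subset_insert _ _))
    fun e => h2 ((closure_le K).2 h1 (e (subset_closure (Set.mem_insert _ _)))))

theorem EZ.ee1_q (l : Gl E A t) (h : Ab A W T t z e b s w ρ τ) (hq : EZ t z e b s ρ q) : q ∈ E :=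
  l.cube h.dg.t2 (isConj_iff.2 ⟨ρ, rfl⟩) (isConj_iff.2 ⟨ρ⁻¹, by rw [inv_inv]⟩) (hq.pr ▸ one_mem E)

theorem EZ.ee1_nt (h : Ab A W T t z e b s w ρ τ) (hq : EZ t z e b s ρ q) : ¬ Commute q t := fun e =>
  h.dg.z1 (by simpa [e.eq] using hq.qt)

theorem Ab.sE (h : Ab A W T t z e b s w ρ τ) (l : Gl E A t) (hq : EZ t z e b s ρ q) (q2 : q * q = 1) (hs : s ≠ 1) :
    q ∈ E ∧ t ∉ E ∧ s ∉ E := by
  have qE := hq.ee1_q l h
  have nt := hq.ee1_nt h
  suffices k : s ∉ E from ⟨qE, fun ht => k (l.top ht ▸ mem_top s), k⟩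
  intro sE
  obtain ⟨a1, a2, a3⟩ := hq.q1c h
  obtain ⟨a4, a5⟩ := hq.q1E h q2
  have aE : ρ * q * ρ⁻¹ ∈ E := l.nE.conj_mem q qE ρ
  have a6 := hq.cm
  have a7 := hq.q1t h
  generalize ρ * q * ρ⁻¹ = a at *
  have ze : Commute z e := h.dg.fq_ze
  have zb : Commute z b := h.dg.fq_zb
  have qz := hq.qz h
  have c0 : 1 ≤ Nat.card (closure (∅ : Set G)) := Nat.card_pos
  have c1 := ee1_step c0 ⊥ (by simp) (x := z) h.dg.z1
  have c2 := ee1_step c1 (centralizer {b}) (by simpa [Set.subset_def, mem_centralizer_singleton_iff] using zb.eq)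
    (x := e) fun e => h.dg.fq_ncomm (mem_centralizer_singleton_iff.1 e)
  have c3 := ee1_step c2 (closure {t, e, b}) (by
    have : closure {e, b} ≤ closure {t, e, b} := closure_mono (Set.subset_insert _ _)
    simp only [Set.insert_subset_iff, Set.empty_subset, and_true]
    exact ⟨this DG.fq_e_mem, this h.dg.fq_z_mem⟩) (h.sw.resolve_left fun e => hs e.1).2
  have c4 := ee1_step c3 (centralizer {t}) (by
    simp only [Set.insert_subset_iff, Set.empty_subset, and_true, SetLike.mem_coe,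
      mem_centralizer_singleton_iff]
    exact ⟨h.st, h.dg.te.symm, h.dg.fq_tz.symm⟩) (x := q) fun e => nt (mem_centralizer_singleton_iff.1 e)
  have c5 := ee1_step c4 (normalizer {t, t * z}) (x := a) (by
    have k : ∀ x, Commute x z → x * t * x⁻¹ = t ∨ x * t * x⁻¹ = t * z →
        x ∈ normalizer ({t, t * z} : Set G) := fun x h1 h2 => mem_normalizer_fintype (by
      rintro _ (rfl | rfl)
      · exact h2
      · rw [← conj_mul, h1.mul_inv_cancel]
        exact h2.elim (fun e => .inr (by rw [e]; rfl)) fun e => .inl (by rw [e, mul_assoc, h.dg.z2, mul_one]))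
    simp only [Set.insert_subset_iff, Set.empty_subset, and_true, SetLike.mem_coe]
    exact ⟨k q qz (.inr hq.qt), k s h.sz (.inl h.st.mul_inv_cancel),
      k e ze.symm (.inl h.dg.te.symm.mul_inv_cancel), k z (.refl z) (.inl h.dg.fq_tz.symm.mul_inv_cancel)⟩)
    fun k => by
      have := (mem_set_normalizer_iff.1 k t).1 (.inl rfl)
      rw [a7] at this
      exact this.elim (fun k => h.dg.fq_e1 (mul_eq_left.1 k)) fun k => h.dg.fq_ez (mul_left_cancel k)
  refine l.no32' ((closure_le E).2 ?_) (ee1_sq ?_ ?_) (lt_of_lt_of_le (by norm_num) c5)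
  · simp only [Set.insert_subset_iff, Set.empty_subset, and_true, SetLike.mem_coe]
    exact ⟨aE, qE, sE, l.le h.eA, l.le h.zA⟩
  · simp [a4, q2, h.s2, h.dg.e2, h.dg.z2]
  · simp [a1, a2, a3, a6, qz, hq.qe, hq.qs, h.se, h.sz, ze, a1.symm, a2.symm, a3.symm, a6.symm,
      qz.symm, hq.qe.symm, hq.qs.symm, h.se.symm, h.sz.symm, ze.symm]

theorem Ab.ees (h : Ab A W T t z e b s w ρ τ) (l : Gl E A t) (hs : s ≠ 1) (hq : EZ t z e b s ρ q)
    (hc : EZ t z b e w τ (q * s)) (q2 : q * q = 1) : False := by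
  have w1 : w ≠ 1 := fun e => by
    obtain ⟨e1, e2⟩ := h.sw.resolve_left fun e => hs e.1
    rw [eq_inv_of_mul_eq_one_left (e1.symm.trans e)] at e2
    exact e2 (inv_mem (closure_mono (Set.subset_insert _ _) h.dg.fq_z_mem))
  have := (h.symm.sE l hc (by rw [hq.qs.symm.mul_mul_mul_comm, q2, h.s2, mul_one]) w1).1
  obtain ⟨h1, -, h2⟩ := h.sE l hq q2 hs
  exact h2 ((mul_mem_cancel_left h1).1 this)

theorem Ab.em (h : Ab A W T t z e b s w ρ τ) (l : Gl E A t) (tB : Tame W t z b w) (hq : EZ t z e b s ρ q)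
    (hc : EZ t z b e w τ q) (q2 : q * q = 1) : Em t z e b s w ρ τ q := by
  refine ⟨hq, hc, q2, ?_⟩
  obtain ⟨a1, a2, a3⟩ := hq.q1c h
  obtain ⟨a4, a5⟩ := hq.q1E h q2
  obtain ⟨r1, r2, r3⟩ := hc.q1c h.symm
  obtain ⟨r4, r5⟩ := hc.q1E h.symm q2
  have a6 := hq.cm
  have r6 := hc.cm
  have a7 := hq.q1t h
  have r7 := hc.q1t h.symm
  have ak : ∀ k ∈ W, Commute k q → Commute (ρ * q * ρ⁻¹) k := fun k hk e =>
    (((h.WA k hk ρ h.ρA).mul_right e).mul_right (h.WA k hk ρ h.ρA).inv_right).symm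
  generalize ρ * q * ρ⁻¹ = a, τ * q * τ⁻¹ = r at *
  have rs : Commute r s := by
    rcases h.sw with ⟨rfl, -⟩ | ⟨rfl, -⟩
    · exact .one_right _
    · simpa [mul_assoc] using r3.mul_right r1.inv_right
  have qz := hq.qz h
  have cj : ∀ {x y : G}, Commute x y → MulAut.conj x y = y := fun e => e.mul_inv_cancel
  have A1 : MulAut.conj a t = t * e := a7
  have A2 : MulAut.conj a b = b * q := a5
  have R1 : MulAut.conj r t = t * b := r7
  have R2 : MulAut.conj r e = e * q := r5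
  have Q1 : MulAut.conj q t = t * z := hq.qt
  have key : ∀ x, MulAut.conj a (MulAut.conj r (MulAut.conj a (MulAut.conj r (MulAut.conj q x)))) = x →
      Commute ((a * r) ^ 2 * q) x := fun x e => by
    rw [Commute, SemiconjBy, ← mul_inv_eq_iff_eq_mul, ← MulAut.conj_apply, pow_two]
    simpa only [map_mul, MulAut.mul_apply] using e
  have q2' : ∀ x, q * (q * x) = x := fun x => by rw [← mul_assoc, q2, one_mul]
  have ct : Commute ((a * r) ^ 2 * q) t := key t (by
    simp only [Q1, A1, A2, R1, R2, map_mul, cj a1, cj a2, cj r1, cj r2, cj a6.symm, cj r6.symm]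
    simp only [mul_assoc, hq.qe.left_comm, hq.qb.left_comm, q2']
    rw [← mul_assoc e b, ← mul_assoc e b, ← mul_assoc (e * b), h.dg.eb, h.dg.z2, mul_one])
  have ce : Commute ((a * r) ^ 2 * q) e := key e (by
    simp only [cj hq.qe, R2, map_mul, cj a2, cj a6.symm, cj r6.symm, mul_assoc, q2, mul_one])
  have cb : Commute ((a * r) ^ 2 * q) b := key b (by
    simp only [cj hq.qb, A2, map_mul, cj r2, cj a6.symm, cj r6.symm, mul_assoc, q2, mul_one])
  have cs : Commute ((a * r) ^ 2 * q) s := ((a3.mul_left rs).pow_left 2).mul_left hq.qs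
  have mq : Commute ((a * r) ^ 2) q := (a6.symm.mul_left r6.symm).pow_left 2
  have cq : Commute ((a * r) ^ 2 * q) q := mq.mul_left (.refl q)
  have inv : MulAut.conj a ((a * r) ^ 2 * q) = ((a * r) ^ 2 * q)⁻¹ := by
    rw [map_mul, cj a6.symm, mq.eq, mul_inv_rev, inv_eq_of_mul_eq_one_right q2, mul_left_inj,
      MulAut.conj_apply, pow_two, mul_inv_rev, mul_inv_rev, inv_eq_of_mul_eq_one_right a4,
      inv_eq_of_mul_eq_one_right r4, ← mul_assoc, ← mul_assoc, ← mul_assoc, a4, one_mul, mul_assoc,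
      mul_assoc]
  have cE : (a * r) ^ 2 * q ∈ E := mul_mem (pow_two (a * r) ▸ l.sq h.dg.t2 _) (hq.ee1_q l h)
  obtain ⟨y, hy, k, hk, ⟨n, hn⟩, e1⟩ := h.decT ct ce cb cs
  have k1 : k = 1 := by
    have e2 : MulAut.conj a k = k⁻¹ := by
      rw [← show ((a * r) ^ 2 * q) ^ n = k from hn, map_zpow, inv, inv_zpow]
    rw [cj (ak k hk (hn ▸ cq.zpow_left n)), eq_inv_iff_mul_eq_one, ← pow_two] at e2
    exact orderOf_eq_one_iff.1 (Nat.Coprime.eq_one_of_dvd (Nat.coprime_two_right.2 (h.Wo k hk))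
      (orderOf_dvd_of_pow_eq_one e2))
  rw [k1, mul_one] at e1
  rw [e1] at cq cE
  have nt := hq.ee1_nt h
  have zE := l.le h.zA
  have fin : y = 1 ∨ y = z := by
    have ns : s ∈ E → s = 1 := fun e => by_contra fun hs => (h.sE l hq q2 hs).2.2 e
    rcases h.memY hy with e | e | rfl | rfl | rfl | rfl | rfl | rfl
    · exact .inl e
    · exact .inr e
    · exact (nt cq.symm).elim
    · exact (nt (by simpa using cq.symm.mul_right qz.inv_right)).elim
    · exact .inl (ns cE)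
    · exact .inr (by rw [ns ((mul_mem_cancel_right zE).1 cE), one_mul])
    · exact (nt (by simpa using cq.symm.mul_right hq.qs.inv_right)).elim
    · exact (nt (by simpa using (cq.symm.mul_right qz.inv_right).mul_right hq.qs.inv_right)).elim
  rw [← eq_mul_inv_iff_mul_eq, inv_eq_of_mul_eq_one_right q2] at e1
  rcases fin with rfl | rfl
  · exact .inl (e1.trans (one_mul q))
  · exact .inr (e1.trans qz.symm)

end CfsgLib.A7S
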