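import Cfsg.Agent.Lib.A7S.Defs
import Cfsg.Agent.Lib.D8S.Fr
import Cfsg.Agent.S2119
import Cfsg.Agent.Lib.Fgs.AutBound

/-! FR1: the permutation representation (plans/A7S.md) -/

set_option autoImplicit false
set_option linter.unusedSectionVars false

namespace CfsgLib.A7S

open Subgroup Cfsg CfsgLib.Tech CfsgLib.Dih8 CfsgLib.D8S

variable {G : Type*} [Group G] [Finite G] {A W T E S : Subgroup G} {t z e b s w ρ τ η g q c y : G}

open scoped commutatorElement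

/-- an element of `N(A)` acting trivially on `A / Z(A)` centralises the perfect group `A` -/
theorem fr1_cen (hA : ⁅A, A⁆ = A) {x : G} (hx : x ∈ HH A) (h1 : ∀ a ∈ A, x * a * x⁻¹ * a⁻¹ ∈ KK A) :
    x ∈ KK A := by
  have key : ∀ a ∈ A, ∀ c ∈ A, x * ⁅a, c⁆ * x⁻¹ = ⁅a, c⁆ := fun a ha c hc => by
    obtain ⟨u, hu, e1⟩ : ∃ u ∈ KK A, x * a * x⁻¹ = u * a := ⟨_, h1 a ha, by group⟩
    obtain ⟨v, hv, e2⟩ : ∃ v ∈ KK A, x * c * x⁻¹ = v * c := ⟨_, h1 c hc, by group⟩
    have uA : u ∈ A := by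
      rw [← mul_mem_cancel_right ha, ← e1]; exact conj_mem_of_mem_normalizer hx ha
    have c1 : Commute a u := hu a ha
    have c2 : Commute c u := hu c hc
    have c3 : Commute a v := hv a ha
    have c4 : Commute c v := hv c hc
    have c5 : Commute u v := hv u uA
    have e3 : x * ⁅a, c⁆ * x⁻¹ = ⁅x * a * x⁻¹, x * c * x⁻¹⁆ := by
      simp only [commutatorElement_def]; group
    rw [e3, e1, e2]
    have k1 : Commute (u * a) v := c5.mul_left c3
    have k2 : Commute u c := c2.symm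
    simp only [commutatorElement_def]
    calc u * a * (v * c) * (u * a)⁻¹ * (v * c)⁻¹ = (u * a * v) * c * a⁻¹ * u⁻¹ * c⁻¹ * v⁻¹ := by group
      _ = v * (u * (a * c * a⁻¹) * u⁻¹ * c⁻¹) * v⁻¹ := by rw [k1.eq]; group
      _ = v * (a * c * a⁻¹ * c⁻¹) * v⁻¹ := by
        rw [((c1.mul_left c2).mul_left c1.inv_left).symm.eq, mul_inv_cancel_right]
      _ = a * c * a⁻¹ * c⁻¹ := by
        rw [(((c3.mul_left c4).mul_left c3.inv_left).mul_left c4.inv_left).symm.eq, mul_inv_cancel_right]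
  have k : A ≤ centralizer {x} := hA.ge.trans (commutator_le.2 fun a ha c hc =>
    mem_centralizer_singleton_iff.2 (mul_inv_eq_iff_eq_mul.1 (key a ha c hc)).symm)
  exact fun a ha => mem_centralizer_singleton_iff.1 (k ha)

theorem exists_p7 (h : Std A) (f : A ⧸ center A ≃* alternatingGroup (Fin 7)) : ∃ π, P7 A π := by
  let κ := MulEquiv.ofBijective _ (Cfsg.Agent.S2119.result 7 (by norm_num) (by norm_num))
  let ψ : HH A →* MulAut (alternatingGroup (Fin 7)) :=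
    (MulAut.congr f).toMonoidHom.comp ((Fgs.quotAut (center A)).comp A.normalizerMonoidHom)
  let π : HH A →* Equiv.Perm (Fin 7) := κ.symm.toMonoidHom.comp ψ
  have hπ : ∀ x p, π x = p ↔ ψ x = MulAut.conjNormal p := fun x p => κ.symm_apply_eq
  have hψ : ∀ (x : HH A) (a : A), ψ x (f a) = f (A.normalizerMonoidHom x a) := fun x a => by
    change f (Fgs.quotAut (center A) _ (f.symm (f a))) = _
    rw [f.symm_apply_apply, Fgs.quotAut_mk]
  have hA : ∀ (a : HH A) (ha : (a : G) ∈ A), π a = (f (⟨a, ha⟩ : A) : Equiv.Perm (Fin 7)) := fun a ha => by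
    rw [hπ]
    ext1 q
    obtain ⟨q, rfl⟩ := f.surjective q
    obtain ⟨q, rfl⟩ := QuotientGroup.mk_surjective q
    rw [hψ]
    have e1 : A.normalizerMonoidHom a q = ⟨a, ha⟩ * q * ⟨a, ha⟩⁻¹ := Subtype.ext rfl
    rw [e1, QuotientGroup.mk_mul, QuotientGroup.mk_mul, QuotientGroup.mk_inv, map_mul, map_mul, map_inv]
    exact Subtype.ext (MulAut.conjNormal_apply _ _).symm
  refine ⟨π, fun x => ?_, fun a ha => ?_, fun p hp => ?_⟩
  · rw [hπ, map_one]
    refine ⟨fun k => fr1_cen (Comp.qs_sub_perfect h.st.1) x.2 fun a ha => ?_, fun k => ?_⟩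
    · have k1 := hψ x ⟨a, ha⟩
      rw [k, MulAut.one_apply] at k1
      have k2 := QuotientGroup.eq.1 (f.injective k1).symm
      have k3 : A.normalizerMonoidHom x ⟨a, ha⟩ * (⟨a, ha⟩ : A)⁻¹ ∈ center A := by
        have := (center A).inv_mem k2
        rw [mul_inv_rev, inv_inv] at this
        exact (normal_of_characteristic (center A)).mem_comm this
      intro c hc
      exact congrArg Subtype.val (mem_center_iff.1 k3 ⟨c, hc⟩)
    · ext1 q
      obtain ⟨q, rfl⟩ := f.surjective q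
      obtain ⟨q, rfl⟩ := QuotientGroup.mk_surjective q
      rw [hψ]
      have e1 : A.normalizerMonoidHom x q = q := Subtype.ext (mul_inv_eq_iff_eq_mul.2 (k q q.2).symm)
      rw [e1]; rfl
  · rw [hA a ha]
    exact (f _).2
  · obtain ⟨q, hq⟩ := f.surjective ⟨p, hp⟩
    obtain ⟨a, rfl⟩ := QuotientGroup.mk_surjective q
    exact ⟨⟨a, le_normalizer a.2⟩, a.2, (hA ⟨a, le_normalizer a.2⟩ a.2).trans (congrArg Subtype.val hq)⟩

theorem P7.fr1_conj {π : HH A →* Equiv.Perm (Fin 7)} (h : P7 A π) (p : Equiv.Perm (Fin 7)) :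
    P7 A ((MulAut.conj p).toMonoidHom.comp π) := by
  refine ⟨fun x => ?_, fun a ha => ?_, fun r hr => ?_⟩
  · rw [← h.ker]
    exact conj_eq_one_iff
  · change Equiv.Perm.sign (p * π a * p⁻¹) = 1
    rw [map_mul, map_mul, h.sgn a ha, mul_one, ← map_mul, mul_inv_cancel, map_one]
  · obtain ⟨a, ha, k⟩ := h.onto (p⁻¹ * r * p) (by
      rw [map_mul, map_mul, hr, mul_one, ← map_mul, inv_mul_cancel, map_one])
    refine ⟨a, ha, ?_⟩
    change p * π a * p⁻¹ = r
    rw [k]; group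

omit [Finite G] in
/-- two non-commuting involutions of `D = ⟨e, b⟩` are conjugate to `e, b` -/
theorem fr1_pair (h : DG t z e b) {x y : G} (hx : x ∈ closure ({e, b} : Set G)) (hy : y ∈ closure ({e, b} : Set G))
    (x2 : x * x = 1) (y2 : y * y = 1) (nc : x * y ≠ y * x) : ∃ d ∈ closure ({e, b} : Set G),
      (d * x * d⁻¹ = e ∧ d * y * d⁻¹ = b) ∨ (d * x * d⁻¹ = b ∧ d * y * d⁻¹ = e) := by
  have m1 : e ∈ closure ({e, b} : Set G) := DG.fq_e_mem
  have m2 : b ∈ closure ({e, b} : Set G) := DG.fq_b_mem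
  rcases h.fq_inv hx x2 with k | k | k | k | k | k <;> rcases h.fq_inv hy y2 with l | l | l | l | l | l <;>
    rw [k, l] at nc ⊢ <;>
    first
    | (refine absurd ?_ nc; simp only [h.fq_nf]; done)
    | (refine ⟨1, one_mem _, ?_⟩; simp only [h.fq_nf, true_or, or_true, and_self]; done)
    | (refine ⟨e, m1, ?_⟩; simp only [h.fq_nf, true_or, or_true, and_self]; done)
    | (refine ⟨b, m2, ?_⟩; simp only [h.fq_nf, true_or, or_true, and_self]; done)
    | (refine ⟨e * b, mul_mem m1 m2, ?_⟩; simp only [h.fq_nf, true_or, or_true, and_self])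

theorem fr1_dg : DG (Equiv.swap 4 5) (e0 * b0 * (e0 * b0)) e0 b0 := by
  refine ⟨by decide, by decide, by decide, by decide, rfl, by decide,
    (commute_iff_eq _ _).2 (by decide), (commute_iff_eq _ _).2 (by decide), fun k => ?_⟩
  have k1 : closure {e0, b0} ≤ alternatingGroup (Fin 7) := (closure_le _).2 (by
    rintro _ (rfl | rfl) <;> exact Equiv.Perm.mem_alternatingGroup.2 (by decide))
  exact absurd (Equiv.Perm.mem_alternatingGroup.1 (k1 k)) (by decide)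

theorem exists_pos (h : Std A) (f : A ⧸ center A ≃* alternatingGroup (Fin 7)) (hS : IsSylowIn 2 S (HH A)) :
    ∃ (π : HH A →* Equiv.Perm (Fin 7)) (t z : G) (e b : HH A) (s σ τ : G),
      P7 A π ∧ Loc A S t z e b s σ τ ∧ π e = e0 ∧ π b = b0 := by
  obtain ⟨π, hπ⟩ := exists_p7 h f
  obtain ⟨t, z, e, b, s, σ, τ, l⟩ := h.exists_loc hS
  have hD := fr_syl l.sylA le_normalizer π
  have h0 : IsPGroup 2 (closure ({e0, b0} : Set (Equiv.Perm (Fin 7)))) := isPGroup_iff_mem.2 fun x hx => ⟨2, by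
    rcases fr1_dg.fq_mem hx with k | k | k | k | k | k | k | k <;> rw [k] <;> decide +kernel⟩
  obtain ⟨g, -, hg⟩ := hD.exists_cj_le h0 ((closure_le _).2 (by
    rintro _ (rfl | rfl)
    · obtain ⟨a, ha, k⟩ := hπ.onto e0 (by decide)
      exact ⟨a, ha, k⟩
    · obtain ⟨a, ha, k⟩ := hπ.onto b0 (by decide)
      exact ⟨a, ha, k⟩))
  obtain ⟨x, hx, ex⟩ := cj_le_iff.1 hg e0 DG.fq_e_mem
  obtain ⟨y, hy, ey⟩ := cj_le_iff.1 hg b0 DG.fq_b_mem
  have sq : ∀ {u : HH A} {p : Equiv.Perm (Fin 7)}, (u : G) ∈ closure ({e, b} : Set G) → π u = g * p * g⁻¹ →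
      p * p = 1 → (u : G) * u = 1 := fun {u p} hu k p2 =>
    l.DK (mul_mem hu hu) ((hπ.ker (u * u)).1 (by rw [map_mul, k, conj_mul, p2, mul_one, mul_inv_cancel]))
  obtain ⟨d, hd, k⟩ := fr1_pair l.dg hx hy (sq hx ex fr1_dg.e2) (sq hy ey fr1_dg.b2) fun k => by
    have k1 : π x * π y = π y * π x := by rw [← map_mul, ← map_mul]; exact congrArg π (Subtype.ext k)
    rw [ex, ey, conj_mul, conj_mul, mul_left_inj, mul_right_inj] at k1
    exact fr1_dg.fq_ncomm k1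
  have dH : d ∈ HH A := l.S_le (l.mem_D.1 hd).1
  have eH : e ∈ HH A := l.S_le l.eS
  have bH : b ∈ HH A := l.S_le l.bS
  have key : ∀ {u v : HH A} {p : Equiv.Perm (Fin 7)}, d * u * d⁻¹ = v → π u = g * p * g⁻¹ →
      ((MulAut.conj (π ⟨d, dH⟩ * g)⁻¹).toMonoidHom.comp π) v = p := fun {u v p} k1 k2 => by
    have k3 : v = ⟨d, dH⟩ * u * ⟨d, dH⟩⁻¹ := Subtype.ext k1.symm
    change (π ⟨d, dH⟩ * g)⁻¹ * π v * (π ⟨d, dH⟩ * g)⁻¹⁻¹ = p
    rw [k3, map_mul, map_mul, map_inv, k2]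
    group
  rcases k with ⟨k1, k2⟩ | ⟨k1, k2⟩
  · exact ⟨_, t, z, ⟨e, eH⟩, ⟨b, bH⟩, s, σ, τ, hπ.fr1_conj _, l, key (v := ⟨e, eH⟩) k1 ex.symm.symm,
      key (v := ⟨b, bH⟩) k2 ey.symm.symm⟩
  · obtain ⟨s', l', -⟩ := l.symm
    exact ⟨_, t, z, ⟨b, bH⟩, ⟨e, eH⟩, s', τ, σ, hπ.fr1_conj _, l', key (v := ⟨b, bH⟩) k1 ex.symm.symm,
      key (v := ⟨e, eH⟩) k2 ey.symm.symm⟩

end CfsgLib.A7S
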