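import Cfsg.Agent.Lib.A7S.Ba2

/-! UL: the types E, Z, Q (plans/A7S.md) -/

set_option autoImplicit false
set_option linter.unusedSectionVars false
set_option linter.unusedSimpArgs false

namespace CfsgLib.A7S

open Subgroup Cfsg CfsgLib.Tech CfsgLib.Dih8 CfsgLib.D8S

variable {G : Type*} [Group G] [Finite G] {A W T E S : Subgroup G} {t z e b s w ρ τ η g q c y : G}

theorem ul_cj {a x : G} (h : Commute a x) : a * x * a⁻¹ = x := by rw [h.eq, mul_inv_cancel_right]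

theorem ul_cj' {a x : G} (h : Commute a x) : a⁻¹ * x * a = x := by rw [mul_assoc, ← h.eq, inv_mul_cancel_left]

theorem ul_cm {a x : G} (h : a * x * a⁻¹ = x) : Commute a x := by
  have : a * x = a * x * a⁻¹ * a := by group
  rw [Commute, SemiconjBy, this, h]

theorem ul_mul (a x y : G) : a * (x * y) * a⁻¹ = a * x * a⁻¹ * (a * y * a⁻¹) := by group

theorem ul_mul' (a x y : G) : a⁻¹ * (x * y) * a = a⁻¹ * x * a * (a⁻¹ * y * a) := by group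

theorem ul_inv {a x y : G} (h : a * x * a⁻¹ = y) : a⁻¹ * y * a = x := by rw [← h]; group

theorem ul_c1 {a x y : G} (r : G) (h : Commute a x) (k : r * x * r⁻¹ = y) : Commute (r * a * r⁻¹) y := by
  rw [← k]; exact h.conj r

theorem ul_c2 {a x y : G} (r : G) (h : Commute a x) (k : r⁻¹ * x * r = y) : Commute (r⁻¹ * a * r) y := by
  have := h.conj r⁻¹
  rwa [inv_inv, k] at this

theorem ul_sq {q q1 q2 m σ : G} (hm : q * q1 * q2 = m) (m2 : m * m = 1) (mc : Commute m q2)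
    (ha : q1 * q1 * (q2 * q2) * (q * q) = σ) : q1 * q = q * σ⁻¹ * q1 := by
  have e1 : q * q1 = m * q2⁻¹ := by rw [← hm]; group
  have e2 : q * q1 * (q * q1) = q2⁻¹ * q2⁻¹ := by
    rw [e1, mul_assoc, ← mul_assoc q2⁻¹, ← mc.inv_right.eq, ← mul_assoc, ← mul_assoc, m2, one_mul]
  calc q1 * q = q⁻¹ * (q * q1 * (q * q1)) * q1⁻¹ := by group
    _ = q * σ⁻¹ * q1 := by rw [e2, ← ha]; group

theorem ul_bc {q q1 q2 x u u1 u2 c : G} (h1 : x * q1 * x = q1 * c) (a1 : Commute u q1) (a2 : Commute u q2)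
    (a3 : Commute u x) (a4 : Commute u1 q2) (a5 : Commute u1 x) (hu : u * u1 * u2 = 1) :
    q * (x * u) * (q1 * (x * u1)) * (q2 * (x * u2)) = q * q1 * c * q2 * x := by
  have : q * (x * u) * (q1 * (x * u1)) * (q2 * (x * u2)) = q * (x * q1 * x) * q2 * x * (u * u1 * u2) := by
    simp only [mul_assoc, a1.left_comm, a2.left_comm, a3.left_comm, a4.left_comm, a5.left_comm]
  rw [this, h1, hu, mul_one, ← mul_assoc]

/-- `u ∈ U = ⟨z, e⟩` -/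
def UlU (z e u : G) : Prop := u = 1 ∨ u = z ∨ u = e ∨ u = e * z

/-- `x ∈ ⟨t, s⟩` -/
def UlX (t s x : G) : Prop := (x = 1 ∨ x = s) ∨ (x = t ∨ x = t * s)

theorem UlU.cm {u x : G} (hu : UlU z e u) (h1 : Commute x z) (h2 : Commute x e) : Commute u x := by
  rcases hu with rfl | rfl | rfl | rfl
  · exact Commute.one_left _
  · exact h1.symm
  · exact h2.symm
  · exact (h2.mul_right h1).symm

theorem UlX.cm {u x : G} (hx : UlX t s x) (h1 : Commute u t) (h2 : Commute u s) : Commute x u := by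
  rcases hx with (rfl | rfl) | rfl | rfl
  · exact Commute.one_left _
  · exact h2.symm
  · exact h1.symm
  · exact (h1.mul_right h2).symm

/-- the data of `Gq` used here -/
structure Gu (T : Subgroup G) (t z e s q : G) : Prop where
  qT : q ∈ normalizer (T : Set G)
  qt : q * t * q⁻¹ = t * z
  qz : Commute q z
  qe : Commute q e
  qs : Commute q s
  qq : q * q ∈ T

section frame

variable (h : Ab A W T t z e b s w ρ τ)
include h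

theorem ul_ρt : Commute ρ t := h.AC _ h.ρA

theorem ul_ρez : ρ * (e * z) * ρ⁻¹ = z := by rw [ul_mul, h.ρe, h.ρz, mul_assoc, h.dg.fq_ze, h.dg.fq_ee]

theorem ul_ze : Commute z e := h.dg.fq_ze

theorem ul_tz : t * z ≠ t := fun k => h.dg.z1 (mul_left_cancel (k.trans (mul_one t).symm))

theorem ul_ρρ : ρ * ρ = ρ⁻¹ := by
  rw [eq_inv_iff_mul_eq_one, ← h.ρ3, pow_succ, pow_two]

theorem ul_beb : b * e * b⁻¹ = e * z := by
  rw [h.dg.fq_be, ← h.dg.fq_zb]; group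

theorem ul_U {u : G} (hu : UlU z e u) : UlU z e (ρ * u * ρ⁻¹) ∧ UlU z e (ρ⁻¹ * u * ρ) ∧
    u * (ρ * u * ρ⁻¹) * (ρ⁻¹ * u * ρ) = 1 ∧ u * (ρ⁻¹ * u * ρ) * (ρ * u * ρ⁻¹) = 1 ∧
    ρ * u * ρ⁻¹ * (ρ⁻¹ * u * ρ) * u = 1 ∧ (ρ * u * ρ⁻¹ = u → u = 1) ∧ (b * u * b⁻¹ = u → u = 1 ∨ u = z) ∧
    UlU z e (u * e) ∧ u ∈ closure ({e, b} : Set G) := by
  have z2 := h.dg.z2
  have e2 := h.dg.e2
  have ze := h.dg.fq_ze
  have ze' := h.dg.fq_ze'
  have ee := h.dg.fq_ee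
  have zz := h.dg.fq_zz
  have nb : b * e * b⁻¹ ≠ e := by
    rw [ul_beb h]; exact fun k => h.dg.z1 (mul_left_cancel (k.trans (mul_one e).symm))
  rcases hu with k | k | k | k <;> rw [k]
  · simp [UlU]
  · rw [h.ρz, ul_inv (ul_ρez h)]
    refine ⟨by simp [UlU], by simp [UlU], ?_, ?_, ?_, fun k => absurd k h.dg.fq_ez, fun _ => Or.inr rfl,
      by simp [UlU, ze], h.dg.fq_z_mem⟩ <;> simp only [mul_assoc, ze, ze', ee, zz, z2, e2, mul_one]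
  · rw [h.ρe, ul_inv h.ρz]
    refine ⟨by simp [UlU], by simp [UlU], ?_, ?_, ?_,
      fun k => absurd (mul_left_cancel (k.trans (mul_one e).symm)) h.dg.z1, fun k => absurd k nb,
      by simp [UlU, e2], DG.fq_e_mem⟩ <;> simp only [mul_assoc, ze, ze', ee, zz, z2, e2, mul_one]
  · rw [ul_ρez h, ul_inv h.ρe]
    refine ⟨by simp [UlU], by simp [UlU], ?_, ?_, ?_,
      fun k => absurd (mul_right_cancel (k.symm.trans (one_mul z).symm)) h.dg.fq_e1, fun k => absurd ?_ nb,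
      by simp [UlU, mul_assoc, ze, ee], mul_mem DG.fq_e_mem h.dg.fq_z_mem⟩
    · simp only [mul_assoc, ze, ze', ee, zz, z2, e2, mul_one]
    · simp only [mul_assoc, ze, ze', ee, zz, z2, e2, mul_one]
    · simp only [mul_assoc, ze, ze', ee, zz, z2, e2, mul_one]
    · rw [ul_mul, ul_cj (show Commute b z from h.dg.fq_zb.symm)] at k
      exact mul_right_cancel k

theorem ul_X {x : G} (hx : UlX t s x) : Commute x ρ ∧ Commute x z ∧ Commute x e ∧ Commute x b ∧ x * x = 1 := by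
  refine ⟨hx.cm (ul_ρt h) h.ρs, hx.cm h.dg.fq_tz.symm h.sz.symm, hx.cm h.dg.te.symm h.se.symm,
    hx.cm h.dg.tb.symm h.sb.symm, ?_⟩
  rcases hx with (k | k) | k | k <;> rw [k]
  · exact one_mul _
  · exact h.s2
  · exact h.dg.t2
  · rw [mul_assoc, ← mul_assoc s, h.st.eq, mul_assoc, h.s2, mul_one, h.dg.t2]

theorem ul_decY (hy : InY T e b y) : ∃ x, UlX t s x ∧ (y = x * 1 ∨ y = x * z) := by
  rcases h.memY hy with k | k | k | k | k | k | k | k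
  · exact ⟨1, by simp [UlX], by simp [k]⟩
  · exact ⟨1, by simp [UlX], by simp [k]⟩
  · exact ⟨t, by simp [UlX], by simp [k]⟩
  · exact ⟨t, by simp [UlX], by simp [k]⟩
  · exact ⟨s, by simp [UlX], by simp [k]⟩
  · exact ⟨s, by simp [UlX], by simp [k]⟩
  · exact ⟨t * s, by simp [UlX], by simp [k]⟩
  · exact ⟨t * s, by simp [UlX], by simp [k]⟩

theorem ul_decA (hy : y ∈ EA T e) : ∃ x u, UlX t s x ∧ UlU z e u ∧ y = x * u := by
  obtain ⟨y₀, hy₀, k⟩ := h.memE hy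
  obtain ⟨x, hx, k'⟩ := ul_decY h hy₀
  rcases k with k | k <;> rcases k' with k' | k' <;> rw [k, k']
  · exact ⟨x, 1, hx, by simp [UlU], rfl⟩
  · exact ⟨x, z, hx, by simp [UlU], rfl⟩
  · exact ⟨x, e, hx, by simp [UlU], by rw [mul_one]⟩
  · exact ⟨x, e * z, hx, by simp [UlU], by rw [mul_assoc, h.dg.fq_ze]⟩

theorem ul_cE {x : G} (h1 : Commute x t) (h2 : Commute x z) (h3 : Commute x e) (h4 : Commute x s)
    (hy : y ∈ EA T e) : Commute x y := by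
  obtain ⟨a, u, ha, hu, rfl⟩ := ul_decA h hy
  exact (ha.cm h1 h4).symm.mul_right (hu.cm h2 h3).symm

theorem ul_tE : t ∈ EA T e := ⟨h.tT, mem_centralizer_singleton_iff.2 h.dg.te.eq⟩
theorem ul_sE : s ∈ EA T e := ⟨h.sT, mem_centralizer_singleton_iff.2 h.se.eq⟩
theorem ul_zE : z ∈ EA T e := ⟨h.zT, mem_centralizer_singleton_iff.2 h.dg.fq_ze⟩
theorem ul_eE : e ∈ EA T e := ⟨h.eT, mem_centralizer_singleton_iff.2 rfl⟩

theorem ul_q1 (qt : q * t * q⁻¹ = t * z) (qz : Commute q z) (qe : Commute q e) (qs : Commute q s) :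
    ρ * q * ρ⁻¹ * t * (ρ * q * ρ⁻¹)⁻¹ = t * e ∧ Commute (ρ * q * ρ⁻¹) z ∧ Commute (ρ * q * ρ⁻¹) e ∧
      Commute (ρ * q * ρ⁻¹) s := by
  refine ⟨?_, ul_c1 ρ (qe.mul_right qz) (ul_ρez h), ul_c1 ρ qz h.ρz, ul_c1 ρ qs (ul_cj h.ρs)⟩
  calc _ = ρ * (q * (ρ⁻¹ * t * ρ) * q⁻¹) * ρ⁻¹ := by group
    _ = t * e := by rw [ul_cj' (ul_ρt h), qt, ul_mul, ul_cj (ul_ρt h), h.ρz]

theorem ul_q2 (qt : q * t * q⁻¹ = t * z) (qz : Commute q z) (qe : Commute q e) (qs : Commute q s) :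
    ρ⁻¹ * q * ρ * t * (ρ⁻¹ * q * ρ)⁻¹ = t * (e * z) ∧ Commute (ρ⁻¹ * q * ρ) z ∧ Commute (ρ⁻¹ * q * ρ) e ∧
      Commute (ρ⁻¹ * q * ρ) s := by
  refine ⟨?_, ul_c2 ρ qe (ul_inv h.ρz), ul_c2 ρ (qe.mul_right qz) (ul_inv h.ρe), ul_c2 ρ qs (ul_cj' h.ρs)⟩
  calc _ = ρ⁻¹ * (q * (ρ * t * ρ⁻¹) * q⁻¹) * ρ := by group
    _ = t * (e * z) := by rw [ul_cj (ul_ρt h), qt, ul_mul', ul_cj' (ul_ρt h), ul_inv (ul_ρez h)]

/-- `x p x` for `x ∈ t ⟨s⟩` -/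
theorem ul_xq {p x : G} (pt : p * t * p⁻¹ = t * c) (hc : UlU z e c) (pz : Commute p z) (pe : Commute p e)
    (ps : Commute p s) (hx : x = t ∨ x = t * s) : x * p * x = p * c := by
  have cp := hc.cm pz pe
  have ct := hc.cm h.dg.fq_tz h.dg.te
  have e1 : t * p * t = p * c := by
    have e2 : p * t = t * c * p := by rw [← pt]; group
    rw [mul_assoc, e2, ← mul_assoc, ← mul_assoc, h.dg.t2, one_mul, cp.eq]
  rcases hx with k | k <;> rw [k]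
  · exact e1
  · rw [← e1]
    simp only [mul_assoc, ps.symm.left_comm, h.st.left_comm, h.s2, mul_one]

theorem ul_xq' {p x : G} (ps : Commute p s) (hx : x = 1 ∨ x = s) : x * p * x = p * 1 := by
  rcases hx with k | k <;> rw [k]
  · rw [one_mul]
  · rw [← ps.eq, mul_assoc, h.s2]

theorem Gu.mul (hq : Gu T t z e s q) (hy : y ∈ EA T e) : Gu T t z e s (q * y) := by
  refine ⟨mul_mem hq.qT (le_normalizer hy.1), ?_, hq.qz.mul_left (h.cT hy.1).2.2,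
    hq.qe.mul_left (h.Ec hy (ul_eE h)), hq.qs.mul_left (h.cT hy.1).2.1, ?_⟩
  · calc _ = q * (y * t * y⁻¹) * q⁻¹ := by group
      _ = _ := by rw [ul_cj (h.cT hy.1).1, hq.qt]
  · have := mul_mem (mul_mem hq.qq ((mem_normalizer_iff''.1 hq.qT y).1 hy.1)) hy.1
    convert this using 1
    group

/-- the product `q q₁ q₂` for `q x u` in place of `q` -/
theorem Gu.prod (hq : Gu T t z e s q) {x u : G} (hx : UlX t s x) (hu : UlU z e u) (hc : UlU z e c)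
    (h1 : x * (ρ * q * ρ⁻¹) * x = ρ * q * ρ⁻¹ * c) :
    q * (x * u) * (ρ * (q * (x * u)) * ρ⁻¹) * (ρ⁻¹ * (q * (x * u)) * ρ) =
      q * (ρ * q * ρ⁻¹) * (ρ⁻¹ * q * ρ) * (c * x) := by
  obtain ⟨-, a1, a2, -⟩ := ul_q1 h hq.qt hq.qz hq.qe hq.qs
  obtain ⟨-, b1, b2, -⟩ := ul_q2 h hq.qt hq.qz hq.qe hq.qs
  obtain ⟨x1, x2, x3, -⟩ := ul_X h hx
  obtain ⟨u1, -, u3, -⟩ := ul_U h hu
  rw [ul_mul ρ q, ul_mul ρ x, ul_mul' ρ q, ul_mul' ρ x, ul_cj x1.symm, ul_cj' x1.symm,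
    ul_bc h1 (hu.cm a1 a2) (hu.cm b1 b2) (hu.cm x2 x3) (u1.cm b1 b2) (u1.cm x2 x3) u3,
    mul_assoc _ c, (hc.cm b1 b2).eq]
  simp only [mul_assoc]

theorem Gu.comm (hq : Gu T t z e s q) {σ u : G} (hσ : σ = 1 ∨ σ = s) (hu : UlU z e u) (q2 : q * q = σ * u)
    (hm : q * (ρ * q * ρ⁻¹) * (ρ⁻¹ * q * ρ) = 1 ∨ q * (ρ * q * ρ⁻¹) * (ρ⁻¹ * q * ρ) = s) :
    ρ * q * ρ⁻¹ * q = q * σ⁻¹ * (ρ * q * ρ⁻¹) := by
  obtain ⟨-, -, -, b3⟩ := ul_q2 h hq.qt hq.qz hq.qe hq.qs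
  obtain ⟨x1, x2, x3, -, x5⟩ := ul_X h (Or.inl hσ)
  obtain ⟨u1, u2, -, -, u5, -⟩ := ul_U h hu
  refine ul_sq (q2 := ρ⁻¹ * q * ρ) rfl ?_ ?_ ?_
  · rcases hm with k | k <;> rw [k]
    · exact one_mul _
    · exact h.s2
  · rcases hm with k | k <;> rw [k]
    · exact Commute.one_left _
    · exact b3.symm
  · rw [← ul_mul, ← ul_mul', q2, ul_mul, ul_mul', ul_cj x1.symm, ul_cj' x1.symm]
    have c1 := u1.cm x2 x3
    have c2 := u2.cm x2 x3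
    generalize ρ * u * ρ⁻¹ = v1 at *
    generalize ρ⁻¹ * u * ρ = v2 at *
    calc σ * v1 * (σ * v2) * (σ * u) = σ * (σ * σ) * (v1 * v2 * u) := by
          simp only [mul_assoc, c1.left_comm, c2.left_comm]
      _ = σ := by rw [x5, u5, mul_one, mul_one]

theorem Gu.core (hq : Gu T t z e s q) {x₀ u₀ : G} (hx₀ : x₀ = 1 ∨ x₀ = s) (hu₀ : UlU z e u₀)
    (hm : q * (ρ * q * ρ⁻¹) * (ρ⁻¹ * q * ρ) = x₀ * u₀) :
    u₀ = 1 ∧ ∃ σ u, (σ = 1 ∨ σ = s) ∧ UlU z e u ∧ q * q = σ * u ∧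
      (b * q * b⁻¹ = q * σ ∨ b * q * b⁻¹ = q * (σ * z)) := by
  obtain ⟨-, a1, a2, a3⟩ := ul_q1 h hq.qt hq.qz hq.qe hq.qs
  obtain ⟨b0, b1, b2, b3⟩ := ul_q2 h hq.qt hq.qz hq.qe hq.qs
  obtain ⟨x1, x2, x3, x4, x5⟩ := ul_X h (Or.inl hx₀)
  have cσ : ∀ {σ p : G}, (σ = 1 ∨ σ = s) → Commute p s → Commute σ p := by
    rintro σ p (k | k) hp <;> rw [k]
    · exact Commute.one_left _
    · exact hp.symm
  have u0 : u₀ = 1 := by
    refine (ul_U h hu₀).2.2.2.2.2.1 (mul_left_cancel (a := x₀) ?_)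
    have mq : Commute q (x₀ * u₀) := (cσ hx₀ hq.qs).symm.mul_right (hu₀.cm hq.qz hq.qe).symm
    calc x₀ * (ρ * u₀ * ρ⁻¹) = ρ * (x₀ * u₀) * ρ⁻¹ := by rw [ul_mul, ul_cj x1.symm]
      _ = ρ * q * ρ⁻¹ * (ρ * ρ * q * (ρ * ρ)⁻¹) * q := by rw [← hm]; group
      _ = q⁻¹ * (x₀ * u₀) * q := by rw [ul_ρρ h, ← hm]; group
      _ = _ := ul_cj' mq
  refine ⟨u0, ?_⟩
  rw [u0, mul_one] at hm
  have hm' : q * (ρ * q * ρ⁻¹) * (ρ⁻¹ * q * ρ) = 1 ∨ q * (ρ * q * ρ⁻¹) * (ρ⁻¹ * q * ρ) = s := by rw [hm]; exact hx₀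
  obtain ⟨σ, u, hσ, hu, q2⟩ := ul_decA h
    (show q * q ∈ EA T e from ⟨hq.qq, mem_centralizer_singleton_iff.2 (hq.qe.mul_left hq.qe).eq⟩)
  have hσ' : σ = 1 ∨ σ = s := by
    rcases hσ with k | k
    · exact k
    exfalso
    have c1 : Commute q (σ * u) := q2 ▸ (Commute.refl q).mul_right (Commute.refl q)
    have c2 : Commute q σ := by
      have := c1.mul_right (hu.cm hq.qz hq.qe).symm.inv_right
      rwa [mul_inv_cancel_right] at this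
    have c3 : Commute q t := by
      rcases k with k | k <;> rw [k] at c2
      · exact c2
      · have := c2.mul_right hq.qs.inv_right
        rwa [mul_inv_cancel_right] at this
    exact ul_tz h (hq.qt.symm.trans (ul_cj c3))
  refine ⟨σ, u, hσ', hu, q2, ?_⟩
  have cm := hq.comm h hσ' hu q2 hm'
  obtain ⟨σ1, σ2, σ3, σ4, σ5⟩ := ul_X h (Or.inl hσ')
  have σi : σ⁻¹ = σ := inv_eq_of_mul_eq_one_right σ5
  have cm' : ρ⁻¹ * q * ρ * (ρ * q * ρ⁻¹) = ρ * q * ρ⁻¹ * σ * (ρ⁻¹ * q * ρ) := by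
    calc _ = ρ * (ρ * q * ρ⁻¹ * q) * ρ⁻¹ := by
          rw [← ul_ρρ h]
          have : ρ * ρ * ρ = 1 := by rw [ul_ρρ h, inv_mul_cancel]
          calc _ = ρ * ρ * q * (ρ * ρ) * q * (ρ * ρ) := by group
            _ = ρ * ρ * q * (ρ * ρ) * q * (ρ * ρ) := rfl
            _ = _ := by group
      _ = ρ * q * ρ⁻¹ * (ρ * σ * ρ⁻¹) * (ρ * ρ * q * (ρ * ρ)⁻¹) := by rw [cm, σi]; group
      _ = _ := by rw [ul_ρρ h, ul_cj σ1.symm, inv_inv]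
  obtain ⟨v, hv⟩ : ∃ v, v = q⁻¹ * (b * q * b⁻¹) := ⟨_, rfl⟩
  have bq : b * q * b⁻¹ = q * v := by rw [hv, mul_inv_cancel_left]
  have vE : v ∈ EA T e := by
    refine ⟨?_, mem_centralizer_singleton_iff.2 (Commute.eq ?_)⟩
    · have := mul_mem ((mem_normalizer_iff''.1 hq.qT b).1 h.bT) (inv_mem h.bT)
      rw [hv, ← mul_assoc, ← mul_assoc]
      exact this
    · rw [hv]
      refine hq.qe.inv_left.mul_left (ul_c1 b (hq.qe.mul_right hq.qz) ?_)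
      rw [ul_mul, ul_beb h, ul_cj (show Commute b z from h.dg.fq_zb.symm), mul_assoc, h.dg.z2, mul_one]
  have vY : InY T e b v := by
    refine ⟨vE.1, h.Ec vE (ul_eE h), (ul_cm ?_).symm⟩
    have e1 : q * v * (b * v * b⁻¹) = q := by
      rw [← bq, ← ul_mul, ← bq]
      calc _ = b * b * q * (b * b)⁻¹ := by group
        _ = q := by rw [h.dg.b2]; group
    have e2 : v * (b * v * b⁻¹) = 1 := mul_left_cancel (a := q) (by rw [← mul_assoc, e1, mul_one])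
    exact mul_left_cancel (e2.trans (h.E2 vE).symm)
  obtain ⟨x, hx, hvx⟩ := ul_decY h vY
  obtain ⟨u', hu', hvx'⟩ : ∃ u', UlU z e u' ∧ v = x * u' := by
    rcases hvx with k | k
    · exact ⟨1, Or.inl rfl, k⟩
    · exact ⟨z, Or.inr (Or.inl rfl), k⟩
  have key : ∀ c, UlU z e c → x * (ρ⁻¹ * q * ρ) * x = ρ⁻¹ * q * ρ * c → x * c = σ := by
    intro c hc h1
    obtain ⟨y1, y2, y3, -, -⟩ := ul_X h hx
    obtain ⟨-, u2, -, u4, -⟩ := ul_U h hu'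
    have bρ' : b * ρ⁻¹ * b⁻¹ = ρ := by
      have := congrArg (·⁻¹) h.bρ
      simpa [mul_assoc] using this
    have e1 : x₀ = q * (ρ⁻¹ * q * ρ) * c * (ρ * q * ρ⁻¹) * x := by
      rw [← ul_bc h1 (hu'.cm b1 b2) (hu'.cm a1 a2) (hu'.cm y2 y3) (u2.cm a1 a2) (u2.cm y2 y3) u4,
        ← ul_cj x4.symm, ← hm, ul_mul b, ul_mul b, ul_mul b, ul_mul b, ul_mul b, ul_mul b, bq, bρ', h.bρ, hvx',
        ul_mul ρ q, ul_mul ρ x, ul_mul' ρ q, ul_mul' ρ x, ul_cj y1.symm, ul_cj' y1.symm]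
    have e2 : q * (ρ⁻¹ * q * ρ) * c * (ρ * q * ρ⁻¹) * x = x₀ * (σ * (c * x)) := by
      rw [mul_assoc _ c, (hc.cm a1 a2).eq, ← mul_assoc, mul_assoc q, cm', ← hm, mul_assoc (ρ * q * ρ⁻¹) σ,
        (cσ hσ' b3).eq]
      simp only [mul_assoc]
    have e3 : σ * (c * x) = 1 := mul_left_cancel (a := x₀) (by rw [← e2, ← e1, mul_one])
    rw [← (hc.cm y2 y3).eq, ← σi]
    exact (inv_eq_of_mul_eq_one_right e3).symm
  have xσ : x = σ := by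
    rcases hx with k | k
    · simpa using key 1 (Or.inl rfl) (ul_xq' h b3 k)
    exfalso
    have hc : UlU z e (e * z) := Or.inr (Or.inr (Or.inr rfl))
    have e1 := key _ hc (ul_xq h b0 hc b1 b2 b3 k)
    obtain ⟨i1, i2⟩ := h.indep (mul_mem DG.fq_e_mem h.dg.fq_z_mem)
    have i3 : t * s * (e * z) ≠ 1 := by
      by_cases hs : s = 1
      · rwa [hs, mul_one]
      · exact (i2 hs).2
    have cs : Commute s (e * z) := h.se.mul_right h.sz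
    rcases k with k | k <;> rcases hσ' with k' | k' <;> rw [k, k'] at e1
    · exact i1 e1
    · exact i3 (by rw [mul_assoc, cs.eq, ← mul_assoc, e1, h.s2])
    · exact i3 e1
    · rw [mul_assoc, cs.eq, ← mul_assoc] at e1
      exact i1 (mul_right_cancel (e1.trans (one_mul s).symm))
  rw [bq, ← xσ]
  rcases hvx with k | k <;> rw [k]
  · exact Or.inl (by rw [mul_one])
  · exact Or.inr rfl

theorem Gu.ez (hq : Gu T t z e s q) {u : G} (hu : UlU z e u) (q2 : q * q = u)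
    (hm : q * (ρ * q * ρ⁻¹) * (ρ⁻¹ * q * ρ) = 1) (hb : b * q * b⁻¹ = q) : EZ t z e b s ρ q := by
  refine ⟨hq.qt, hq.qe, (ul_cm hb).symm, hq.qs, ?_, ?_, hm⟩
  · rw [q2]
    refine (ul_U h hu).2.2.2.2.2.2.1 ?_
    rw [← q2, ul_mul, hb]
  · have := hq.comm h (Or.inl rfl) hu (by rw [q2, one_mul]) (Or.inl hm)
    rw [inv_one, mul_one] at this
    exact this.symm

theorem Gu.fin (hq : Gu T t z e s q) {σ u : G} (hσ : σ = 1 ∨ σ = s) (hu : UlU z e u) (q2 : q * q = σ * u)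
    (hm : q * (ρ * q * ρ⁻¹) * (ρ⁻¹ * q * ρ) = 1 ∨ q * (ρ * q * ρ⁻¹) * (ρ⁻¹ * q * ρ) = s)
    (hb : b * q * b⁻¹ = q * σ) : ∃ y ∈ EA T e, EZ t z e b s ρ (q * y) ∨ QQ t z e b s ρ (q * y) := by
  by_cases h1 : σ = 1
  · rw [h1, one_mul] at q2
    rw [h1, mul_one] at hb
    rcases hm with k | k
    · exact ⟨1, one_mem _, Or.inl (by rw [mul_one]; exact hq.ez h hu q2 k hb)⟩
    · have sE : s * 1 ∈ EA T e := by rw [mul_one]; exact ul_sE h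
      refine ⟨s * 1, sE, Or.inl ((hq.mul h sE).ez h hu ?_ ?_ ?_)⟩
      · rw [mul_one, mul_assoc, ← mul_assoc s, ← hq.qs.eq, mul_assoc, h.s2, mul_one, q2]
      · rw [hq.prod h (Or.inl (Or.inr rfl)) (Or.inl rfl) (Or.inl rfl)
          (ul_xq' h (ul_q1 h hq.qt hq.qz hq.qe hq.qs).2.2.2 (Or.inr rfl)), k, one_mul, h.s2]
      · rw [mul_one, ul_mul, hb, ul_cj h.sb.symm]
  have h2 : σ = s := hσ.resolve_left h1
  rw [h2] at h1 q2 hb
  refine ⟨1, one_mem _, Or.inr ?_⟩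
  rw [mul_one]
  refine ⟨h1, hq.qt, hq.qz, hq.qe, hq.qs, ?_, ?_, hm⟩
  · have e1 : b * q = q * s * b := by rw [← hb]; group
    have e2 : q * b = s * (b * q) := by
      rw [e1, hq.qs.eq, ← mul_assoc, ← mul_assoc, h.s2, one_mul]
    rw [e2, ← mul_assoc, h.sb.eq, mul_inv_cancel_right]
  · have e1 : b * (s * u) * b⁻¹ = s * u := by
      rw [← q2, ul_mul, hb, mul_assoc, ← mul_assoc s, ← hq.qs.eq, mul_assoc, h.s2, mul_one]
    rw [ul_mul, ul_cj h.sb.symm] at e1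
    rcases (ul_U h hu).2.2.2.2.2.2.1 (mul_left_cancel e1) with k | k <;> rw [q2, k]
    · exact Or.inl (mul_one s)
    · exact Or.inr rfl

theorem Gu.step (hq : Gu T t z e s q) {x₀ u₀ : G} (hx₀ : x₀ = 1 ∨ x₀ = s) (hu₀ : UlU z e u₀)
    (hm : q * (ρ * q * ρ⁻¹) * (ρ⁻¹ * q * ρ) = x₀ * u₀) :
    ∃ y ∈ EA T e, EZ t z e b s ρ (q * y) ∨ QQ t z e b s ρ (q * y) := by
  obtain ⟨u0, σ, u, hσ, hu, q2, hb⟩ := hq.core h hx₀ hu₀ hm
  rw [u0, mul_one] at hm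
  rcases hb with hb | hb
  · exact hq.fin h hσ hu q2 (by rw [hm]; exact hx₀) hb
  have eE : 1 * e ∈ EA T e := by rw [one_mul]; exact ul_eE h
  suffices k : ∃ y ∈ EA T e, EZ t z e b s ρ (q * (1 * e) * y) ∨ QQ t z e b s ρ (q * (1 * e) * y) by
    obtain ⟨y, hy, k⟩ := k
    exact ⟨1 * e * y, mul_mem eE hy, by rwa [← mul_assoc]⟩
  refine (hq.mul h eE).fin h hσ hu ?_ ?_ ?_
  · rw [one_mul, mul_assoc, ← mul_assoc e, ← hq.qe.eq, mul_assoc, h.dg.e2, mul_one, q2]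
  · rw [hq.prod h (Or.inl (Or.inl rfl)) (Or.inr (Or.inr (Or.inl rfl))) (Or.inl rfl) (by rw [one_mul]), hm, mul_one,
      mul_one]
    exact hx₀
  · obtain ⟨-, σ2, σ3, -⟩ := ul_X h (Or.inl hσ)
    rw [one_mul, ul_mul, hb, ul_beb h]
    simp only [mul_assoc, h.dg.fq_ze', h.dg.z2, mul_one, σ3.eq]

theorem ul_m (hg : Gq T t z e b s g) (ge : Commute g e) :
    ∃ y ∈ EA T e, ∃ o, Odd (orderOf o) ∧ g * (ρ * g * ρ⁻¹) * (ρ⁻¹ * g * ρ) = y * o ∧ Commute o t ∧ Commute o z ∧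
      Commute o e ∧ Commute o s := by
  have gz := ul_cm (h.nT_z hg.gT)
  obtain ⟨a0, a1, a2, a3⟩ := ul_q1 h hg.gt gz ge hg.gs
  obtain ⟨b0, b1, b2, b3⟩ := ul_q2 h hg.gt gz ge hg.gs
  have mt : Commute (g * (ρ * g * ρ⁻¹) * (ρ⁻¹ * g * ρ)) t := by
    refine ul_cm ?_
    generalize ρ * g * ρ⁻¹ = q1 at *
    generalize ρ⁻¹ * g * ρ = q2 at *
    calc _ = g * (q1 * (q2 * t * q2⁻¹) * q1⁻¹) * g⁻¹ := by group
      _ = t := by
        rw [b0, ul_mul q1, a0, ul_cj (a2.mul_right a1), mul_assoc t, h.dg.fq_ee, ul_mul, hg.gt, ul_cj gz, mul_assoc,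
          h.dg.z2, mul_one]
  have mz := (gz.mul_left a1).mul_left b1
  have me := (ge.mul_left a2).mul_left b2
  have ms := (hg.gs.mul_left a3).mul_left b3
  obtain ⟨y, hy, o, ⟨n, ho⟩, oo, k⟩ := h.decE mt mz me ms
  refine ⟨y, hy, o, oo, k, ?_, ?_, ?_, ?_⟩ <;> rw [← ho]
  · exact mt.zpow_left n
  · exact mz.zpow_left n
  · exact me.zpow_left n
  · exact ms.zpow_left n

end frame

theorem ul_odd {a o : G} (ho : Odd (orderOf o)) : Odd (orderOf (a * o * a⁻¹)) := by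
  have : orderOf (a * o * a⁻¹) = orderOf o := (MulAut.conj a).orderOf_eq o
  rwa [this]

theorem Gq.m0 (h : Ab A W T t z e b s w ρ τ) (hg : Gq T t z e b s g) (ge : Commute g e)
    (ho : ∀ o, Odd (orderOf o) → Commute o t → Commute o z → Commute o e → Commute o s → Commute o g) :
    g * (ρ * g * ρ⁻¹) * (ρ⁻¹ * g * ρ) ∈ EA T e := by
  obtain ⟨y, hy, o, oo, k, ot, oz, oe, os⟩ := ul_m h hg ge
  have gg : g * g ∈ EA T e := ⟨hg.gg, mem_centralizer_singleton_iff.2 (ge.mul_left ge).eq⟩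
  have o2 : Commute o (ρ⁻¹ * g * ρ) := by
    have := ho (ρ * o * ρ⁻¹) (ul_odd oo) (ul_c1 ρ ot (ul_cj (ul_ρt h))) (ul_c1 ρ (oe.mul_right oz) (ul_ρez h))
      (ul_c1 ρ oz h.ρz) (ul_c1 ρ os (ul_cj h.ρs))
    exact (ul_c2 ρ this.symm (by group)).symm
  have := m0_gen (fun x hx => h.E2 hx) hg.gA h.ρE gg hy oo (fun x hx => ul_cE h ot oz oe os hx) (ho o oo ot oz oe os)
    o2 k
  rwa [k, this, mul_one]

theorem Gq.m0' (h : Ab A W T t z e b s w ρ τ) (hg : Gq T t z e b s g) (ge : Commute g e) (tm : Tame W t z e s) :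
    g * (ρ * g * ρ⁻¹) * (ρ⁻¹ * g * ρ) ∈ EA T e := by
  obtain ⟨y, hy, o, oo, k, ot, oz, oe, os⟩ := ul_m h hg ge
  have gg : g * g ∈ EA T e := ⟨hg.gg, mem_centralizer_singleton_iff.2 (ge.mul_left ge).eq⟩
  have := m0_gen' (fun x hx => h.E2 hx) hg.gA h.ρE h.ρ3 gg hy oo (fun x hx => ul_cE h ot oz oe os hx)
    (h.WA o (tm o oo ot oz oe os) ρ h.ρA) k
  rwa [k, this, mul_one]

theorem Gq.ul (h : Ab A W T t z e b s w ρ τ) (hg : Gq T t z e b s g) (ge : Commute g e)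
    (hm : g * (ρ * g * ρ⁻¹) * (ρ⁻¹ * g * ρ) ∈ EA T e) :
    ∃ y ∈ EA T e, EZ t z e b s ρ (g * y) ∨ QQ t z e b s ρ (g * y) := by
  have hq : Gu T t z e s g := ⟨hg.gT, hg.gt, ul_cm (h.nT_z hg.gT), ge, hg.gs, hg.gg⟩
  obtain ⟨x, u, hx, hu, k⟩ := ul_decA h hm
  rcases hx with hx | hx
  · exact hq.step h hx hu k
  obtain ⟨a0, a1, a2, a3⟩ := ul_q1 h hq.qt hq.qz hq.qe hq.qs
  have tE : t * 1 ∈ EA T e := by rw [mul_one]; exact ul_tE h
  have he : UlU z e e := Or.inr (Or.inr (Or.inl rfl))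
  have hue := (ul_U h hu).2.2.2.2.2.2.2.1
  have e1 := hq.prod h (Or.inr (Or.inl rfl)) (Or.inl rfl) he (ul_xq h a0 he a1 a2 a3 (Or.inl rfl))
  have ct := hue.cm h.dg.fq_tz h.dg.te
  rw [k, mul_assoc x, ← mul_assoc u, ct.eq, ← mul_assoc x] at e1
  have hx' : x * t = 1 ∨ x * t = s := by
    rcases hx with k | k <;> rw [k]
    · exact Or.inl h.dg.t2
    · exact Or.inr (by rw [← h.st.eq, mul_assoc, h.dg.t2, mul_one])
  obtain ⟨y, hy, k'⟩ := (hq.mul h tE).step h hx' hue e1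
  exact ⟨t * 1 * y, mul_mem tE hy, by rwa [← mul_assoc]⟩

namespace EZ

variable (h : Ab A W T t z e b s w ρ τ) (hq : EZ t z e b s ρ q)
include h hq

theorem qz : Commute q z := h.dg.fq_cz hq.qe hq.qb

theorem mulz : EZ t z e b s ρ (q * z) := by
  have qz := hq.qz h
  obtain ⟨-, a1, a2, -⟩ := ul_q1 h hq.qt qz hq.qe hq.qs
  obtain ⟨-, b1, b2, -⟩ := ul_q2 h hq.qt qz hq.qe hq.qs
  have e1 : ρ * (q * z) * ρ⁻¹ = ρ * q * ρ⁻¹ * e := by rw [ul_mul, h.ρz]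
  have e2 : ρ⁻¹ * (q * z) * ρ = ρ⁻¹ * q * ρ * (e * z) := by rw [ul_mul', ul_inv (ul_ρez h)]
  refine ⟨?_, hq.qe.mul_left (ul_ze h), hq.qb.mul_left h.dg.fq_zb, hq.qs.mul_left h.sz.symm, ?_, ?_, ?_⟩
  · calc _ = q * (z * t * z⁻¹) * q⁻¹ := by group
      _ = _ := by rw [ul_cj h.dg.fq_tz.symm, hq.qt]
  · rw [mul_assoc, ← mul_assoc z, ← qz.eq, mul_assoc, h.dg.z2, mul_one]; exact hq.q2
  · rw [e1]
    exact (hq.cm.mul_left a1.symm).mul_right (hq.qe.mul_left (ul_ze h))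
  · have pr := hq.pr
    rw [e1, e2]
    generalize ρ * q * ρ⁻¹ = q1 at *
    generalize ρ⁻¹ * q * ρ = q2 at *
    rw [← pr]
    simp only [mul_assoc, a1.symm.left_comm, b1.symm.left_comm, b2.symm.left_comm, h.dg.fq_ee, h.dg.z2, mul_one]

theorem bq1 : b * (ρ * q * ρ⁻¹) * b⁻¹ = ρ⁻¹ * q * ρ := by
  calc _ = b * ρ * b⁻¹ * (b * q * b⁻¹) * (b * ρ * b⁻¹)⁻¹ := by group
    _ = _ := by rw [h.bρ, ul_cj hq.qb.symm, inv_inv]

theorem q1t : ρ * q * ρ⁻¹ * t * (ρ * q * ρ⁻¹)⁻¹ = t * e := (ul_q1 h hq.qt (hq.qz h) hq.qe hq.qs).1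

theorem q1c : Commute (ρ * q * ρ⁻¹) z ∧ Commute (ρ * q * ρ⁻¹) e ∧ Commute (ρ * q * ρ⁻¹) s :=
  (ul_q1 h hq.qt (hq.qz h) hq.qe hq.qs).2

theorem ul_q1b : ρ * q * ρ⁻¹ * b * (ρ * q * ρ⁻¹)⁻¹ = b * q⁻¹ * (ρ * (q * q) * ρ⁻¹)⁻¹ := by
  have e1 := hq.bq1 h
  have pr := hq.pr
  have cm := hq.cm
  rw [ul_mul]
  generalize ρ * q * ρ⁻¹ = q1 at *
  generalize ρ⁻¹ * q * ρ = q2 at *
  have e2 : q2 = q⁻¹ * q1⁻¹ := by
    rw [← mul_inv_rev, ← cm.eq]; exact (inv_eq_of_mul_eq_one_right pr).symm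
  calc q1 * b * q1⁻¹ = (b * b)⁻¹ * b * (b * q1 * b⁻¹) * (b * b) * q1⁻¹ := by group
    _ = _ := by rw [e1, e2, h.dg.b2]; group

theorem q1E (q2 : q * q = 1) : ρ * q * ρ⁻¹ * (ρ * q * ρ⁻¹) = 1 ∧ ρ * q * ρ⁻¹ * b * (ρ * q * ρ⁻¹)⁻¹ = b * q := by
  refine ⟨by rw [← ul_mul, q2]; group, ?_⟩
  rw [hq.ul_q1b h, q2, inv_eq_of_mul_eq_one_right q2]; group

theorem q1Z (q2 : q * q = z) :
    ρ * q * ρ⁻¹ * (ρ * q * ρ⁻¹) = e ∧ ρ * q * ρ⁻¹ * b * (ρ * q * ρ⁻¹)⁻¹ = b * q⁻¹ * e := by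
  refine ⟨by rw [← ul_mul, q2, h.ρz], ?_⟩
  rw [hq.ul_q1b h, q2, h.ρz, h.dg.fq_ei]

/-- on a tame side `q` centralises `C_W(s)` -/
theorem cenO (tm : Tame W t z e s) {k : G} (hk : k ∈ W) (ks : Commute k s) : Commute k q := by
  obtain ⟨a1, a2, a3⟩ := hq.q1c h
  have a0 := hq.q1t h
  have a4 := hq.ul_q1b h
  have kt := h.WC k hk
  have kz := h.WA k hk z h.zA
  have ke := h.WA k hk e h.eA
  have kb := h.WA k hk b h.bA
  have kq : Commute k (ρ * (q * q) * ρ⁻¹) := by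
    rcases hq.q2 with k1 | k1 <;> rw [k1]
    · simp
    · rwa [h.ρz]
  generalize ρ * q * ρ⁻¹ = q1 at *
  have o : Odd (orderOf (q1⁻¹ * k * q1)) := by simpa using ul_odd (a := q1⁻¹) (h.Wo k hk)
  have k' := tm _ o (ul_c2 q1 (kt.mul_right ke) (ul_inv a0)) (ul_c2 q1 kz (ul_cj' a1)) (ul_c2 q1 ke (ul_cj' a2))
    (ul_c2 q1 ks (ul_cj' a3))
  have c1 := ul_c1 q1 (h.WA _ k' b h.bA) a4
  rw [show q1 * (q1⁻¹ * k * q1) * q1⁻¹ = k by group] at c1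
  have c2 := kb.inv_right.mul_right (c1.mul_right kq)
  rw [inv_mul_cancel_right, inv_mul_cancel_left] at c2
  simpa using c2

end EZ

end CfsgLib.A7S
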