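import Cfsg.Agent.Lib.A7S.Nsw
import Cfsg.Agent.Lib.A7S.Ul

/-! QE: the element `η` (plans/A7S.md) -/

set_option autoImplicit false
set_option linter.unusedSectionVars false

namespace CfsgLib.A7S

open Subgroup Cfsg CfsgLib.Tech CfsgLib.Dih8 CfsgLib.D8S

variable {G : Type*} [Group G] [Finite G] {A W T E S : Subgroup G} {t z e b s w ρ τ η g q c y : G}

theorem qe_cj {x u : G} (h : Commute x u) : x * u * x⁻¹ = u := by rw [h.eq, mul_inv_cancel_right]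

theorem qe_cm {x u : G} (h : x * u * x⁻¹ = u) : Commute x u := mul_inv_eq_iff_eq_mul.1 h

theorem qe_odd {o : G} (ho : Odd (orderOf o)) (h : o * o = 1) : o = 1 :=
  orderOf_eq_one_iff.1 (Nat.eq_one_of_dvd_coprimes (Nat.coprime_two_right.2 ho) dvd_rfl
    (orderOf_dvd_of_pow_eq_one (by rwa [pow_two])))

/-- `n o n⁻¹` commutes with `u` if `o` commutes with `n⁻¹ u n` -/
theorem qe_tr {n o u v : G} (h : Commute o v) (e : n * v * n⁻¹ = u) : Commute (n * o * n⁻¹) u :=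
  e ▸ h.conj n

/-- three involutions with trivial product commute -/
theorem qe_klein {X : G → Prop} {a a1 a2 : MulAut G} (c1 : ∀ x, X x → X (a1 x))
    (c2 : ∀ x, X x → X (a2 x)) (i0 : ∀ x, X x → a (a x) = x) (i1 : ∀ x, X x → a1 (a1 x) = x)
    (i2 : ∀ x, X x → a2 (a2 x) = x) (m : ∀ x, X x → a (a1 (a2 x)) = x) {x : G} (hx : X x) :
    a2 x = a (a1 x) ∧ a (a1 x) = a1 (a x) := by
  have h1 := m _ (c2 x hx)
  rw [i2 x hx] at h1
  have h2 := congrArg (fun u => a1 (a u)) (m x hx)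
  simp only [i0 _ (c1 _ (c2 x hx)), i1 _ (c2 x hx)] at h2
  exact ⟨h1.symm, h1.trans h2⟩

theorem Ab.qe_gU (h : Ab A W T t z e b s w ρ τ) (hg : Gq T t z e b s g)
    (hy : ∀ y, InY T e b y → g * e * g⁻¹ = y * e → y = 1 ∨ y = z ∨ y = t ∨ y = t * z) :
    g * e * g⁻¹ = e ∨ g * e * g⁻¹ = e * z := by
  have eE : e ∈ EA T e := ⟨h.eT, mem_centralizer_singleton_iff.2 rfl⟩
  have ρt := qe_cj (h.AC ρ h.ρA)
  have c1 : IsConj t (t * z) := isConj_iff.2 ⟨g, hg.gt⟩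
  have c2 : IsConj t (t * e) := c1.trans (isConj_iff.2 ⟨ρ, by rw [← h.ρz]; nth_rw 2 [← ρt]; group⟩)
  have c3 : IsConj t (t * (e * z)) := c2.trans (isConj_iff.2 ⟨ρ, by rw [← h.ρe]; nth_rw 2 [← ρt]; group⟩)
  have c4 : IsConj (g * e * g⁻¹) e := (isConj_iff.2 ⟨g, rfl⟩).symm
  obtain ⟨y, hY, k | k⟩ := h.memE (conj_mem_of_mem_normalizer hg.gA eE)
  · have := (h.nT_Y (inv_mem hg.gT) hY).2.2
    rw [← k] at this
    exact absurd (by simpa [mul_assoc] using this.eq) h.dg.fq_ncomm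
  · rcases hy y hY k with rfl | rfl | rfl | rfl
    · exact .inl (k.trans (one_mul _))
    · exact .inr (k.trans h.dg.fq_ze)
    · exact absurd (c2.trans (k ▸ c4)) (h.nA h.eA)
    · exact absurd (c3.trans (by rwa [k, mul_assoc, h.dg.fq_ze] at c4)) (h.nA h.eA)

/-- normalise `g` such that it centralises `e` -/
theorem Ab.qe_fix (h : Ab A W T t z e b s w ρ τ) (hg : Gq T t z e b s g)
    (h1 : g * e * g⁻¹ = e ∨ g * e * g⁻¹ = e * z) :
    ∃ g', Gq T t z e b s g' ∧ Commute g' e ∧ (Commute g b → Commute g' b) := by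
  rcases h1 with h1 | h1
  · exact ⟨g, hg, qe_cm h1, id⟩
  · refine ⟨g * b, hg.mul h h.bT, qe_cm ?_, fun k => k.mul_left (.refl b)⟩
    calc g * b * e * (g * b)⁻¹ = g * (b * e * b⁻¹) * g⁻¹ := by group
      _ = g * e * g⁻¹ * (g * z * g⁻¹) := by
        rw [show b * e * b⁻¹ = e * z by simp only [h.dg.fq_nf]]; group
      _ = e := by rw [h1, h.nT_z hg.gT, mul_assoc, h.dg.z2, mul_one]

namespace Cn

variable (h : Cn A W T t z e b s w ρ τ η)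
include h

theorem qe_η2 : η * η ≠ 1 := fun k => h.η1 (by
  have := h.η3
  rwa [pow_succ, pow_two, k, one_mul] at this)

theorem qe_ninv {x : G} (h1 : x * η * x⁻¹ = η⁻¹) (h2 : Commute x η) : False :=
  h.qe_η2 (mul_eq_one_iff_eq_inv.2 ((qe_cj h2).symm.trans h1))

theorem ηW : η ∉ W := fun k => h.qe_ninv h.bη (h.WA η k b h.bA).symm

theorem qe_ηo : Odd (orderOf η) :=
  (show Odd 3 by decide).of_dvd_nat (orderOf_dvd_of_pow_eq_one h.η3)

theorem qe_pow (i : ℕ) : η ^ i = 1 ∨ η ^ i = η ∨ η ^ i = η⁻¹ := by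
  rw [pow_eq_pow_mod i h.η3]
  have : i % 3 = 0 ∨ i % 3 = 1 ∨ i % 3 = 2 := by omega
  rcases this with k | k | k <;> rw [k]
  exacts [.inl (pow_zero η), .inr (.inl (pow_one η)),
    .inr (.inr (eq_inv_of_mul_eq_one_left (by rw [← pow_succ, h.η3])))]

theorem qe_tame {x o : G} (h1 : x * η * x⁻¹ = η⁻¹) (xt : Commute x t) (ho : Odd (orderOf o)) (ot : Commute o t)
    (oz : Commute o z) (ox : Commute o x) : o ∈ W := by
  obtain ⟨i, k, hk, rfl⟩ := h.cZ o ho ot oz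
  have h2 : (η ^ i)⁻¹ * (x * k * x⁻¹) = η ^ i * k := by
    rw [← qe_cj ox.symm, ← inv_pow, ← h1, conj_pow]; group
  have h3 : η ^ i * η ^ i ∈ W := by
    have := mul_mem (h.Wn x xt k hk) (inv_mem hk)
    rwa [inv_mul_eq_iff_eq_mul.1 h2, ← mul_assoc, mul_inv_cancel_right] at this
  have e3 : η * η = η⁻¹ := eq_inv_of_mul_eq_one_left (by rw [← h.η3, pow_succ, pow_two])
  rcases h.qe_pow i with k1 | k1 | k1 <;> rw [k1] at h3 ⊢
  · rwa [one_mul]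
  · exact absurd (inv_mem_iff.1 (e3 ▸ h3)) h.ηW
  · rw [← mul_inv_rev, e3, inv_inv] at h3
    exact absurd h3 h.ηW

theorem tameB : Tame W t z b w := fun _ ho ot oz ob _ => h.qe_tame h.bη h.dg.tb.symm ho ot oz ob

theorem tameA (hs : s ≠ 1) : Tame W t z e s := fun _ ho ot oz _ os =>
  h.qe_tame (h.sη.resolve_left hs) h.st ho ot oz os

/-- the elements of odd order of `C(t, z)` commute with `η` and `e` -/
theorem qe_O {o x : G} (ho : Odd (orderOf o)) (ot : Commute o t) (oz : Commute o z) (h1 : Commute η x)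
    (h2 : ∀ k ∈ W, Commute k x) : Commute o x := by
  obtain ⟨i, k, hk, rfl⟩ := h.cZ o ho ot oz
  exact (h1.pow_left i).mul_left (h2 k hk)

/-- `g` normalises `U` -/
theorem gU (hg : Gq T t z e b s g) : g * e * g⁻¹ = e ∨ g * e * g⁻¹ = e * z := by
  have ηt := h.AC η h.ηA
  have h1 : Commute (g⁻¹ * η * g⁻¹⁻¹) e := h.qe_O
    (by rw [show orderOf (g⁻¹ * η * g⁻¹⁻¹) = orderOf η from (MulAut.conj g⁻¹).orderOf_eq η]; exact h.qe_ηo)
    (qe_tr (ηt.mul_right h.ηz) (by rw [← hg.gt]; group))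
    (qe_tr h.ηz (h.nT_z (inv_mem hg.gT))) h.ηe fun k hk => h.WA k hk e h.eA
  have h2 : Commute η (g * e * g⁻¹) := by simpa [mul_assoc] using h1.conj g
  refine h.toAb.qe_gU hg fun y hy k => ?_
  have h3 : Commute η y := by
    have := (k ▸ h2).mul_right h.ηe.inv_right
    rwa [mul_inv_cancel_right] at this
  have h4 : Commute η s → s = 1 := fun k => h.sη.resolve_right fun k' => h.qe_ninv k' k.symm
  rcases h.memY hy with rfl | rfl | rfl | rfl | rfl | rfl | rfl | rfl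
  · exact .inl rfl
  · exact .inr (.inl rfl)
  · exact .inr (.inr (.inl rfl))
  · exact .inr (.inr (.inr rfl))
  · exact .inl (h4 h3)
  · rw [h4 (by simpa using h3.mul_right h.ηz.inv_right), one_mul]
    exact .inr (.inl rfl)
  · rw [h4 (by simpa using ηt.inv_right.mul_right h3), mul_one]
    exact .inr (.inr (.inl rfl))
  · rw [h4 (by simpa using ηt.inv_right.mul_right (h3.mul_right h.ηz.inv_right)), mul_one]
    exact .inr (.inr (.inr rfl))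

/-- the action of `ρ` on `⟨η⟩ W` -/
theorem qe_ρ (i : ℕ) {k : G} (hk : k ∈ W) : ∃ u, ρ * (η ^ i * k) * ρ⁻¹ = η ^ i * k * u ∧ Commute u ρ ∧
    Commute u (η ^ i * k) := by
  have ζA : η⁻¹ * (ρ * η * ρ⁻¹) ∈ A :=
    mul_mem (inv_mem h.ηA) (mul_mem (mul_mem h.ρA h.ηA) (inv_mem h.ρA))
  have c1 := h.WA _ h.ρη η h.ηA
  have c2 := h.WA k hk _ ζA
  refine ⟨(η⁻¹ * (ρ * η * ρ⁻¹)) ^ i, ?_, (h.WA _ h.ρη ρ h.ρA).pow_left i,
    ((c1.pow_right i).mul_right c2.symm).pow_left i⟩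
  rw [mul_assoc _ k, (c2.pow_right i).eq, ← mul_assoc (η ^ i), ← c1.symm.mul_pow, mul_inv_cancel_left, conj_pow,
    mul_assoc _ ρ⁻¹, ← (h.WA k hk ρ h.ρA).inv_right.eq]
  group

/-- `q` centralises `η` -/
theorem qη (qt : q * t * q⁻¹ = t * z) (qe : Commute q e) (qb : Commute q b) (q2 : q * q = 1 ∨ q * q = z)
    (hm : s = 1 ∨ q * (ρ * q * ρ⁻¹) * (ρ⁻¹ * q * ρ) = 1) : Commute q η := by
  have d := h.dg
  have ηt := h.AC η h.ηA
  have qz := d.fq_cz qe qb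
  have ρt := qe_cj (h.AC ρ h.ρA)
  have ρez : ρ * (e * z) * ρ⁻¹ = z := by
    calc ρ * (e * z) * ρ⁻¹ = ρ * e * ρ⁻¹ * (ρ * z * ρ⁻¹) := by group
      _ = z := by rw [h.ρe, h.ρz]; simp only [d.fq_nf]
  have qtz : q * (t * z) * q⁻¹ = t := by
    calc q * (t * z) * q⁻¹ = q * t * q⁻¹ * (q * z * q⁻¹) := by group
      _ = t := by rw [qt, qe_cj qz, mul_assoc, d.z2, mul_one]
  let O : G → Prop := fun o => Odd (orderOf o) ∧ Commute o t ∧ Commute o z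
  have Oe : ∀ o, O o → Commute o e := fun o k => h.qe_O k.1 k.2.1 k.2.2 h.ηe fun k hk => h.WA k hk e h.eA
  have Oη : ∀ o, O o → Commute o η := fun o k =>
    h.qe_O k.1 k.2.1 k.2.2 (.refl η) fun k hk => h.WA k hk η h.ηA
  have od : ∀ n o, O o → Odd (orderOf (n * o * n⁻¹)) := fun n o k => by
    rw [show orderOf (n * o * n⁻¹) = orderOf o from (MulAut.conj n).orderOf_eq o]; exact k.1
  have Oq : ∀ o, O o → O (q * o * q⁻¹) := fun o k =>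
    ⟨od q o k, qe_tr (k.2.1.mul_right k.2.2) qtz, qe_tr k.2.2 (qe_cj qz)⟩
  have Oq' : ∀ o, O o → O (q⁻¹ * o * q⁻¹⁻¹) := fun o k =>
    ⟨od _ o k, qe_tr (k.2.1.mul_right k.2.2) (by rw [← qt]; group), qe_tr k.2.2 (qe_cj qz.inv_left)⟩
  have Oρ : ∀ o, O o → O (ρ * o * ρ⁻¹) := fun o k =>
    ⟨od ρ o k, qe_tr k.2.1 ρt, qe_tr ((Oe o k).mul_right k.2.2) ρez⟩
  have Oρ' : ∀ o, O o → O (ρ⁻¹ * o * ρ⁻¹⁻¹) := fun o k =>
    ⟨od _ o k, qe_tr k.2.1 (qe_cj (h.AC ρ h.ρA).inv_left), qe_tr (Oe o k) (by rw [← h.ρz]; group)⟩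
  let X : G → Prop := fun x => O x ∧ ∀ o, O o → Commute x o
  have Xc : ∀ n, (∀ o, O o → O (n * o * n⁻¹)) → (∀ o, O o → O (n⁻¹ * o * n⁻¹⁻¹)) →
      ∀ x, X x → X (n * x * n⁻¹) := fun n k1 k2 x k =>
    ⟨k1 x k.1, fun o ho => qe_tr (k.2 _ (k2 o ho)) (by group)⟩
  have Xq := Xc q Oq Oq'
  have Xρ := Xc ρ Oρ Oρ'
  have Xρ' := Xc ρ⁻¹ Oρ' (by simpa only [inv_inv] using Oρ)
  have Xη : X η := ⟨⟨h.qe_ηo, ηt, h.ηz⟩, fun o k => (Oη o k).symm⟩
  have i0 : ∀ o, O o → q * (q * o * q⁻¹) * q⁻¹ = o := fun o k => by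
    rw [show q * (q * o * q⁻¹) * q⁻¹ = q * q * o * (q * q)⁻¹ by group]
    rcases q2 with k1 | k1 <;> rw [k1]
    exacts [by group, qe_cj k.2.2.symm]
  -- `q` normalises `⟨η⟩`
  obtain ⟨i, k, hk, e1⟩ := h.cZ _ (Oq η Xη.1).1 (Oq η Xη.1).2.1 (Oq η Xη.1).2.2
  have k1 : k = 1 := by
    have e2 : b * (q * η * q⁻¹) * b⁻¹ = (q * η * q⁻¹)⁻¹ := by
      calc b * (q * η * q⁻¹) * b⁻¹ = b * q * η * (b * q)⁻¹ := by group
        _ = q * (b * η * b⁻¹) * q⁻¹ := by rw [← qb.eq]; group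
        _ = _ := by rw [h.bη]; group
    have e3 : b * (η ^ i * k) * b⁻¹ = (η ^ i)⁻¹ * k := by
      rw [← inv_pow, ← h.bη, conj_pow, mul_assoc _ b⁻¹, ← (h.WA k hk b h.bA).inv_right.eq]; group
    rw [e1, e3, mul_inv_rev, ((h.WA k hk η h.ηA).pow_right i).inv_inv.eq, mul_left_cancel_iff] at e2
    exact qe_odd (h.Wo k hk) (mul_eq_one_iff_eq_inv.2 e2)
  rw [k1, mul_one] at e1
  rcases h.qe_pow i with k2 | k2 | k2 <;> rw [k2] at e1
  · exact absurd (by simpa using e1) h.η1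
  · exact qe_cm e1
  exfalso
  -- the product centralises `X`
  have hM : ∀ x, X x → Commute x (q * (ρ * q * ρ⁻¹) * (ρ⁻¹ * q * ρ)) := fun x hx => by
    rcases hm with hs | hm
    swap
    · rw [hm]; exact Commute.one_right x
    have qU : ∀ u, u = z ∨ u = e ∨ u = e * z → Commute q u := by
      rintro _ (rfl | rfl | rfl)
      exacts [qz, qe, qe.mul_right qz]
    have z1 : Commute (ρ * q * ρ⁻¹) z := qe_tr (qe.mul_right qz) ρez
    have e1 : Commute (ρ * q * ρ⁻¹) e := qe_tr qz h.ρz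
    have z2 : Commute (ρ⁻¹ * q * ρ) z := by
      simpa using qe_tr (n := ρ⁻¹) qe (show ρ⁻¹ * e * ρ⁻¹⁻¹ = z by rw [← h.ρz]; group)
    have e2 : Commute (ρ⁻¹ * q * ρ) e := by
      simpa using qe_tr (n := ρ⁻¹) (qe.mul_right qz) (show ρ⁻¹ * (e * z) * ρ⁻¹⁻¹ = e by rw [← h.ρe]; group)
    have t1 : ρ * q * ρ⁻¹ * t * (ρ * q * ρ⁻¹)⁻¹ = t * e := by
      calc _ = ρ * (q * (ρ⁻¹ * t * ρ⁻¹⁻¹) * q⁻¹) * ρ⁻¹ := by group
        _ = ρ * t * ρ⁻¹ * (ρ * z * ρ⁻¹) := by rw [qe_cj (h.AC ρ h.ρA).inv_left, qt]; group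
        _ = _ := by rw [ρt, h.ρz]
    have t2 : ρ⁻¹ * q * ρ * t * (ρ⁻¹ * q * ρ)⁻¹ = t * (e * z) := by
      calc _ = ρ⁻¹ * (q * (ρ * t * ρ⁻¹) * q⁻¹) * ρ := by group
        _ = ρ⁻¹ * t * ρ⁻¹⁻¹ * (ρ⁻¹ * z * ρ) := by rw [ρt, qt]; group
        _ = _ := by rw [qe_cj (h.AC ρ h.ρA).inv_left]; nth_rw 1 [← ρez]; group
    have mt : Commute (q * (ρ * q * ρ⁻¹) * (ρ⁻¹ * q * ρ)) t := by
      generalize ρ * q * ρ⁻¹ = q₁ at *
      generalize ρ⁻¹ * q * ρ = q₂ at *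
      refine qe_cm ?_
      calc _ = q * (q₁ * (q₂ * t * q₂⁻¹) * q₁⁻¹) * q⁻¹ := by group
        _ = q * (q₁ * t * q₁⁻¹ * (q₁ * (e * z) * q₁⁻¹)) * q⁻¹ := by rw [t2]; group
        _ = q * (t * z) * q⁻¹ := by
          rw [t1, qe_cj (e1.mul_right z1), mul_assoc t, ← mul_assoc e, d.e2, one_mul]
        _ = t := qtz
    have mz := (qz.mul_left z1).mul_left z2
    obtain ⟨y, hy, o, ho, oo, k⟩ := h.decE mt mz ((qe.mul_left e1).mul_left e2) (hs ▸ Commute.one_right _)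
    obtain ⟨n, rfl⟩ := mem_zpowers_iff.1 ho
    rw [k]
    refine Commute.mul_right ?_ (hx.2 _ ⟨oo, mt.zpow_left n, mz.zpow_left n⟩)
    rw [h.Eeq] at hy
    refine (closure_le (K := centralizer {x})).2 ?_ hy |> mem_centralizer_singleton_iff.1 |> Eq.symm
    rintro _ (rfl | rfl | rfl | rfl) <;> refine mem_centralizer_singleton_iff.2 ?_
    exacts [hx.1.2.1.symm, by rw [hs]; exact Commute.one_left x, hx.1.2.2.symm, (Oe x hx.1).symm]
  -- the Klein four-group on `X`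
  have K := fun x => qe_klein (X := X) (a := MulAut.conj q) (a1 := MulAut.conj (ρ * q * ρ⁻¹))
    (a2 := MulAut.conj (ρ⁻¹ * q * ρ)) (x := x)
    (fun x k => by simpa [mul_assoc] using Xρ _ (Xq _ (Xρ' x k)))
    (fun x k => by simpa [mul_assoc] using Xρ' _ (Xq _ (Xρ x k)))
    (fun x k => i0 x k.1)
    (fun x k => by simpa [mul_assoc] using congrArg (fun u => ρ * u * ρ⁻¹) (i0 _ (Oρ' x k.1)))
    (fun x k => by simpa [mul_assoc] using congrArg (fun u => ρ⁻¹ * u * ρ) (i0 _ (Oρ x k.1)))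
    (fun x k => by simpa [mul_assoc] using qe_cj (hM x k).symm)
  have X1 : X (MulAut.conj (ρ * q * ρ⁻¹) η) := by simpa [mul_assoc] using Xρ _ (Xq _ (Xρ' η Xη))
  have i1 : MulAut.conj (ρ * q * ρ⁻¹) (MulAut.conj (ρ * q * ρ⁻¹) η) = η := by
    simpa [mul_assoc] using congrArg (fun u => ρ * u * ρ⁻¹) (i0 _ (Oρ' η Xη.1))
  have a0 : MulAut.conj q η = η⁻¹ := e1
  have f1 := (K η Xη).2
  have f2 := (K η Xη).1
  have f3 := (K _ X1).1
  rw [a0, map_inv] at f1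
  rw [f1] at f2
  rw [i1, a0] at f3
  have b1 : ∀ x, MulAut.conj (ρ * q * ρ⁻¹) (ρ * x * ρ⁻¹) = ρ * MulAut.conj q x * ρ⁻¹ := fun x => by
    simp [mul_assoc]
  have b2 : ∀ x, MulAut.conj (ρ * q * ρ⁻¹) (ρ * (ρ * x * ρ⁻¹) * ρ⁻¹) =
      ρ * (ρ * MulAut.conj (ρ⁻¹ * q * ρ) x * ρ⁻¹) * ρ⁻¹ := fun x => by simp [mul_assoc]
  have b3 : MulAut.conj (ρ⁻¹ * q * ρ) η = b * MulAut.conj (ρ * q * ρ⁻¹) (b⁻¹ * η * b) * b⁻¹ := by
    have : ρ⁻¹ * q * ρ = b * (ρ * q * ρ⁻¹) * b⁻¹ := by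
      calc ρ⁻¹ * q * ρ = ρ⁻¹ * (b * q * b⁻¹) * ρ⁻¹⁻¹ := by rw [qe_cj qb.symm, inv_inv]
        _ = b * ρ * b⁻¹ * (b * q * b⁻¹) * (b * ρ * b⁻¹)⁻¹ := by rw [h.bρ]
        _ = _ := by group
    rw [this]; simp [mul_assoc]
  have b4 : b⁻¹ * η * b = η⁻¹ := by rw [d.fq_bi, ← h.bη, d.fq_bi]
  have hM' : MulAut.conj q (MulAut.conj (ρ * q * ρ⁻¹) (MulAut.conj (ρ⁻¹ * q * ρ) η)) = η := by
    simpa [mul_assoc] using qe_cj (hM η Xη).symm
  generalize MulAut.conj (ρ * q * ρ⁻¹) = a₁ at *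
  generalize MulAut.conj (ρ⁻¹ * q * ρ) = a₂ at *
  generalize MulAut.conj q = a at *
  have cη := Oη _ X1.1
  obtain ⟨j, l, hl, e4⟩ := h.cZ _ X1.1.1 X1.1.2.1 X1.1.2.2
  obtain ⟨u, u1, u2, u3⟩ := h.qe_ρ (j + 1) hl
  rw [pow_succ', mul_assoc η, ← e4] at u1 u3
  have yo : Odd (orderOf (η * a₁ η)) :=
    (h.qe_ηo.mul X1.1.1).of_dvd_nat cη.symm.orderOf_mul_dvd_mul_orderOf
  have y0 : a (η * a₁ η) = (η * a₁ η)⁻¹ := by rw [map_mul, a0, f1, ← mul_inv_rev, cη.eq]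
  have y1 : a₁ (η * a₁ η) = η * a₁ η := by rw [map_mul, i1, cη.eq]
  have y2 : a₂ (η * a₁ η) = (η * a₁ η)⁻¹ := by rw [map_mul, f2, f3, mul_inv_rev]
  have y3 : η * a₁ η = 1 := by
    have g1 := b1 (η * a₁ η)
    have g2 := b2 (η * a₁ η)
    rw [y0] at g1
    rw [y2] at g2
    generalize η * a₁ η = y at *
    have u4 : ρ * (y * u) * ρ⁻¹ = y * u * u := by
      calc ρ * (y * u) * ρ⁻¹ = ρ * y * ρ⁻¹ * (ρ * u * ρ⁻¹) := by group
        _ = _ := by rw [u1, qe_cj u2.symm]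
    have u5 : ρ * y⁻¹ * ρ⁻¹ = (y * u)⁻¹ := by rw [← u1]; group
    have u6 : ρ * (y * u)⁻¹ * ρ⁻¹ = (y * u * u)⁻¹ := by rw [← u4]; group
    rw [u1, u5] at g1 g2
    rw [u4, u6, map_mul, g1] at g2
    rw [map_mul, y1] at g1
    have g3 : a₁ u = y⁻¹ * (y * u)⁻¹ := eq_inv_mul_of_mul_eq g1
    rw [g3, ← mul_inv_rev, ← mul_inv_rev, inv_inj, mul_assoc (y * u), mul_left_cancel_iff, ← mul_assoc] at g2
    exact qe_odd yo (mul_eq_right.1 g2)
  have y4 : a₁ η = η⁻¹ := eq_inv_of_mul_eq_one_right y3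
  rw [b4, map_inv, y4, inv_inv, h.bη] at b3
  rw [b3, map_inv, y4, inv_inv, a0] at hM'
  exact h.qe_η2 (mul_eq_one_iff_eq_inv.2 hM'.symm)

theorem split (hg : Gq T t z e b s g) : (∃ q, QQ t z e b s ρ q) ∨
    ∃ q y, InY T e b y ∧ EZ t z e b s ρ q ∧ EZ t z b e w τ (q * y) := by
  obtain ⟨g, hg, ge, -⟩ := h.toAb.qe_fix hg (h.gU hg)
  have h' := h.toAb.symm
  rcases h.sw with ⟨hs, hw⟩ | ⟨hw, hs⟩
  · have hg' := hg.symm h.toAb
    obtain ⟨g, hg', gb, ge⟩ := h'.qe_fix hg' (h'.qe_gU hg' fun y hy _ => by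
      have := h'.memY hy
      simp only [hw, mul_one, one_mul] at this
      tauto)
    obtain ⟨y, hy, hc | hc⟩ := hg'.ul h' gb (hg'.m0' h' gb h.tameB)
    swap
    · exact absurd hw hc.s1
    generalize g * y = c at hc
    have hg := (hc.gq h').symm h'
    have cη := h.qη hc.qt hc.qb hc.qe hc.q2 (.inl hs)
    obtain ⟨y, hy, hq | hq⟩ := hg.ul h.toAb hc.qb (hg.m0 h.toAb hc.qb fun o ho ot oz _ _ =>
      h.qe_O ho ot oz cη.symm fun k hk => hc.cenO h' h.tameB hk (hw ▸ Commute.one_right k))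
    · refine .inr ⟨_, y, ⟨hy.1, mem_centralizer_singleton_iff.1 hy.2, ?_⟩, hq, ?_⟩
      · simpa using hc.qe.inv_left.mul_left hq.qb
      · rwa [mul_assoc, h.E2 hy, mul_one]
    · exact .inl ⟨_, hq⟩
  · have s1 : s ≠ 1 := fun k => hs (k ▸ one_mem _)
    obtain ⟨y, -, hq | hq⟩ := hg.ul h.toAb ge (hg.m0' h.toAb ge (h.tameA s1))
    swap
    · exact .inl ⟨_, hq⟩
    generalize g * y = q at hq
    have hg' := (hq.gq h.toAb).symm h.toAb
    obtain ⟨y, hy, hc | hc⟩ := hg'.ul h' hq.qb (hg'.m0' h' hq.qb h.tameB)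
    · exact .inr ⟨q, y, ⟨hy.1, by simpa using hq.qe.inv_left.mul_left hc.qb,
        mem_centralizer_singleton_iff.1 hy.2⟩, hq, hc⟩
    · exfalso
      have e1 := hc.qb
      obtain ⟨y₀, hY, rfl | rfl⟩ := h'.memE hy
      · rw [qe_cj (hq.qe.mul_left hY.2.2)] at e1
        exact hc.s1 (mul_eq_left.1 e1.symm)
      · rw [show q * (y₀ * b) * e * (q * (y₀ * b))⁻¹ = q * y₀ * (b * e * b⁻¹) * (q * y₀)⁻¹ by group,
          show b * e * b⁻¹ = e * z by simp only [h.dg.fq_nf], qe_cj ((hq.qe.mul_left hY.2.2).mul_right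
            ((hq.qz h.toAb).mul_left (h.cT hY.1).2.2)), mul_left_cancel_iff, hw] at e1
        exact s1 (mul_eq_right.1 e1.symm)

end Cn

end CfsgLib.A7S
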