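import Cfsg.Agent.Lib.A7S.Tri
import Cfsg.Agent.Lib.A7S.Glb

/-! S8A: the involution `f` (plans/A7S.md) -/

set_option autoImplicit false
set_option linter.unusedSectionVars false

namespace CfsgLib.A7S

open Subgroup Cfsg CfsgLib.Tech CfsgLib.Dih8 CfsgLib.D8S

variable {G : Type*} [Group G] [Finite G] {A W T E S : Subgroup G} {t z e b s w ρ τ η g q c y : G}

/-- conjugation -/
def s8c (g x : G) : G := g * x * g⁻¹

theorem s8c_l (g k x : G) : s8c (g * k) x = s8c g (s8c k x) := by simp [s8c, mul_assoc]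

theorem s8c_r (g x y : G) : s8c g (x * y) = s8c g x * s8c g y := by simp [s8c, mul_assoc]

theorem s8c_one (g : G) : s8c g 1 = 1 := by simp [s8c]

theorem s8c_i {x : G} (h : s8c g x = y) : s8c g⁻¹ y = x := by rw [← h]; simp [s8c, mul_assoc]

theorem s8c_inj {x : G} (h : s8c g x = s8c g y) : x = y := (s8c_i h).symm.trans (s8c_i rfl)

theorem s8c_c {x : G} : s8c g x = x ↔ Commute g x := mul_inv_eq_iff_eq_mul

theorem s8c_conj (g x : G) : IsConj x (s8c g x) := isConj_iff.2 ⟨g, rfl⟩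

theorem s8c_mem {H : Subgroup G} (hg : g ∈ normalizer (H : Set G)) (hy : y ∈ H) : s8c g y ∈ H :=
  (mem_normalizer_iff.1 hg y).1 hy

/-- an element of `N(T)` acting as `(t s) (s b, s b z)` -/
structure S8w (T : Subgroup G) (t z b s q : G) : Prop where
  nT : q ∈ normalizer (T : Set G)
  qt : s8c q t = s
  qs : s8c q s = t
  qz : s8c q z = z
  qb : s8c q b = t * (s * (b * z))

namespace Ab

variable (h : Ab A W T t z e b s w ρ τ)
include h

theorem s8_nf : (e⁻¹ = e ∧ e * e = 1 ∧ t * t = 1 ∧ s * s = 1 ∧ b * b = 1 ∧ z * z = 1) ∧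
    ((∀ x, e * (e * x) = x) ∧ (∀ x, t * (t * x) = x) ∧ (∀ x, s * (s * x) = x) ∧
      (∀ x, b * (b * x) = x) ∧ ∀ x, z * (z * x) = x) ∧
    (t * e = e * t ∧ s * e = e * s ∧ b * e = e * (b * z) ∧ z * e = e * z ∧ s * t = t * s ∧
      b * t = t * b ∧ z * t = t * z ∧ b * s = s * b ∧ z * s = s * z ∧ z * b = b * z) ∧
    (∀ x, t * (e * x) = e * (t * x)) ∧ (∀ x, s * (e * x) = e * (s * x)) ∧
    (∀ x, b * (e * x) = e * (b * (z * x))) ∧ (∀ x, z * (e * x) = e * (z * x)) ∧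
    (∀ x, s * (t * x) = t * (s * x)) ∧ (∀ x, b * (t * x) = t * (b * x)) ∧
    (∀ x, z * (t * x) = t * (z * x)) ∧ (∀ x, b * (s * x) = s * (b * x)) ∧
    (∀ x, z * (s * x) = s * (z * x)) ∧ ∀ x, z * (b * x) = b * (z * x) := by
  have l : ∀ {u v : G}, u * v = v * u → ∀ x, u * (v * x) = v * (u * x) := fun k x => by
    rw [← mul_assoc, k, mul_assoc]
  have r : ∀ {u : G}, u * u = 1 → ∀ x, u * (u * x) = x := fun k x => by
    rw [← mul_assoc, k, one_mul]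
  have d := h.dg
  exact ⟨⟨d.fq_ei, d.e2, d.t2, h.s2, d.b2, d.z2⟩, ⟨r d.e2, r d.t2, r h.s2, r d.b2, r d.z2⟩,
    ⟨d.te, h.se, d.fq_be, d.fq_ze, h.st, d.tb.symm, d.fq_tz.symm, h.sb.symm, h.sz.symm, d.fq_zb⟩,
    l d.te, l h.se, d.fq_be', l d.fq_ze, l h.st, l d.tb.symm, l d.fq_tz.symm, l h.sb.symm,
    l h.sz.symm, l d.fq_zb⟩

theorem s8_B : t ∈ EA T b ∧ s ∈ EA T b ∧ b ∈ EA T b ∧ z ∈ EA T b :=
  ⟨⟨h.tT, mem_centralizer_singleton_iff.2 h.dg.tb⟩, ⟨h.sT, mem_centralizer_singleton_iff.2 h.sb⟩,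
    ⟨h.bT, mem_centralizer_singleton_iff.2 rfl⟩, h.zT, mem_centralizer_singleton_iff.2 h.dg.fq_zb⟩

theorem s8_ne (hs : s ≠ 1) : t * s ≠ 1 ∧ t * (s * z) ≠ 1 :=
  ⟨by simpa using ((h.indep (one_mem _)).2 hs).2,
    by simpa only [mul_assoc] using ((h.indep h.dg.fq_z_mem).2 hs).2⟩

theorem s8_w (hs : s ≠ 1) : w = s * z := (h.sw.resolve_left fun k => hs k.1).1

theorem s8_e : s8c e t = t ∧ s8c e s = s ∧ s8c e z = z ∧ s8c e b = b * z := by
  simp only [s8c, mul_assoc, h.s8_nf, and_self]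

theorem s8_τ (hs : s ≠ 1) : (s8c τ t = t ∧ s8c τ s = s * (b * z) ∧ s8c τ z = b ∧ s8c τ b = b * z) ∧
    s8c τ⁻¹ t = t ∧ s8c τ⁻¹ s = s * b ∧ s8c τ⁻¹ z = b * z ∧ s8c τ⁻¹ b = z := by
  have h1 : s8c τ t = t := s8c_c.2 (h.AC τ h.τA)
  have h3 : s8c τ z = b := h.τz
  have h4 : s8c τ b = b * z := h.τb
  have h2 : s8c τ s = s * (b * z) := by
    have k : s8c τ w = w := s8c_c.2 h.τw
    rw [h.s8_w hs, s8c_r, h3] at k
    rw [eq_mul_inv_of_mul_eq k, h.dg.fq_bi]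
    simp only [mul_assoc, h.s8_nf]
  refine ⟨⟨h1, h2, h3, h4⟩, s8c_i h1, s8c_i ?_, s8c_i ?_, s8c_i h3⟩ <;>
    simp only [s8c_r, h2, h3, h4, mul_assoc, h.s8_nf, mul_one]

theorem s8_mul (hq : S8w T t z b s q) {v : G} (hv : v ∈ EA T b) : S8w T t z b s (q * v) := by
  have k : ∀ x ∈ EA T b, s8c (q * v) x = s8c q x := fun x hx => by
    rw [s8c_l, s8c_c.2 (h.symm.Ec hv hx)]
  obtain ⟨h1, h2, h3, h4⟩ := h.s8_B
  exact ⟨mul_mem hq.nT (le_normalizer hv.1), (k _ h1).trans hq.qt, (k _ h2).trans hq.qs,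
    (k _ h4).trans hq.qz, (k _ h3).trans hq.qb⟩

theorem s8_nB (hs : s ≠ 1) (hq : S8w T t z b s q) : q ∈ normalizer (EA T b : Set G) := by
  obtain ⟨h1, h2, h3, h4⟩ := h.s8_B
  refine h.symm.nE_of (g := q) ?_ ?_ ?_ ?_
  · exact (show s8c q t ∈ _ from hq.qt ▸ h2)
  · change s8c q w ∈ _
    rw [h.s8_w hs, s8c_r, hq.qs, hq.qz]
    exact mul_mem h1 h4
  · exact (show s8c q z ∈ _ from hq.qz.symm ▸ h4)
  · exact (show s8c q b ∈ _ from hq.qb ▸ mul_mem h1 (mul_mem h2 (mul_mem h3 h4)))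

/-- the fixed points on `E_B` -/
theorem s8_fix (hs : s ≠ 1) (hq : S8w T t z b s q) {v : G} (hv : v ∈ EA T b) (h1 : s8c q v = v) :
    v = 1 ∨ v = z ∨ v = t * s ∨ v = t * s * z := by
  obtain ⟨y, hy, e1⟩ := h.symm.memE hv
  have k : (y = 1 ∨ y = z ∨ y = t * s ∨ y = t * s * z) ∧ s8c q y = y ∨ s8c q y = y * (t * s) := by
    rcases h.memY hy.symm with k | k | k | k | k | k | k | k <;>
      simp only [k, s8c_r, s8c_one, hq.qt, hq.qs, hq.qz, mul_assoc, h.s8_nf, mul_one, true_or, or_true,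
        and_self]
  obtain ⟨n1, n2⟩ := h.s8_ne hs
  rcases e1 with rfl | rfl
  · exact (k.resolve_right fun k => n1 (mul_eq_left.1 (k.symm.trans h1))).1
  · exfalso
    rw [s8c_r, hq.qb] at h1
    rcases k with ⟨-, k⟩ | k <;> rw [k] at h1
    · have := congrArg (b * ·) (mul_left_cancel h1)
      simp only [h.s8_nf] at this
      exact n2 this
    · have := congrArg (b * ·) (mul_left_cancel ((mul_assoc _ _ _).symm.trans h1))
      simp only [mul_assoc, h.s8_nf] at this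
      exact h.dg.z1 this

theorem s8_ex (hs : s ≠ 1) (p : Pair t z s) : ∃ q, S8w T t z b s q ∧ q * q ∈ T := by
  obtain ⟨n1, n2⟩ := h.s8_ne hs
  have ts : t ≠ s := fun k => n1 (by rw [← k, h.dg.t2])
  have nc : ¬ Commute (s * b) e := fun k => h.dg.z1 (by
    have := congrArg (fun x => b * (s * (e * x))) k.eq
    simpa only [mul_assoc, h.s8_nf] using this)
  have nc' : ¬ Commute (s * b * z) e := fun k => nc (by
    have := k.mul_left (show Commute z e from h.dg.fq_ze)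
    rwa [mul_assoc, h.dg.z2, mul_one] at this)
  obtain ⟨g, hg, g1⟩ := h.ctl h.Ys p.ys
  have g2 : g * s * g⁻¹ = t := by
    have hy := h.nT_Y hg h.Ys
    rcases h.four_pts hs p hy.1 (p.ys.trans (s8c_conj g s)) with k | k | k | k
    · exact k
    · exact absurd (s8c_inj (g := g) (g1.trans k.symm)) ts
    · exact absurd (k ▸ hy.2.1) nc
    · exact absurd (k ▸ hy.2.1) nc'
  obtain ⟨u, hu, u1, u2, uu⟩ := h.two_el hg g1 g2
  have uT : u ∈ normalizer (T : Set G) := zpowers_le.2 hg hu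
  change s8c u t = s at u1
  change s8c u s = t at u2
  have u3 : s8c u z = z := h.nT_z uT
  have hc : IsConj s (s * b) := (h.s8_τ hs).2.2.1 ▸ s8c_conj τ⁻¹ s
  have key : ∀ {x}, s8c u (s * b) = x → s8c u b = t * x := fun k => by
    rw [← k, s8c_r, u2, h.s8_nf.2.1.2.1]
  rcases h.four_pts hs p (s8c_mem uT (mul_mem h.sT h.bT)) (p.ys.trans (hc.trans (s8c_conj u _))) with
    k | k | k | k
  · exact absurd ((s8c_inj (k.trans u2.symm)).symm ▸ h.se) nc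
  · exact absurd ((s8c_inj (k.trans u1.symm)).symm ▸ h.dg.te) nc
  · refine ⟨u * e, ⟨mul_mem uT (le_normalizer h.eT), ?_, ?_, ?_, ?_⟩, ?_⟩
    iterate 4 simp only [s8c_l, s8c_r, h.s8_e, u1, u2, u3, key k, mul_assoc]
    rw [show u * e * (u * e) = s8c u e * (u * u) * e by simp [s8c, mul_assoc]]
    exact mul_mem (mul_mem (s8c_mem uT h.eT) uu) h.eT
  · exact ⟨u, ⟨uT, u1, u2, u3, by rw [key k, mul_assoc]⟩, uu⟩

theorem s8_ex2 (hs : s ≠ 1) (p : Pair t z s) : ∃ q, S8w T t z b s q ∧ q * q = 1 := by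
  obtain ⟨q, hq, qq⟩ := h.s8_ex hs p
  obtain ⟨h1, h2, h3, h4⟩ := h.s8_B
  have hB : q * q ∈ EA T b := ⟨qq, mem_centralizer_singleton_iff.2 (s8c_c.1 (by
    simp only [s8c_l, s8c_r, hq.qt, hq.qs, hq.qz, hq.qb, mul_assoc, h.s8_nf, mul_one]))⟩
  have k : ∀ v, q * v * (q * v) = s8c q v * (q * q) * v := fun v => by simp [s8c, mul_assoc]
  rcases h.s8_fix hs hq hB (by simp [s8c, mul_assoc]) with e1 | e1 | e1 | e1
  · exact ⟨q, hq, e1⟩
  · refine ⟨_, h.s8_mul hq (mul_mem h2 h3), ?_⟩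
    rw [k, e1]
    simp only [s8c_r, hq.qs, hq.qb, mul_assoc, h.s8_nf, one_mul]
  · refine ⟨_, h.s8_mul hq h1, ?_⟩
    rw [k, e1]
    simp only [hq.qt, mul_assoc, h.s8_nf, one_mul]
  · refine ⟨_, h.s8_mul hq (mul_mem h1 (mul_mem h2 h3)), ?_⟩
    rw [k, e1]
    simp only [s8c_r, hq.qt, hq.qs, hq.qb, mul_assoc, h.s8_nf, one_mul]

/-- `U` is normalised -/
theorem s8_U (hq : S8w T t z b s q) : s8c q e = e ∨ s8c q e = e * z := by
  have eE : e ∈ EA T e := ⟨h.eT, mem_centralizer_singleton_iff.2 rfl⟩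
  have h1 : s8c q e ∈ EA T e := by
    rcases h.nT_E hq.nT with k | k
    · exact s8c_mem k.1 eE
    · have h2 : s8c q b ∈ EA T e := k.2 b h.s8_B.2.2.1
      have h3 := congrArg (fun x => b * (s * (t * (e * x)))) (mem_centralizer_singleton_iff.1 h2.2)
      simp only [hq.qb, mul_assoc, h.s8_nf, mul_one] at h3
      exact absurd h3.symm h.dg.z1
  have h2 : s8c q e ∈ A := by
    have k : s8c q e = s8c q ρ * z * (s8c q ρ)⁻¹ := by
      rw [← h.ρz]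
      nth_rewrite 2 [← hq.qz]
      simp [s8c, mul_assoc]
    rw [k]
    refine h.An _ (s8c_c.1 ?_) z h.zA
    rw [← hq.qs, ← s8c_c.2 h.ρs]
    nth_rewrite 1 [s8c_c.2 h.ρs]
    simp [s8c, mul_assoc]
  rcases h.EAA h1 h2 with k | k | k
  · exact absurd (s8c_inj (k.trans (s8c_one q).symm)) h.dg.fq_e1
  · exact absurd (s8c_inj (k.trans hq.qz.symm)) h.dg.fq_ez
  · exact k

theorem s8_m (hs : s ≠ 1) (tm : Tame W t z b w) (hq : S8w T t z b s q) (qq : q * q = 1) :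
    q * (τ * q * τ⁻¹) * (τ⁻¹ * q * τ) ∈ EA T b := by
  have hw := h.s8_w hs
  obtain ⟨c1, c2, c3, c4⟩ : Commute (q * (τ * q * τ⁻¹) * (τ⁻¹ * q * τ)) t ∧
      Commute (q * (τ * q * τ⁻¹) * (τ⁻¹ * q * τ)) z ∧ Commute (q * (τ * q * τ⁻¹) * (τ⁻¹ * q * τ)) b ∧
      Commute (q * (τ * q * τ⁻¹) * (τ⁻¹ * q * τ)) w := by
    simp only [← s8c_c, hw, s8c_l, s8c_r, hq.qt, hq.qs, hq.qz, hq.qb, h.s8_τ hs,
      mul_assoc, h.s8_nf, mul_one, and_self]
  obtain ⟨y, hy, o, ho, oo, e1⟩ := h.symm.decE c1 c2 c3 c4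
  have oF : EA T b ≤ centralizer {o} := by
    rw [h.symm.Eeq, closure_le]
    intro x hx
    simp only [Set.mem_insert_iff, Set.mem_singleton_iff] at hx
    rcases hx with k | k | k | k <;> rw [k] <;> refine mem_centralizer_singleton_iff.2 (Eq.symm ?_)
    exacts [ba2_zp ho c1, ba2_zp ho c4, ba2_zp ho c2, ba2_zp ho c3]
  have := m0_gen' (F := EA T b) (fun x hx => h.symm.E2 hx) (h.s8_nB hs hq) h.symm.ρE h.τ3
    (qq ▸ one_mem _) hy oo (fun x hx => (mem_centralizer_singleton_iff.1 (oF hx)).symm)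
    (h.WA o (tm o oo (ba2_zp ho c1) (ba2_zp ho c2) (ba2_zp ho c3) (ba2_zp ho c4)) τ h.τA) e1
  rwa [e1, this, mul_one]

theorem s8_v (hs : s ≠ 1) (tm : Tame W t z b w) (hq : S8w T t z b s q) (qq : q * q = 1) :
    q * (e * (τ⁻¹ * q * τ) * (e * (τ⁻¹ * q * τ))) ∈ EA T b := by
  have qi : q⁻¹ = q := inv_eq_of_mul_eq_one_right qq
  have τB := h.symm.ρE
  have hd : q⁻¹ * (e * q * e) ∈ EA T b := by
    refine ⟨?_, mem_centralizer_singleton_iff.2 (s8c_c.1 ?_)⟩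
    · rw [show q⁻¹ * (e * q * e) = s8c q⁻¹ e * e by simp [s8c, mul_assoc]]
      exact mul_mem (s8c_mem (inv_mem hq.nT) h.eT) h.eT
    · simp only [qi, s8c_l, s8c_r, hq.qt, hq.qs, hq.qz, hq.qb, h.s8_e, mul_assoc, h.s8_nf, mul_one]
  have a1 : e * τ⁻¹ = τ * e := by
    rw [← h.eτ, h.dg.fq_ei]
    simp only [mul_assoc, h.s8_nf]
  have k : q * (e * (τ⁻¹ * q * τ) * (e * (τ⁻¹ * q * τ))) = q * (τ * q * τ⁻¹) * (τ⁻¹ * q * τ) *
      s8c (τ⁻¹ * q * τ)⁻¹ (s8c τ (q⁻¹ * (e * q * e))) :=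
    calc _ = q * (e * τ⁻¹) * q * (τ * e) * (τ⁻¹ * q * τ) := by group
      _ = q * (τ * e) * q * (e * τ⁻¹) * (τ⁻¹ * q * τ) := by rw [a1]
      _ = _ := by unfold s8c; group
  rw [k]
  exact mul_mem (h.s8_m hs tm hq qq)
    (s8c_mem (inv_mem (mul_mem (mul_mem (inv_mem τB) (h.s8_nB hs hq)) τB)) (s8c_mem τB hd))

end Ab

theorem Ab.exists_f (h : Ab A W T t z e b s w ρ τ) (l : Gl E A t) (hs : s ≠ 1) (p : Pair t z s)
    (tm : Tame W t z b w) : ∃ f ∈ E, F8 t z e b s f := by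
  obtain ⟨q, hq, qq⟩ := h.s8_ex2 hs p
  have hv := h.s8_v hs tm hq qq
  obtain ⟨f1, f2, f3⟩ : s8c (τ⁻¹ * q * τ) t = s * b ∧ s8c (τ⁻¹ * q * τ) s = s * b * z ∧
      s8c (e * (τ⁻¹ * q * τ)) z = t * s := by
    simp only [s8c_l, s8c_r, hq.qt, hq.qs, hq.qz, hq.qb, h.s8_τ hs, h.s8_e, mul_assoc, h.s8_nf,
      mul_one, and_self]
  have ff : τ⁻¹ * q * τ * (τ⁻¹ * q * τ) = 1 := by
    rw [show τ⁻¹ * q * τ * (τ⁻¹ * q * τ) = τ⁻¹ * (q * q) * τ by group, qq, mul_one, inv_mul_cancel]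
  have fE : q ∈ E → τ⁻¹ * q * τ ∈ E := fun k =>
    mul_mem (mul_mem (inv_mem (l.le h.τA)) k) (l.le h.τA)
  generalize τ⁻¹ * q * τ = f at hv f1 f2 f3 ff fE
  have fi : f⁻¹ = f := inv_eq_of_mul_eq_one_right ff
  set x := e * f * (e * f) with hx
  have e1 : q * (q * x) = x := by rw [← mul_assoc, qq, one_mul]
  have k1 : s8c x e = x * x * e := by
    simp only [hx, s8c, mul_inv_rev, fi, h.dg.fq_ei, mul_assoc]
  have xx : x * x = 1 := by
    rcases h.s8_U (e1 ▸ h.s8_mul hq hv) with k | k <;> rw [k1] at k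
    · exact mul_eq_right.1 k
    · rw [← h.dg.fq_ze] at k
      have k2 : s8c (e * f) (x * x) = x * x := by simp only [hx, s8c]; group
      rw [mul_right_cancel k, f3] at k2
      exact absurd (by rw [← mul_assoc, k2, h.dg.z2]) (h.s8_ne hs).2
  have k3 : s8c q (q * x) = q * x := by
    rw [s8c, e1, inv_eq_of_mul_eq_one_right qq]
    refine (eq_inv_of_mul_eq_one_left ?_).trans (inv_eq_of_mul_eq_one_right (h.symm.E2 hv))
    rw [mul_assoc, e1, xx]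
  have zE := l.le h.zA
  have tsE : t * s ∈ E := by
    have := l.comm h.dg.t2 t q
    rwa [inv_eq_of_mul_eq_one_right h.dg.t2, mul_assoc, mul_assoc, ← mul_assoc q, show q * t * q⁻¹ = s from hq.qt]
      at this
  have vE : q * x ∈ E := by
    rcases h.s8_fix hs hq hv k3 with k | k | k | k <;> rw [k]
    exacts [one_mem _, zE, tsE, mul_mem tsE zE]
  refine ⟨f, fE ((mul_mem_cancel_right (l.sq h.dg.t2 _)).1 vE), ff, f1, f2, ?_⟩
  rw [← xx, hx]
  simp only [pow_succ, pow_zero, one_mul, mul_assoc]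

end CfsgLib.A7S
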