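import Cfsg.Agent.Lib.A7S.Ba2

/-! TRI: `t z` is not conjugate to `t` (plans/A7S.md) -/

set_option autoImplicit false
set_option linter.unusedSectionVars false

namespace CfsgLib.A7S

open Subgroup Cfsg CfsgLib.Tech CfsgLib.Dih8 CfsgLib.D8S

variable {G : Type*} [Group G] [Finite G] {A W T E S : Subgroup G} {t z e b s w ρ τ η g q c y : G}

theorem tri_cj (g a : G) : IsConj a (g * a * g⁻¹) := isConj_iff.2 ⟨g, rfl⟩

theorem tri_inj {a x : G} (h : g * a * g⁻¹ = g * x * g⁻¹) : a = x := by simpa using h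

theorem tri_inv {a x : G} (h : g * a * g⁻¹ = x) : g⁻¹ * x * g⁻¹⁻¹ = a := by rw [← h]; group

namespace Ab

variable (h : Ab A W T t z e b s w ρ τ)
include h

theorem tri_w (hs : s ≠ 1) : w = s * z := (h.sw.resolve_left fun a => hs a.1).1

theorem tri_s (hs : s ≠ 1) : s = w * z := by rw [h.tri_w hs, mul_assoc, h.dg.z2, mul_one]

theorem tri_τt : τ * t * τ⁻¹ = t := by rw [(h.AC τ h.τA).eq, mul_inv_cancel_right]

/-- `τ` maps `s` to `s b z` and `s b` to `s` -/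
theorem tri_τs (hs : s ≠ 1) : τ * s * τ⁻¹ = s * b * z ∧ τ * (s * b) * τ⁻¹ = s := by
  have h1 : τ * w * τ⁻¹ = w := by rw [h.τw.eq, mul_inv_cancel_right]
  have h2 : τ * s * τ⁻¹ = s * b * z := by
    conv_lhs => rw [h.tri_s hs]
    rw [← conj_mul, h1, h.τz, h.tri_w hs, mul_assoc, mul_assoc, h.dg.fq_zb]
  refine ⟨h2, ?_⟩
  rw [← conj_mul, h2, h.τb, mul_assoc, mul_assoc, ← mul_assoc z, h.dg.fq_zb, mul_assoc b z, h.dg.z2,
    mul_one, h.dg.b2, mul_one]

theorem tri_τz : τ * (b * z) * τ⁻¹ = z := by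
  rw [← conj_mul, h.τb, h.τz, mul_assoc, h.dg.fq_zb, h.dg.fq_bb]

theorem tri_bE : b ∈ EA T b := ⟨h.bT, mem_centralizer_singleton_iff.2 rfl⟩

theorem tri_nyz (hz : ¬ IsConj t (t * z)) (hy : InY T e b y) (hc : IsConj t y) : ¬ IsConj t (y * z) := by
  obtain ⟨k, hk, e1⟩ := h.ctl hy hc
  intro c1
  have := tri_cj k (t * z)
  rw [← conj_mul, e1, h.nT_z hk] at this
  exact hz (c1.trans this.symm)

/-- the conjugates of `t` in `Y` -/
theorem tri_Y (hz : ¬ IsConj t (t * z)) (hy : InY T e b y) (hc : IsConj t y) :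
    y = t ∨ y = s ∨ y = s * z ∨ y = t * s ∨ y = t * s * z := by
  rcases h.memY hy with a | a | a | a | a
  · exact absurd (isConj_one_left.1 (a ▸ hc)) h.t1
  · exact absurd (a ▸ hc) h.nz
  · exact .inl a
  · exact absurd (a ▸ hc) hz
  · exact .inr a

/-- the conjugates of `t` in `E_A` -/
theorem tri_E (hy : y ∈ EA T e) (hc : IsConj t y) :
    ∃ x, InY T e b x ∧ IsConj t x ∧ (y = x ∨ ρ * y * ρ⁻¹ = x ∨ y = ρ * x * ρ⁻¹) := by
  rcases h.ρY hy with a | a | a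
  · exact ⟨y, a, hc, .inl rfl⟩
  · exact ⟨_, a, hc.trans (tri_cj ρ y), .inr (.inl rfl)⟩
  · exact ⟨_, a, hc.trans (isConj_iff.2 ⟨ρ⁻¹, by group⟩), .inr (.inr (by group))⟩

theorem tri_ne (hs : s ≠ 1) : t ≠ s ∧ t ≠ t * s * z ∧ t ≠ t * s := by
  have h1 := (h.sw.resolve_left fun a => hs a.1).2
  have hz : z ∈ closure ({t, e, b} : Set G) :=
    closure_mono (by intro x hx; exact .inr hx) h.dg.fq_z_mem
  refine ⟨fun a => h1 (a ▸ subset_closure (.inl rfl)), fun a => h1 ?_, fun a => hs (by simpa using a)⟩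
  rw [mul_assoc, left_eq_mul, mul_eq_one_iff_eq_inv] at a
  exact a ▸ inv_mem hz

end Ab

/-- the mixed triple `t, s, t s z` -/
theorem Ab.mixed (h : Ab A W T t z e b s w ρ τ) (hs : s ≠ 1) (hg : g ∈ normalizer (T : Set G))
    (hB : g ∈ normalizer (EA T b : Set G)) (h1 : g * (t * s * z) * g⁻¹ = t) (h2 : g * t * g⁻¹ = s) : False := by
  have hw : τ * w * τ⁻¹ = w := by rw [h.τw.eq, mul_inv_cancel_right]
  have k1 : g * τ * g⁻¹ * s * (g * τ * g⁻¹)⁻¹ = s := by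
    calc _ = g * (τ * (g⁻¹ * s * g⁻¹⁻¹) * τ⁻¹) * g⁻¹ := by group
      _ = s := by rw [tri_inv h2, h.tri_τt, h2]
  have k2 : g * τ * g⁻¹ * t * (g * τ * g⁻¹)⁻¹ = t := by
    calc _ = g * (τ * (g⁻¹ * t * g⁻¹⁻¹) * τ⁻¹) * g⁻¹ := by group
      _ = t := by
        rw [tri_inv h1, mul_assoc t, ← h.tri_w hs, ← conj_mul (b := τ), h.tri_τt, hw, h.tri_w hs, ← mul_assoc t, h1]
  have k3 : g * τ * g⁻¹ * z * (g * τ * g⁻¹)⁻¹ = g * b * g⁻¹ := by
    calc _ = g * (τ * (g⁻¹ * z * g⁻¹⁻¹) * τ⁻¹) * g⁻¹ := by group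
      _ = _ := by rw [tri_inv (h.nT_z hg), h.τz]
  have kc : Commute (g * τ * g⁻¹) t := mul_inv_eq_iff_eq_mul.1 k2
  have τc : Commute τ t := h.AC τ h.τA
  have k4 := h.symm.EAA (conj_mem_of_mem_normalizer hB h.tri_bE) (k3 ▸ h.An _ kc z h.zA)
  have fin : ∀ c, Commute c t → c * (s * z) * c⁻¹ = s → False := fun c hc e1 => by
    have := h.nof c (s * z) hc (h.Ys.mul h.Yz) (e1.symm ▸ h.Ys)
    rw [e1, left_eq_mul] at this
    exact h.dg.z1 this
  rcases k4 with a | a | a | a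
  · exact h.dg.fq_symm.fq_e1 (tri_inj (g := g) (by rw [a, mul_one, mul_inv_cancel]))
  · exact h.dg.fq_symm.fq_ez (tri_inj (a.trans (h.nT_z hg).symm))
  · refine fin (τ * (g * τ * g⁻¹)) (τc.mul_left kc) ?_
    calc _ = τ * (g * τ * g⁻¹ * (s * z) * (g * τ * g⁻¹)⁻¹) * τ⁻¹ := by group
      _ = s := by rw [← conj_mul (b := g * τ * g⁻¹), k1, k3, a, (h.tri_τs hs).2]
  · refine fin (τ⁻¹ * (g * τ * g⁻¹)) (τc.inv_left.mul_left kc) ?_
    calc _ = τ⁻¹ * (g * τ * g⁻¹ * (s * z) * (g * τ * g⁻¹)⁻¹) * τ⁻¹⁻¹ := by group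
      _ = s := by rw [← conj_mul (b := g * τ * g⁻¹), k1, k3, a, ← mul_assoc s, tri_inv (h.tri_τs hs).1]

theorem Ab.tri_mix (h : Ab A W T t z e b s w ρ τ) (hz : ¬ IsConj t (t * z)) (hs : s ≠ 1) (a1 : IsConj t s)
    (a4 : IsConj t (t * s * z)) : False := by
  have Y4 : InY T e b (t * s * z) := (h.Yt.mul h.Ys).mul h.Yz
  have D : ∀ x, InY T e b x → IsConj t x → x = t ∨ x = s ∨ x = t * s * z := fun x hx c1 => by
    rcases h.tri_Y hz hx c1 with a | a | a | a | a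
    exacts [.inl a, .inr (.inl a), absurd (a ▸ c1) (h.tri_nyz hz h.Ys a1),
      absurd a4 (h.tri_nyz hz (h.Yt.mul h.Ys) (a ▸ c1)), .inr (.inr a)]
  obtain ⟨k0, hk0, e0⟩ := h.ctl Y4 a4
  obtain ⟨k, hk, e1⟩ : ∃ k ∈ normalizer (T : Set G), k * (t * s * z) * k⁻¹ = t := ⟨_, inv_mem hk0, tri_inv e0⟩
  obtain ⟨n1, n2, -⟩ := h.tri_ne hs
  have e3 := D _ (h.nT_Y hk h.Ys) (a1.trans (tri_cj k s))
  have nt : k * t * k⁻¹ ≠ t := fun a => n2 (tri_inj (a.trans e1.symm))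
  have ns : k * s * k⁻¹ ≠ s := fun a => nt (h.reg hk h.Ys a1 a h.Yt)
  have e4 : k * s * k⁻¹ = t * s * z := by
    rcases e3 with a | a | a
    · have := tri_inj (a.trans e1.symm)
      rw [mul_assoc, h.sz.eq, ← mul_assoc, right_eq_mul] at this
      exact absurd this (h.indep h.dg.fq_z_mem).1
    · exact absurd a ns
    · exact a
  have e5 : k * t * k⁻¹ = s := by
    rcases D _ (h.nT_Y hk h.Yt) (tri_cj k t) with a | a | a
    · exact absurd a nt
    · exact a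
    · exact absurd (tri_inj (a.trans e4.symm)) n1
  have sq : ∀ x, k * k * x * (k * k)⁻¹ = k * (k * x * k⁻¹) * k⁻¹ := fun x => by group
  have sq' : ∀ x, k * k * (k * k) * x * (k * k * (k * k))⁻¹ = k * k * (k * k * x * (k * k)⁻¹) * (k * k)⁻¹ :=
    fun x => by group
  exact h.mixed hs (mul_mem (mul_mem hk hk) (mul_mem hk hk)) (h.nT_sq (mul_mem hk hk)).2
    (by rw [sq', sq, sq, e1, e5, e4, e1]) (by rw [sq', sq, sq, e5, e4, e1, e5])

theorem Ab.tri_same (h : Ab A W T t z e b s w ρ τ) (hz : ¬ IsConj t (t * z)) (hs : s ≠ 1) (a1 : IsConj t s)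
    (a3 : IsConj t (t * s)) : False := by
  have D : ∀ x, InY T e b x → IsConj t x → x = t ∨ x = s ∨ x = t * s := fun x hx c1 => by
    rcases h.tri_Y hz hx c1 with a | a | a | a | a
    exacts [.inl a, .inr (.inl a), absurd (a ▸ c1) (h.tri_nyz hz h.Ys a1), .inr (.inr a),
      absurd (a ▸ c1) (h.tri_nyz hz (h.Yt.mul h.Ys) a3)]
  obtain ⟨k, hk, e1⟩ := h.ctl h.Ys a1
  obtain ⟨n1, -, -⟩ := h.tri_ne hs
  have e2 : k * s * k⁻¹ = t * s := by
    rcases D _ (h.nT_Y hk h.Ys) (a1.trans (tri_cj k s)) with a | a | a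
    · refine absurd ((h.reg hk (h.Yt.mul h.Ys) a3 ?_ h.Yt).symm.trans e1) n1
      rw [← conj_mul, e1, a, h.st.eq]
    · exact absurd (tri_inj (e1.trans a.symm)) n1
    · exact a
  have e3 : k * k * t * (k * k)⁻¹ = t * s := by
    rw [← e2, ← e1]; group
  have hk2 := mul_mem hk hk
  have hB := (h.nT_sq hk).2
  obtain ⟨τ1, τ2⟩ := h.tri_τs hs
  have sbE : s * b ∈ EA T b :=
    ⟨mul_mem h.sT h.bT, mem_centralizer_singleton_iff.2 (h.sb.mul_left (Commute.refl b)).eq⟩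
  have c1 : IsConj t (s * b) := a1.trans (τ2 ▸ tri_cj τ (s * b)).symm
  have c2 : IsConj t (t * (s * b)) := by
    have := tri_cj τ (t * (s * b))
    rw [← conj_mul, h.tri_τt, τ2] at this
    exact a3.trans this.symm
  have c3 : IsConj t (t * s * (k * k * (s * b) * (k * k)⁻¹)) := by
    rw [← e3, conj_mul]; exact c2.trans (tri_cj _ _)
  have nb : ¬ IsConj t (t * b) := fun a => hz (by
    have := tri_cj τ (t * z)
    rw [← conj_mul, h.tri_τt, h.τz] at this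
    exact a.trans this.symm)
  have nbz : ¬ IsConj t (t * (b * z)) := fun a => hz (by
    have := tri_cj τ (t * (b * z))
    rw [← conj_mul, h.tri_τt, h.tri_τz] at this
    exact a.trans this)
  have nY : ¬ InY T e b (k * k * (s * b) * (k * k)⁻¹) := fun a => by
    have := (h.nT_Y (inv_mem hk2) a).2.1
    rw [tri_inv rfl] at this
    have h3 := (h.se.inv_left.mul_left this).eq
    rw [inv_mul_cancel_left] at h3
    exact h.dg.fq_ncomm h3.symm
  have ss : ∀ x, s * (s * x) = x := fun x => by rw [← mul_assoc, h.s2, one_mul]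
  have ts : ∀ x, t * s * (t * (s * x)) = x := fun x => by
    rw [← mul_assoc t s x, ← mul_assoc, h.Y2 (h.Yt.mul h.Ys), one_mul]
  obtain ⟨x, hx, c4, a⟩ := h.symm.tri_E (conj_mem_of_mem_normalizer hB sbE) (c1.trans (tri_cj _ _))
  generalize k * k * (s * b) * (k * k)⁻¹ = u at *
  have τt := h.tri_τt
  rcases a with a | a | a
  · exact nY (a ▸ hx.symm)
  · rcases D x hx.symm c4 with rfl | rfl | rfl
    · exact nY (tri_inj (a.trans τt.symm) ▸ h.Yt)
    · rw [tri_inj (a.trans τ2.symm), mul_assoc, ss] at c3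
      exact nb c3
    · rw [tri_inj (g := τ) (a := u) (x := t * (s * b)) (by rw [a, ← conj_mul, τt, τ2]), ts] at c3
      exact h.nA h.bA c3
  · rcases D x hx.symm c4 with rfl | rfl | rfl
    · exact nY (a.trans τt ▸ h.Yt)
    · rw [a, τ1, mul_assoc, mul_assoc, ss] at c3
      exact nbz c3
    · rw [a, ← conj_mul, τt, τ1, mul_assoc s, ts] at c3
      exact h.nA (mul_mem h.bA h.zA) c3

theorem Ab.tri (h : Ab A W T t z e b s w ρ τ) (hz : ¬ IsConj t (t * z)) (hy : InY T e b y) (hc : IsConj t y)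
    (y1 : y ≠ t) : s ≠ 1 ∧ (Pair t z s ∨ Pair t z (t * s) ∨ Pair t z w ∨ Pair t z (t * w)) := by
  have hs : s ≠ 1 := fun hs => by
    rcases h.tri_Y hz hy hc with a | a | a | a | a
    · exact y1 a
    · exact h.t1 (isConj_one_left.1 (hs ▸ a ▸ hc))
    · exact h.nz (by rwa [a, hs, one_mul] at hc)
    · exact y1 (by rw [a, hs, mul_one])
    · exact hz (by rwa [a, hs, mul_one] at hc)
  have hw := h.tri_w hs
  have hw' := h.tri_s hs
  have w1 : w ≠ 1 := fun a => (h.tri_ne hs).2.1 (by rw [mul_assoc, ← hw, a, mul_one])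
  have tt : ∀ x, t * (t * x) = x := fun x => by rw [← mul_assoc, h.dg.t2, one_mul]
  have ts1 : t * s ≠ 1 := fun a => (h.tri_ne hs).1 (by rw [← tt s, a, mul_one])
  have x12 : IsConj t s → ¬ IsConj t (s * z) := h.tri_nyz hz h.Ys
  have x34 : IsConj t (t * s) → ¬ IsConj t (t * s * z) := h.tri_nyz hz (h.Yt.mul h.Ys)
  have x13 : IsConj t s → ¬ IsConj t (t * s) := h.tri_same hz hs
  have x14 : IsConj t s → ¬ IsConj t (t * s * z) := h.tri_mix hz hs
  have x24 : IsConj t (s * z) → ¬ IsConj t (t * s * z) := fun a c =>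
    h.symm.tri_same hz w1 (hw ▸ a) (by rwa [hw, ← mul_assoc])
  have x23 : IsConj t (t * s) → ¬ IsConj t (s * z) := fun a c =>
    (h.twist hs).tri_mix hz ts1 a (by rwa [tt])
  refine ⟨hs, ?_⟩
  rcases h.tri_Y hz hy hc with a | a | a | a | a
  · exact absurd a y1
  all_goals rw [a] at hc
  · exact .inl ⟨hc, hz, x12 hc, x13 hc, x14 hc⟩
  · refine .inr (.inr (.inl ⟨hw ▸ hc, hz, hw' ▸ fun c => x12 c hc, ?_, ?_⟩))
    · rw [hw, ← mul_assoc]; exact x24 hc
    · rw [mul_assoc, ← hw']; exact fun c => x23 c hc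
  · refine .inr (.inl ⟨hc, hz, x34 hc, ?_, ?_⟩)
    · rw [tt]; exact fun c => x13 c hc
    · rw [tt]; exact x23 hc
  · refine .inr (.inr (.inr ⟨by rwa [hw, ← mul_assoc], hz, ?_, ?_, ?_⟩))
    · rw [mul_assoc, ← hw']; exact fun c => x34 c hc
    · rw [tt, hw]; exact fun c => x24 c hc
    · rw [tt, ← hw']; exact fun c => x14 c hc

/-- the conjugates of `t` in `T` -/
theorem Ab.four_pts (h : Ab A W T t z e b s w ρ τ) (hs : s ≠ 1) (p : Pair t z s) (hy : y ∈ T) (hc : IsConj t y) :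
    y = t ∨ y = s ∨ y = s * b ∨ y = s * b * z := by
  have D : ∀ x, InY T e b x → IsConj t x → x = t ∨ x = s := fun x hx c1 => by
    rcases h.tri_Y p.n1 hx c1 with a | a | a | a | a
    exacts [.inl a, .inr a, absurd (a ▸ c1) p.n2, absurd (a ▸ c1) p.n3, absurd (a ▸ c1) p.n4]
  have y2 : y * y = 1 := by
    obtain ⟨k, rfl⟩ := isConj_iff.1 hc
    rw [conj_mul, h.dg.t2, mul_one, mul_inv_cancel]
  have ρt := h.symm.tri_τt
  have ρs : ρ * s * ρ⁻¹ = s := by rw [h.ρs.eq, mul_inv_cancel_right]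
  have τt := h.tri_τt
  obtain ⟨τ1, τ2⟩ := h.tri_τs hs
  rcases h.invT hy y2 with a | a
  · obtain ⟨x, hx, c1, a | a | a⟩ := h.tri_E a hc <;> rcases D x hx c1 with rfl | rfl
    exacts [.inl a, .inr (.inl a), .inl (tri_inj (a.trans ρt.symm)), .inr (.inl (tri_inj (a.trans ρs.symm))),
      .inl (a.trans ρt), .inr (.inl (a.trans ρs))]
  · obtain ⟨x, hx, c1, a | a | a⟩ := h.symm.tri_E a hc <;> rcases D x hx.symm c1 with rfl | rfl
    exacts [.inl a, .inr (.inl a), .inl (tri_inj (a.trans τt.symm)),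
      .inr (.inr (.inl (tri_inj (a.trans τ2.symm)))), .inl (a.trans τt), .inr (.inr (.inr (a.trans τ1)))]

end CfsgLib.A7S
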